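import Cfsg.Agent.Lib.SubThree.PSLFixed
import Cfsg.Agent.Lib.GW.FieldPart
import Cfsg.Agent.Lib.AutPSL.Classes
import Cfsg.Agent.Lib.AutPSL.Centralizer
import Cfsg.Agent.Lib.Classical.PSL2Involutions
import Cfsg.Agent.Lib.EPPO.PSL

/-!
Facts on involutory automorphisms and maximal subgroups `S₄` of `PSL(2, q)`.
-/

set_option autoImplicit false
set_option linter.style.haveILetI false
set_option linter.unusedSectionVars false

namespace Cfsg.Agent.SubThree

open Matrix Cfsg.Agent.AutPSL Cfsg.Agent.GW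

theorem four_dvd_card {P : Type*} [Group P] [Finite P] {D : Subgroup P} {x y : P} (hx : x ∈ D)
    (hy : y ∈ D) (hxx : x * x = 1) (hyy : y * y = 1) (hx1 : x ≠ 1) (hy1 : y ≠ 1) (hne : x ≠ y)
    (hc : x * y = y * x) : 4 ∣ Nat.card D := by
  classical
  have hK : IsKleinFour (FourGroup.four x y hxx hyy hc) := by
    exact FourGroup.isKleinFour_four hx1 hy1 hne
  rw [← (IsKleinFour.card_four (G := FourGroup.four x y hxx hyy hc))]
  refine Subgroup.card_dvd_of_le fun z hz => ?_
  rcases FourGroup.mem_four.1 hz with rfl | rfl | rfl | rfl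
  exacts [one_mem D, hx, hy, mul_mem hx hy]

theorem klein_le {P : Type*} [Group P] {V D : Subgroup P} (hV : IsKleinFour V) {a b : P}
    (ha : a ∈ V) (hb : b ∈ V) (ha1 : a ≠ 1) (hb1 : b ≠ 1) (hab : a ≠ b) (haD : a ∈ D) (hbD : b ∈ D) :
    V ≤ D := by
  intro v hv
  rw [FourGroup.eq_four hV ha hb ha1 hb1 hab] at hv
  rcases FourGroup.mem_four.1 hv with rfl | rfl | rfl | rfl
  exacts [one_mem D, haD, hbD, mul_mem haD hbD]

variable {F : Type} [Field F] [Fintype F]

local notation "PSL2" => Matrix.ProjectiveSpecialLinearGroup (Fin 2) F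
local notation "GL2" => GL (Fin 2) F
local notation "SL2" => Matrix.SpecialLinearGroup (Fin 2) F
local notation "M2" => Matrix (Fin 2) (Fin 2) F

theorem center_trivial (h3 : 3 < Fintype.card F) : Subgroup.center PSL2 = ⊥ := by
  haveI : IsSimpleGroup PSL2 :=
    Matrix.ProjectiveSpecialLinearGroup.rank_two_simple (by rw [Nat.card_eq_fintype_card]; omega)
  refine (IsSimpleGroup.eq_bot_or_eq_top_of_normal _ inferInstance).resolve_right fun h => ?_
  have hall : ∀ a b : PSL2, a * b = b * a := fun a b =>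
    Subgroup.mem_center_iff.1 (h ▸ Subgroup.mem_top b) a
  letI : CommGroup PSL2 := { (inferInstance : Group PSL2) with mul_comm := hall }
  haveI : IsSimpleGroup PSL2 := inferInstance
  have hp : (Nat.card PSL2).Prime := IsSimpleGroup.prime_card
  have hcard := (Subgroup.center SL2).card_mul_index
  rw [SL2Inv.card_sl2, Subgroup.index_eq_card, Nat.card_eq_fintype_card (α := F)] at hcard
  change Nat.card (Subgroup.center SL2) * Nat.card PSL2 = _ at hcard
  have h6 : 2 * 3 ∣ Fintype.card F * (Fintype.card F - 1) * (Fintype.card F + 1) := by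
    obtain ⟨r, hr⟩ : ∃ r, Fintype.card F = r + 1 := ⟨Fintype.card F - 1, by omega⟩
    rw [hr, Nat.add_sub_cancel]
    have hm : r % 6 = 0 ∨ r % 6 = 1 ∨ r % 6 = 2 ∨ r % 6 = 3 ∨ r % 6 = 4 ∨ r % 6 = 5 := by omega
    apply Nat.dvd_of_mod_eq_zero
    rcases hm with e | e | e | e | e | e <;> simp [Nat.mul_mod, Nat.add_mod, e]
  rw [← hcard] at h6
  have hc2 : Nat.card (Subgroup.center SL2) = 1 ∨ Nat.card (Subgroup.center SL2) = 2 := by
    have := card_center_le (F := F)
    have : 0 < Nat.card (Subgroup.center SL2) := Nat.card_pos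
    omega
  have h3p : 3 ∣ Nat.card PSL2 := by
    have h3' : 3 ∣ Nat.card (Subgroup.center SL2) * Nat.card PSL2 := (dvd_mul_left 3 2).trans h6
    rcases (Nat.Prime.dvd_mul Nat.prime_three).1 h3' with e | e
    · rcases hc2 with e' | e' <;> rw [e'] at e <;> omega
    · exact e
  have hP3 : Nat.card PSL2 = 3 := ((Nat.prime_dvd_prime_iff_eq Nat.prime_three hp).1 h3p).symm
  rw [hP3] at hcard
  have h4 : 4 * 3 * 5 ≤ Fintype.card F * (Fintype.card F - 1) * (Fintype.card F + 1) :=
    Nat.mul_le_mul (Nat.mul_le_mul (by omega) (by omega)) (by omega)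
  rcases hc2 with e | e <;> rw [e] at hcard <;> omega

/-- The centraliser of an involution. -/
theorem card_cent_invol (hodd : Odd (Fintype.card F)) {x : PSL2} (hx : x * x = 1) (hx1 : x ≠ 1) :
    4 ∣ Nat.card (Subgroup.centralizer ({x} : Set PSL2)) ∧
      (Nat.card (Subgroup.centralizer ({x} : Set PSL2)) + 1 = Fintype.card F ∨
        Nat.card (Subgroup.centralizer ({x} : Set PSL2)) = Fintype.card F + 1) := by
  have h2 := two_ne_zero_of_odd hodd
  obtain ⟨c, hc⟩ := isConj_iff.1 (PSL2Inv.isConj_pr_w h2 hx hx1)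
  have hmap : (Subgroup.centralizer ({PSL2Inv.pr (SL2Inv.w : SL2)} : Set PSL2)).map
      (MulAut.conj c).toMonoidHom = Subgroup.centralizer ({x} : Set PSL2) := by
    ext y
    rw [Subgroup.mem_map_equiv, Subgroup.mem_centralizer_singleton_iff,
      Subgroup.mem_centralizer_singleton_iff, MulAut.conj_symm_apply, ← hc]
    constructor
    · intro h
      calc y * (c * _ * c⁻¹) = c * (c⁻¹ * y * c * PSL2Inv.pr SL2Inv.w) * c⁻¹ := by group
        _ = _ := by rw [h]; group
    · intro h
      calc c⁻¹ * y * c * _ = c⁻¹ * (y * (c * PSL2Inv.pr SL2Inv.w * c⁻¹)) * c := by group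
        _ = _ := by rw [h]; group
  rw [← hmap, Subgroup.card_map_of_injective (MulAut.conj c).injective,
    PSL2Inv.card_centralizer h2, SL2Inv.card_C h2, Nat.card_eq_fintype_card]
  obtain ⟨r, hr⟩ := hodd
  split_ifs <;> omega

/-- The fixed groups of involutory automorphisms with non-commutative fixed groups. -/
theorem fixed_cases (hodd : Odd (Fintype.card F)) (h3 : 3 < Fintype.card F) {α : MulAut PSL2}
    (hα : α * α = 1) (hα1 : α ≠ 1)
    (hnc : ∃ a ∈ fixedGroup α, ∃ b ∈ fixedGroup α, a * b ≠ b * a) :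
    ((Nat.card (fixedGroup α) % 4 = 0 ∨ Nat.card (fixedGroup α) % 4 = 2) ∧
      (Nat.card (fixedGroup α) + 1 = Fintype.card F ∨ Nat.card (fixedGroup α) = Fintype.card F + 1)) ∨
    (4 ∣ Nat.card (fixedGroup α) ∧ fldHom α ≠ 1) := by
  classical
  have h2 := two_ne_zero_of_odd hodd
  by_cases hf : fldHom α = 1
  swap
  · obtain ⟨x, y, hx, hx1, hy, hy1, hxy, hc, hfx, hfy⟩ := field_fix_four hodd hα hf
    exact Or.inr ⟨four_dvd_card (mem_fixedGroup.2 hfx) (mem_fixedGroup.2 hfy) hx hy hx1 hy1 hxy hc, hf⟩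
  left
  obtain ⟨g, σ, rfl⟩ := exists_semi α
  rw [fldHom_semi] at hf
  subst hf
  by_cases hin : (semi g 1 : MulAut PSL2) ∈ (MulAut.conj : PSL2 →* MulAut PSL2).range
  · obtain ⟨x, hx⟩ := hin
    rw [← hx] at hα hα1 ⊢
    have hx1 : x ≠ 1 := fun e => hα1 (by rw [e, map_one])
    have hxx : x * x = 1 := by
      refine Subgroup.mem_bot.1 (center_trivial h3 ▸ Subgroup.mem_center_iff.2 fun y => ?_)
      have h := DFunLike.congr_fun hα y
      simp only [MulAut.mul_apply, MulAut.conj_apply, MulAut.one_apply] at h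
      calc y * (x * x) = (x * (x * y * x⁻¹) * x⁻¹) * (x * x) := by rw [h]
        _ = x * x * y := by group
    have hfx : fixedGroup (MulAut.conj x) = Subgroup.centralizer ({x} : Set PSL2) := by
      ext y
      rw [mem_fixedGroup, Subgroup.mem_centralizer_singleton_iff, MulAut.conj_apply,
        mul_inv_eq_iff_eq_mul]
      exact eq_comm
    rw [hfx]
    obtain ⟨h4, hq⟩ := card_cent_invol hodd hxx hx1
    exact ⟨Or.inl (Nat.mod_eq_zero_of_dvd h4 ▸ rfl), hq⟩
  -- the diagonal case
  have htr : g.1 1 1 = -g.1 0 0 := by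
    have hγ2 := hα
    rw [semi_mul', mapGL_one, one_mul, semi_eq_one_iff le_rfl] at hγ2
    obtain ⟨-, c, hc⟩ := hγ2
    have hc' := congrArg Units.val hc
    rw [Units.val_mul, GeneralLinearGroup.coe_scalar, ← Matrix.ext_iff] at hc'
    simp [Fin.forall_fin_two, Matrix.mul_apply, Fin.sum_univ_two] at hc'
    obtain ⟨⟨e00, e01⟩, e10, e11⟩ := hc'
    by_contra htr
    have ht : g.1 0 0 + g.1 1 1 ≠ 0 := fun e => htr (by linear_combination e)
    have h01 : g.1 0 1 = 0 := by
      have : g.1 0 1 * (g.1 0 0 + g.1 1 1) = 0 := by linear_combination e01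
      exact (mul_eq_zero.1 this).resolve_right ht
    have h10 : g.1 1 0 = 0 := by
      have : g.1 1 0 * (g.1 0 0 + g.1 1 1) = 0 := by linear_combination e10
      exact (mul_eq_zero.1 this).resolve_right ht
    have hd : g.1 0 0 = g.1 1 1 := by
      have : (g.1 0 0 - g.1 1 1) * (g.1 0 0 + g.1 1 1) = 0 := by linear_combination e00 - e11
      exact sub_eq_zero.1 ((mul_eq_zero.1 this).resolve_right ht)
    refine hin ⟨1, ?_⟩
    rw [map_one, eq_comm, semi_eq_one_iff le_rfl]
    have h00 : g.1 0 0 ≠ 0 := fun e0 =>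
      ((Matrix.isUnit_iff_isUnit_det _).1 g.isUnit).ne_zero (by
        rw [Matrix.det_fin_two, e0, h01]; ring)
    refine ⟨rfl, Units.mk0 _ h00, Units.ext (Matrix.ext fun a b => ?_)⟩
    fin_cases a <;> fin_cases b <;> simp [h01, h10, ← hd]
  obtain ⟨d, hd⟩ : ∃ d, OuterData g d := by
    refine ⟨_, htr, rfl, fun hsq => hin ?_⟩
    rw [semi_mem_inn le_rfl]
    obtain ⟨s, hs⟩ := hsq
    have hdet : g.1.det = s * s := by
      rw [← hs, Matrix.det_fin_two, htr]; ring
    have hs0 : s ≠ 0 := fun e => ((Matrix.isUnit_iff_isUnit_det _).1 g.isUnit).ne_zero (by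
      rw [hdet, e, mul_zero])
    exact ⟨Units.mk0 s hs0, Units.ext (by simp [pow_two, hdet])⟩
  obtain ⟨k, hk⟩ : ∃ k : SL2, g.1 * k.1 = -(k.1 * g.1) := by
    by_contra hno
    push Not at hno
    obtain ⟨a, ha, b, hb, hab⟩ := hnc
    obtain ⟨u, rfl⟩ := PSL2Inv.pr_surjective a
    obtain ⟨v, rfl⟩ := PSL2Inv.pr_surjective b
    have hu := ((semi_fix_iff g u).1 (mem_fixedGroup.1 ha)).resolve_right (hno u)
    have hv := ((semi_fix_iff g v).1 (mem_fixedGroup.1 hb)).resolve_right (hno v)
    obtain ⟨x, y, hxy⟩ := hd.commutant h2 hu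
    obtain ⟨x', y', hxy'⟩ := hd.commutant h2 hv
    refine hab ?_
    rw [← map_mul, ← map_mul]
    refine congrArg _ (Subtype.ext ?_)
    rw [Matrix.SpecialLinearGroup.coe_mul, Matrix.SpecialLinearGroup.coe_mul, hxy, hxy']
    simp only [add_mul, mul_add, Matrix.smul_mul, Matrix.mul_smul, one_mul, mul_one, smul_smul,
      mul_comm x, mul_comm y]
    abel
  obtain ⟨h4, hq⟩ := hd.fixed_order hodd hk
  exact ⟨Or.inr h4, hq⟩

/-- The fixed group of a field automorphism contains the group over the fixed field. -/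
theorem fixed_big (hodd : Odd (Fintype.card F)) {g : GL2} {σ : F ≃+* F}
    (h : (semi g σ : MulAut PSL2) ^ orderOf σ = 1)
    (hK : ∀ K : Subfield F, (∀ a, a ∈ K ↔ σ a = a) → 5 ≤ Nat.card K) :
    60 ≤ Nat.card (fixedGroup (semi g σ : MulAut PSL2)) := by
  classical
  obtain ⟨P, hP⟩ := conj_of_pow_eq_one le_rfl g σ h
  obtain ⟨K, hKmem, -⟩ := exists_fixed_field σ
  have h5 := hK K hKmem
  set f := Matrix.SpecialLinearGroup.map (n := Fin 2) K.subtype with hf
  have hfinj : Function.Injective f := fun a b e => Subtype.ext (Matrix.ext fun i j =>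
    Subtype.val_injective (congrArg (fun m : SL2 => m.1 i j) e))
  set γ : MulAut PSL2 := semi P 1 with hγ
  have hfix : ∀ s, (semi g σ : MulAut PSL2) (γ (PSL2Inv.pr (f s))) = γ (PSL2Inv.pr (f s)) := by
    intro s
    rw [← hP, MulAut.mul_apply, MulAut.mul_apply, MulAut.inv_apply_self]
    refine congrArg γ (congrArg PSL2Inv.pr (Subtype.ext ?_) :
      (semi 1 σ : MulAut PSL2) (PSL2Inv.pr (f s)) = PSL2Inv.pr (f s))
    show (slSemi (1 : GL2) σ (f s)).1 = (f s).1
    rw [slSemi_coe]
    ext i j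
    have := (hKmem _).1 (s.1 i j).2
    simpa [hf] using this
  set R := (fixedGroup (semi g σ : MulAut PSL2)).comap
    ((γ.toMonoidHom).comp (PSL2Inv.pr : SL2 →* PSL2))
  have h1 : Nat.card (Matrix.SpecialLinearGroup (Fin 2) K) ≤ Nat.card R :=
    Nat.card_le_card_of_injective (fun s => ⟨f s, hfix s⟩) fun a b e =>
      hfinj (congrArg (fun r : R => (r : SL2)) e)
  have h2 : Nat.card R = Nat.card (Subgroup.center SL2) *
      Nat.card ((fixedGroup (semi g σ : MulAut PSL2)).comap γ.toMonoidHom) := by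
    rw [← card_comap_mk']
    rfl
  have h3 : Nat.card ((fixedGroup (semi g σ : MulAut PSL2)).comap γ.toMonoidHom) =
      Nat.card (fixedGroup (semi g σ : MulAut PSL2)) := by
    rw [← Subgroup.card_map_of_injective (f := γ.toMonoidHom) γ.injective,
      Subgroup.map_comap_eq_self_of_surjective (f := γ.toMonoidHom) γ.surjective]
  have h120 : 120 ≤ Nat.card (Matrix.SpecialLinearGroup (Fin 2) K) := by
    rw [SL2Inv.card_sl2]
    calc 120 = 5 * 4 * 6 := by norm_num
      _ ≤ _ := Nat.mul_le_mul (Nat.mul_le_mul h5 (by omega)) (by omega)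
  have h4 := h120.trans h1
  rw [h2, h3] at h4
  have := h4.trans (Nat.mul_le_mul_right _ (card_center_le (F := F)))
  omega

/-- An inner diagonal automorphism fixing a standard four-group is conjugation by one of its
elements. -/
theorem inndiag_four (h2 : (2 : F) ≠ 0) {g₀ : SL2} (hg₀ : PSL2Inv.Anti g₀) {g : GL2}
    (hw : (semi g 1 : MulAut PSL2) (PSL2Inv.pr SL2Inv.w) = PSL2Inv.pr SL2Inv.w)
    (hg : (semi g 1 : MulAut PSL2) (PSL2Inv.pr g₀) = PSL2Inv.pr g₀) :
    ∃ v ∈ PSL2Inv.W g₀ hg₀, (semi g 1 : MulAut PSL2) = MulAut.conj v := by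
  classical
  obtain ⟨e1, e2⟩ := hg₀.entries
  have hanti : g₀.1 * SL2Inv.w.1 = -(SL2Inv.w.1 * g₀.1) := by
    have := congrArg Subtype.val hg₀.2
    change g₀.1 * SL2Inv.w.1 = (-1) * (SL2Inv.w.1 * g₀.1) at this
    rwa [neg_one_mul] at this
  have hanti' : SL2Inv.w.1 * g₀.1 = -(g₀.1 * SL2Inv.w.1) := by rw [hanti, neg_neg]
  rw [semi_fix_iff] at hw hg
  have hcomm : ∀ k : SL2, PSL2Inv.pr k ∈ PSL2Inv.W g₀ hg₀ →
      (g.1 * k.1) * SL2Inv.w.1 = SL2Inv.w.1 * (g.1 * k.1) →
      (g.1 * k.1) * g₀.1 = g₀.1 * (g.1 * k.1) →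
      ∃ v ∈ PSL2Inv.W g₀ hg₀, (semi g 1 : MulAut PSL2) = MulAut.conj v := by
    intro k hk hcw hcg
    set m : GL2 := g * Matrix.SpecialLinearGroup.toGL k with hm
    have hmv : m.1 = g.1 * k.1 := rfl
    rw [← hmv] at hcw hcg
    have a00 := congrFun (congrFun hcw 0) 0
    have a01 := congrFun (congrFun hcw 0) 1
    simp [SL2Inv.w, Matrix.mul_apply, Fin.sum_univ_two] at a00 a01
    have b00 := congrFun (congrFun hcg 0) 0
    have b01 := congrFun (congrFun hcg 0) 1
    simp [Matrix.mul_apply, Fin.sum_univ_two, e1, e2] at b00 b01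
    have h11 : m.1 1 1 = m.1 0 0 := a01.symm
    have h10 : m.1 1 0 = -m.1 0 1 := by linear_combination a00
    have hb : m.1 0 1 = 0 := by
      by_contra hb
      rw [h10] at b00
      rw [h11] at b01
      have hY : g₀.1 1 0 = 0 := by
        have : (2 : F) * (m.1 0 1 * g₀.1 1 0) = 0 := by linear_combination b00
        exact (mul_eq_zero.1 ((mul_eq_zero.1 this).resolve_left h2)).resolve_left hb
      have hX : g₀.1 0 0 = 0 := by
        have : (2 : F) * (m.1 0 1 * g₀.1 0 0) = 0 := by linear_combination -b01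
        exact (mul_eq_zero.1 ((mul_eq_zero.1 this).resolve_left h2)).resolve_left hb
      have := g₀.2
      rw [Matrix.det_fin_two, e1, e2, hX, hY] at this
      simp at this
    have h00 : m.1 0 0 ≠ 0 := fun e0 =>
      ((Matrix.isUnit_iff_isUnit_det _).1 m.isUnit).ne_zero (by
        rw [Matrix.det_fin_two, e0, hb]; ring)
    have hm1 : (semi m 1 : MulAut PSL2) = 1 := by
      rw [semi_eq_one_iff le_rfl]
      refine ⟨rfl, Units.mk0 _ h00, Units.ext (Matrix.ext fun a b => ?_)⟩
      fin_cases a <;> fin_cases b <;> simp [hb, h10, h11]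
    refine ⟨(PSL2Inv.pr k)⁻¹, inv_mem hk, ?_⟩
    rw [hm, show (semi (g * Matrix.SpecialLinearGroup.toGL k) 1 : MulAut PSL2) =
      semi g 1 * semi (Matrix.SpecialLinearGroup.toGL k) 1 by
        rw [semi_mul', mapGL_one, one_mul], ← inner_eq_semi] at hm1
    rw [map_inv]
    exact eq_inv_of_mul_eq_one_left hm1
  have hone : (1 : SL2).1 = 1 := rfl
  have hmemg := PSL2Inv.pr_mem_W hg₀
  have hmemw := PSL2Inv.pr_w_mem_W hg₀
  rcases hw with hw | hw <;> rcases hg with hg | hg
  · refine hcomm 1 (by rw [map_one]; exact one_mem _) ?_ ?_ <;> rw [hone, mul_one]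
    exacts [hw, hg]
  · refine hcomm SL2Inv.w hmemw ?_ ?_
    · rw [hw, mul_assoc, hw]
    · rw [mul_assoc, hanti', mul_neg, ← mul_assoc, hg, neg_mul, neg_neg, mul_assoc]
  · refine hcomm g₀ hmemg ?_ ?_
    · rw [mul_assoc, hanti, mul_neg, ← mul_assoc, hw, neg_mul, neg_neg, mul_assoc]
    · rw [hg, mul_assoc, hg]
  · refine hcomm (SL2Inv.w * g₀) (by rw [map_mul]; exact mul_mem hmemw hmemg) ?_ ?_
    · rw [Matrix.SpecialLinearGroup.coe_mul]
      calc g.1 * (SL2Inv.w.1 * g₀.1) * SL2Inv.w.1 = g.1 * SL2Inv.w.1 * (g₀.1 * SL2Inv.w.1) := by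
            simp only [mul_assoc]
        _ = (SL2Inv.w.1 * g.1) * (SL2Inv.w.1 * g₀.1) := by rw [hw, hanti, neg_mul_neg]
        _ = _ := by simp only [mul_assoc]
    · rw [Matrix.SpecialLinearGroup.coe_mul]
      calc g.1 * (SL2Inv.w.1 * g₀.1) * g₀.1 = -(g.1 * g₀.1) * (SL2Inv.w.1 * g₀.1) := by
            conv_lhs => rw [hanti']
            simp only [mul_neg, neg_mul, mul_assoc]
        _ = (g₀.1 * g.1) * (SL2Inv.w.1 * g₀.1) := by rw [hg, neg_neg]
        _ = _ := by simp only [mul_assoc]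

/-- For every field automorphism a semilinear automorphism fixes a standard four-group. -/
theorem exists_semi_fix (h2 : (2 : F) ≠ 0) {g₀ : SL2} (hg₀ : PSL2Inv.Anti g₀) (σ : F ≃+* F) :
    ∃ g : GL2, (semi g σ : MulAut PSL2) (PSL2Inv.pr SL2Inv.w) = PSL2Inv.pr SL2Inv.w ∧
      (semi g σ : MulAut PSL2) (PSL2Inv.pr g₀) = PSL2Inv.pr g₀ := by
  classical
  obtain ⟨e1, e2⟩ := hg₀.entries
  set X := g₀.1 0 0 with hX
  set Y := g₀.1 1 0 with hY
  have hgv : g₀.1 = !![X, Y; Y, -X] := by
    conv_lhs => rw [Matrix.eta_fin_two g₀.1, e1, e2]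
  have hdet : -(X * X) - Y * Y = 1 := by
    have := g₀.2
    rw [hgv] at this
    simp [Matrix.det_fin_two] at this
    linear_combination this
  have hdet' : -(σ X * σ X) - σ Y * σ Y = 1 := by
    have := congrArg σ hdet
    simpa using this
  have hσw : SL2Inv.w.1.map σ = (SL2Inv.w : SL2).1 := by
    ext i j
    fin_cases i <;> fin_cases j <;> simp [SL2Inv.w]
  have hσg : g₀.1.map σ = !![σ X, σ Y; σ Y, -σ X] := by
    rw [hgv]
    ext i j
    fin_cases i <;> fin_cases j <;> simp
  set a := σ X * X + σ Y * Y with ha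
  set b := σ X * Y - σ Y * X with hb
  have hab : a * a + b * b = 1 := by
    have e : a * a + b * b = (σ X * σ X + σ Y * σ Y) * (X * X + Y * Y) := by rw [ha, hb]; ring
    rw [e]
    linear_combination (-(X * X) - Y * Y) * hdet' + hdet
  have hval : ∀ (h : GL2) (s : SL2), h.1 * s.1.map σ = s.1 * h.1 →
      (semi h σ : MulAut PSL2) (PSL2Inv.pr s) = PSL2Inv.pr s := by
    intro h s hs
    refine congrArg QuotientGroup.mk (Subtype.ext ?_)
    show (slSemi h σ s).1 = s.1
    rw [slSemi_coe, hs, mul_assoc, Units.mul_inv, mul_one]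
  by_cases hu : a = 1
  · have hb0 : b = 0 := mul_self_eq_zero.1 (by linear_combination hab - (a + 1) * hu)
    have hXX : σ X = -X := by linear_combination -(σ X) * hdet - X * hu - Y * hb0 + X * ha + Y * hb
    have hYY : σ Y = -Y := by linear_combination -(σ Y) * hdet - Y * hu + X * hb0 + Y * ha - X * hb
    refine ⟨1, hval 1 _ (by rw [Units.val_one, one_mul, mul_one, hσw]), ?_⟩
    show PSL2Inv.pr (slSemi 1 σ g₀) = PSL2Inv.pr g₀
    rw [PSL2Inv.pr_eq_iff]
    refine Or.inr (Subtype.ext ?_)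
    rw [Matrix.SpecialLinearGroup.coe_mul, SL2Inv.coe_negOne, slSemi_coe, Units.val_one, one_mul,
      inv_one, Units.val_one, mul_one, neg_one_mul, hσg, hXX, hYY, hgv]
    ext i j
    fin_cases i <;> fin_cases j <;> simp
  · let m : GL2 := GeneralLinearGroup.mkOfDetNeZero !![1 - a, b; -b, 1 - a] (by
      simp only [Matrix.det_fin_two_of]
      intro h
      exact hu (by
        have : (2 : F) * (1 - a) = 0 := by linear_combination h - hab
        exact (sub_eq_zero.1 ((mul_eq_zero.1 this).resolve_left h2)).symm))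
    have hmv : m.1 = !![1 - a, b; -b, 1 - a] := rfl
    refine ⟨m, hval m _ ?_, hval m _ ?_⟩
    · rw [hσw, hmv]
      ext i j
      fin_cases i <;> fin_cases j <;> simp [SL2Inv.w, Matrix.mul_apply, Fin.sum_univ_two]
    · rw [hσg, hgv, hmv, ha, hb]
      ext i j
      fin_cases i <;> fin_cases j <;> simp [Matrix.mul_apply, Fin.sum_univ_two]
      · linear_combination X * hdet' - σ X * hdet
      · linear_combination Y * hdet' - σ Y * hdet
      · linear_combination Y * hdet' - σ Y * hdet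
      · linear_combination (-X) * hdet' + σ X * hdet

/-- A maximal subgroup `S₄` forces the field to be of prime order. -/
theorem prime_of_s4 (hodd : Odd (Fintype.card F))
    (h16 : Fintype.card F % 16 = 1 ∨ Fintype.card F % 16 = 15) {A V : Subgroup PSL2}
    (hmax : IsCoatom A) (hV : IsKleinFour V) (hVA : V ≤ A)
    (hAV : A ≤ Subgroup.normalizer (V : Set PSL2))
    (hCV : Subgroup.centralizer (V : Set PSL2) ≤ V) (hA : Nat.card A = 24) {r s : PSL2}
    (hr : r ∈ A) (hr3 : orderOf r = 3) (hs : s ∈ A) (hsr : s * r * s⁻¹ = r⁻¹) :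
    (Fintype.card F).Prime := by
  classical
  have h2 := two_ne_zero_of_odd hodd
  by_contra hnp
  have h3 : 3 < Fintype.card F := by
    have := Fintype.one_lt_card (α := F)
    omega
  haveI : IsSimpleGroup PSL2 :=
    Matrix.ProjectiveSpecialLinearGroup.rank_two_simple (by rw [Nat.card_eq_fintype_card]; omega)
  -- a suitable field automorphism
  obtain ⟨p, hp⟩ := CharP.exists F
  haveI : Fact p.Prime := ⟨CharP.char_is_prime F p⟩
  obtain ⟨f, -, hf⟩ := FiniteField.card F p
  have hf2 : 1 < (f : ℕ) := by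
    by_contra hcon
    have : (f : ℕ) = 1 := by have := f.pos; omega
    rw [hf, this, pow_one] at hnp
    exact hnp (Fact.out)
  obtain ⟨σ, hσ1, hσK⟩ : ∃ σ : F ≃+* F, σ ≠ 1 ∧
      ∀ K : Subfield F, (∀ a, a ∈ K ↔ σ a = a) → 5 ≤ Nat.card K := by
    set k : ℕ := if p = 3 then 2 else 1 with hk
    let σ : F ≃+* F := (frobeniusEquiv F p) ^ k
    have hσa : ∀ a : F, σ a = a ^ (p ^ k) := by
      intro a
      show ((frobeniusEquiv F p) ^ k) a = a ^ (p ^ k)
      have : ∀ n : ℕ, ((frobeniusEquiv F p) ^ n) a = a ^ (p ^ n) := by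
        intro n
        induction n with
        | zero => simp
        | succ n ih =>
          rw [pow_succ', RingAut.mul_apply, ih, frobeniusEquiv_apply, frobenius_def, ← pow_mul,
            ← pow_succ]
      exact this k
    have hp2 : p ≠ 2 := fun e => by
      rw [hf, e] at hodd
      exact Nat.not_odd_iff_even.2 (Even.pow_of_ne_zero even_two f.pos.ne') hodd
    have hp2' := (Fact.out : p.Prime).two_le
    have hp4 : p ≠ 4 := fun e => by
      have := (Fact.out : p.Prime)
      rw [e] at this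
      norm_num at this
    have hkf : k < (f : ℕ) := by
      rw [hk]
      split_ifs with hp3
      · by_contra hcon
        have : (f : ℕ) = 2 := by omega
        rw [hf, hp3, this] at h16
        norm_num at h16
      · omega
    have hbig : 5 ≤ p ^ k := by
      rw [hk]
      split_ifs with hp3
      · rw [hp3]; norm_num
      · rw [pow_one]; omega
    obtain ⟨u, hu⟩ := IsCyclic.exists_ofOrder_eq_natCard (α := Fˣ)
    rw [Nat.card_units, Nat.card_eq_fintype_card] at hu
    refine ⟨σ, fun hid => ?_, fun K hK => ?_⟩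
    · have h : (u : F) ^ (p ^ k) = u := by
        rw [← hσa, hid]; rfl
      have h1 : u ^ (p ^ k) = u := Units.ext (by simpa using h)
      have h1' : u ^ (p ^ k - 1) = 1 := by
        have e : u ^ (p ^ k - 1) * u = 1 * u := by
          rw [one_mul, ← pow_succ, show p ^ k - 1 + 1 = p ^ k by omega]; exact h1
        exact mul_right_cancel e
      have h2' := Nat.le_of_dvd (by omega) (orderOf_dvd_of_pow_eq_one h1')
      rw [hu, hf] at h2'
      have := Nat.pow_lt_pow_right (Fact.out : p.Prime).one_lt hkf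
      omega
    · -- the fixed field is nontrivial
      have hpK : p ≤ Nat.card K := by
        have h := Nat.card_le_card_of_injective (fun i : Fin p => ((i : ℕ) : K)) fun i j e => by
          have e' : ((i : ℕ) : F) = ((j : ℕ) : F) := by
            simpa using congrArg (Subtype.val : K → F) e
          exact Fin.ext ((CharP.natCast_injOn_Iio F p) i.2 j.2 e')
        simpa using h
      by_cases hp3 : p = 3
      · -- the field of nine elements
        obtain ⟨m, hm⟩ : Even (f : ℕ) := by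
          by_contra hne
          obtain ⟨m, hm⟩ := Nat.not_even_iff_odd.1 hne
          have h9 : ∀ j : ℕ, 9 ^ j % 16 = 1 ∨ 9 ^ j % 16 = 9 := by
            intro j
            induction j with
            | zero => simp
            | succ n ih => rw [pow_succ, Nat.mul_mod]; rcases ih with e | e <;> rw [e] <;> simp
          rw [hf, hp3, hm, pow_succ, pow_mul, show (3 : ℕ) ^ 2 = 9 by norm_num, Nat.mul_mod] at h16
          rcases h9 m with e | e <;> rw [e] at h16 <;> omega
        have hdvd : 8 ∣ Fintype.card F - 1 := by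
          rw [hf, hp3, hm, ← two_mul, pow_mul]
          have := Nat.sub_dvd_pow_sub_pow 9 1 m
          rwa [one_pow] at this
        have hF1 : 0 < Fintype.card F - 1 := by omega
        obtain ⟨c, hc⟩ := hdvd
        set x : F := ((u ^ c : Fˣ) : F) with hx
        have hxo : orderOf (u ^ c) = 8 := by
          rw [orderOf_pow' _ (by intro e; rw [e] at hc; omega), hu, hc,
            Nat.gcd_eq_right (dvd_mul_left c 8)]
          rw [Nat.mul_div_cancel _ (by rcases Nat.eq_zero_or_pos c with e | e; · rw [e] at hc; omega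
                                       · exact e)]
        have hxK : ∀ i : ℕ, x ^ i ∈ K := by
          intro i
          refine (hK _).2 ?_
          rw [hσa, hk, if_pos hp3, hp3, ← pow_mul, mul_comm, pow_mul]
          have : x ^ 9 = x := by
            rw [hx, ← Units.val_pow_eq_pow_val, pow_succ, ← hxo, pow_orderOf_eq_one, one_mul]
          rw [show (3 : ℕ) ^ 2 = 9 by norm_num, this]
        have h8 := Nat.card_le_card_of_injective (fun i : Fin 8 => (⟨x ^ (i : ℕ), hxK i⟩ : K))
          fun i j e => by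
            have e' : (u ^ c) ^ (i : ℕ) = (u ^ c) ^ (j : ℕ) := Units.ext (by
              simpa [hx] using congrArg (Subtype.val : K → F) e)
            exact Fin.ext (pow_injOn_Iio_orderOf (by rw [Set.mem_Iio, hxo]; exact i.2)
              (by rw [Set.mem_Iio, hxo]; exact j.2) e')
        rw [Nat.card_eq_fintype_card (α := Fin 8), Fintype.card_fin] at h8
        omega
      · have : k = 1 := by rw [hk, if_neg hp3]
        omega
  -- move the four-group to standard position
  obtain ⟨x, hxV, hx1⟩ : ∃ x ∈ V, x ≠ 1 := by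
    obtain ⟨y, hy, hy1, -⟩ := FourGroup.exists_two hV (a := (1 : PSL2))
    exact ⟨y, hy, hy1⟩
  obtain ⟨c, hc⟩ := isConj_iff.1
    (PSL2Inv.isConj_pr_w h2 (FourGroup.mul_self_of_mem hV hxV) hx1).symm
  set cj := MulAut.conj c with hcj
  have hV' := FourGroup.isKleinFour_map cj hV
  have hwV : PSL2Inv.pr SL2Inv.w ∈ V.map cj.toMonoidHom := ⟨x, hxV, hc⟩
  obtain ⟨g₀, hg₀, hVW⟩ := PSL2Inv.exists_eq_W h2 hV' hwV
  obtain ⟨g, hgw, hgg⟩ := exists_semi_fix h2 hg₀ σ
  set α : MulAut PSL2 := cj⁻¹ * semi g σ * cj with hα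
  have hfldc : ∀ y : PSL2, fldHom (MulAut.conj y) = 1 := by
    intro y
    obtain ⟨u, rfl⟩ := PSL2Inv.pr_surjective y
    rw [show MulAut.conj (PSL2Inv.pr u) = semi (Matrix.SpecialLinearGroup.toGL u) 1 from inner_eq_semi u,
      fldHom_semi]
  have hαfld : fldHom α = σ := by
    rw [hα, map_mul, map_mul, map_inv, hcj, hfldc, fldHom_semi, inv_one, one_mul, mul_one]
  have hVfix : V ≤ fixedGroup α := by
    have hW : V.map cj.toMonoidHom ≤ fixedGroup (semi g σ : MulAut PSL2) :=
      klein_le hV' hwV (hVW ▸ PSL2Inv.pr_mem_W hg₀) (PSL2Inv.pr_ne_one h2 SL2Inv.trace_w)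
        (PSL2Inv.pr_ne_one h2 hg₀.1) (PSL2Inv.pr_w_ne h2 hg₀) hgw hgg
    intro v hv
    rw [mem_fixedGroup, hα, MulAut.mul_apply, MulAut.mul_apply,
      mem_fixedGroup.1 (hW ⟨v, hv, rfl⟩ : cj v ∈ _), MulAut.inv_apply_self]
  -- the normaliser of the four-group
  have hNA : Subgroup.normalizer (V : Set PSL2) = A := by
    refine (hmax.le_iff.1 hAV).resolve_left fun h => ?_
    haveI : V.Normal := Subgroup.normalizer_eq_top_iff.1 h
    rcases IsSimpleGroup.eq_bot_or_eq_top_of_normal V inferInstance with e | e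
    · have h4 : Nat.card V = 4 := hV.card_four
      rw [e, Subgroup.card_bot] at h4
      omega
    · exact hmax.1 (top_le_iff.1 (e ▸ hVA))
  have hdelta : ∀ a ∈ A, a⁻¹ * α a ∈ V := by
    intro a ha
    refine hCV (Subgroup.mem_centralizer_iff.2 fun v hv => ?_)
    have hva : a * v * a⁻¹ ∈ V := (Subgroup.mem_normalizer_iff.1 (hAV ha) v).1 hv
    have e : α a * v * (α a)⁻¹ = a * v * a⁻¹ := by
      have := mem_fixedGroup.1 (hVfix hva)
      rwa [map_mul, map_mul, map_inv, mem_fixedGroup.1 (hVfix hv)] at this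
    calc v * (a⁻¹ * α a) = a⁻¹ * (a * v * a⁻¹) * α a := by group
      _ = a⁻¹ * α a * v := by rw [← e]; group
  have hCr : ∀ v ∈ V, Commute r v → v = 1 := by
    intro v hv hrv
    by_contra hv1
    refine absurd (Subgroup.orderOf_dvd_natCard V (hCV (Subgroup.mem_centralizer_iff.2 ?_) : r ∈ V))
      (by rw [hr3, hV.card_four]; norm_num)
    intro w hw
    obtain ⟨y, hy, hy1, hyv⟩ := FourGroup.exists_two hV (a := v)
    have hfix : ∀ z, z ∈ V → Commute r z → z ∈ Subgroup.centralizer ({r} : Set PSL2) :=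
      fun z _ hz => Subgroup.mem_centralizer_singleton_iff.2 hz.eq.symm
    have hry : Commute r y := by
      have h1 : r * y * r⁻¹ ∈ V := (Subgroup.mem_normalizer_iff.1 (hAV hr) y).1 hy
      rw [FourGroup.eq_four hV hv hy hv1 hy1 (Ne.symm hyv)] at h1
      rcases FourGroup.mem_four.1 h1 with e | e | e | e
      · exact absurd (conj_eq_one_iff.1 e) hy1
      · refine absurd ((MulAut.conj r).injective (e.trans ?_ : MulAut.conj r y = MulAut.conj r v)) hyv
        rw [MulAut.conj_apply, hrv.eq, mul_inv_cancel_right]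
      · exact mul_inv_eq_iff_eq_mul.1 e
      · -- a swap of order two
        have hsq : r * r * y * (r * r)⁻¹ = y := by
          calc r * r * y * (r * r)⁻¹ = r * (r * y * r⁻¹) * r⁻¹ := by group
            _ = r * (v * y) * r⁻¹ := by rw [e]
            _ = (r * v * r⁻¹) * (r * y * r⁻¹) := by group
            _ = y := by rw [hrv.eq, mul_inv_cancel_right, e, ← mul_assoc,
                FourGroup.mul_self_of_mem hV hv, one_mul]
        have hr3' : r * r = r⁻¹ := eq_inv_of_mul_eq_one_left (by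
          rw [← pow_two, ← pow_succ, show 2 + 1 = orderOf r by omega, pow_orderOf_eq_one])
        rw [hr3'] at hsq
        exact (Commute.inv_left_iff.1 (mul_inv_eq_iff_eq_mul.1 hsq))
    exact (Subgroup.mem_centralizer_singleton_iff.1 (klein_le hV hv hy hv1 hy1 (Ne.symm hyv)
      (hfix v hv hrv) (hfix y hy hry) hw) :)
  obtain ⟨v, hv, hve⟩ : ∃ v ∈ V, v * r * v⁻¹ = α r := by
    have hmem : ∀ v : V, r⁻¹ * ((v : PSL2) * r * (v : PSL2)⁻¹) ∈ V := by
      intro v
      have h1 : r⁻¹ * (v : PSL2) * r ∈ V := by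
        have := (Subgroup.mem_normalizer_iff.1 (hAV (inv_mem hr)) v).1 v.2
        rwa [inv_inv] at this
      rw [show r⁻¹ * ((v : PSL2) * r * (v : PSL2)⁻¹) = (r⁻¹ * (v : PSL2) * r) * (v : PSL2)⁻¹ by group]
      exact mul_mem h1 (inv_mem v.2)
    let φ : V → V := fun v => ⟨_, hmem v⟩
    have hinj : Function.Injective φ := by
      intro a b e
      have e' : (a : PSL2) * r * (a : PSL2)⁻¹ = (b : PSL2) * r * (b : PSL2)⁻¹ :=
        mul_left_cancel (congrArg Subtype.val e :)
      refine Subtype.ext (inv_mul_eq_one.1 (hCr _ (mul_mem (inv_mem b.2) a.2) ?_)).symm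
      calc r * ((b : PSL2)⁻¹ * a) = (b : PSL2)⁻¹ * ((b : PSL2) * r * (b : PSL2)⁻¹) * a := by group
        _ = _ := by rw [← e']; group
    obtain ⟨v, hv⟩ := (Finite.injective_iff_surjective.1 hinj) ⟨_, hdelta r hr⟩
    exact ⟨v, v.2, mul_left_cancel (congrArg Subtype.val hv :)⟩
  set β : MulAut PSL2 := (MulAut.conj v)⁻¹ * α with hβ
  have hβfix : ∀ w ∈ V, β w = w := by
    intro w hw
    rw [hβ, MulAut.mul_apply, mem_fixedGroup.1 (hVfix hw), MulAut.conj_inv_apply,
      mul_assoc, FourGroup.comm_of_mem hV hw hv, inv_mul_cancel_left]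
  have hβr : β r = r := by
    rw [hβ, MulAut.mul_apply, MulAut.conj_inv_apply, ← hve]
    group
  have hδs : s⁻¹ * β s ∈ V := by
    rw [hβ, MulAut.mul_apply, MulAut.conj_inv_apply]
    have h1 := hdelta s hs
    have h2' : s⁻¹ * v⁻¹ * s ∈ V := by
      have := (Subgroup.mem_normalizer_iff.1 (hAV (inv_mem hs)) v⁻¹).1 (inv_mem hv)
      rwa [inv_inv] at this
    rw [show s⁻¹ * (v⁻¹ * α s * v) = (s⁻¹ * v⁻¹ * s) * (s⁻¹ * α s) * v by group]
    exact mul_mem (mul_mem h2' h1) hv
  have hβs : β s = s := by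
    have h1 : β s * r * (β s)⁻¹ = r⁻¹ := by
      have := congrArg β hsr
      rwa [map_mul, map_mul, map_inv, map_inv, hβr] at this
    have h := hCr _ hδs (mul_inv_eq_iff_eq_mul.1 (by
      calc s⁻¹ * β s * r * (s⁻¹ * β s)⁻¹ = s⁻¹ * (β s * r * (β s)⁻¹) * s := by group
        _ = s⁻¹ * (s * r * s⁻¹) * s := by rw [h1, hsr]
        _ = r := by group)).symm
    exact (inv_mul_eq_one.1 h).symm
  have hAfix : A ≤ fixedGroup β := by
    set D := fixedGroup β ⊓ A
    suffices h : D = A from h ▸ inf_le_left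
    refine Subgroup.eq_of_le_of_card_ge inf_le_right ?_
    have h4 : 4 ∣ Nat.card D := hV.card_four ▸ Subgroup.card_dvd_of_le
      (le_inf (fun w hw => hβfix w hw) hVA : V ≤ D)
    have h3' : 3 ∣ Nat.card D := hr3 ▸ Subgroup.orderOf_dvd_natCard D
      (⟨hβr, hr⟩ : r ∈ D)
    have hdvd : Nat.card D ∣ 24 := hA ▸ Subgroup.card_dvd_of_le inf_le_right
    have h12 : 12 ∣ Nat.card D := Nat.Coprime.mul_dvd_of_dvd_of_dvd (by norm_num : Nat.Coprime 4 3) h4 h3'
    by_contra hcon
    have hD : Nat.card D = 12 := by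
      obtain ⟨c', hc'⟩ := h12
      have := Nat.le_of_dvd (by norm_num) hdvd
      have h0 : 0 < Nat.card D := Nat.card_pos
      rw [hA] at hcon
      omega
    -- the subgroup of order twelve normalises no extra element
    have hsD : s ∈ D := ⟨hβs, hs⟩
    have hE := Subgroup.card_dvd_of_le
      (sup_le (Subgroup.zpowers_le.2 (⟨hβr, hr⟩ : r ∈ D)) (Subgroup.zpowers_le.2 hsD) :
        Subgroup.zpowers r ⊔ Subgroup.zpowers s ≤ D)
    have hn : Subgroup.zpowers s ≤ Subgroup.normalizer (Subgroup.zpowers r : Set PSL2) := by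
      rw [Subgroup.zpowers_le]
      have key : ∀ z : PSL2, (z * r * z⁻¹ = r⁻¹ ∨ z * r * z⁻¹ = r) →
          ∀ y ∈ Subgroup.zpowers r, z * y * z⁻¹ ∈ Subgroup.zpowers r := by
        intro z hz y hy
        obtain ⟨i, rfl⟩ := Subgroup.mem_zpowers_iff.1 hy
        rw [← _root_.conj_zpow]
        rcases hz with e | e <;> rw [e]
        exacts [zpow_mem (inv_mem (Subgroup.mem_zpowers r)) i, zpow_mem (Subgroup.mem_zpowers r) i]
      refine Subgroup.mem_normalizer_iff.2 fun y => ⟨key s (Or.inl hsr) y, fun hy => ?_⟩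
      have hs' : s⁻¹ * r * s⁻¹⁻¹ = r⁻¹ := by
        calc s⁻¹ * r * s⁻¹⁻¹ = (s⁻¹ * (s * r * s⁻¹) * s)⁻¹ := by rw [hsr]; group
          _ = r⁻¹ := by group
      have := key s⁻¹ (Or.inl hs') _ hy
      simpa [mul_assoc] using this
    -- an element inverting `r` modulo `V`
    have hvD : V ≤ D := le_inf (fun w hw => hβfix w hw) hVA
    have hsup : V ⊔ Subgroup.zpowers r = D := by
      refine Subgroup.eq_of_le_of_card_ge (sup_le hvD (Subgroup.zpowers_le.2 ⟨hβr, hr⟩)) ?_
      rw [hD]
      refine Nat.le_of_dvd Nat.card_pos (Nat.Coprime.mul_dvd_of_dvd_of_dvd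
        (by norm_num : Nat.Coprime 4 3) (hV.card_four ▸ Subgroup.card_dvd_of_le le_sup_left) ?_)
      exact hr3 ▸ Subgroup.orderOf_dvd_natCard _ (Subgroup.mem_sup_right (Subgroup.mem_zpowers r))
    have hsmem : s ∈ (↑(V ⊔ Subgroup.zpowers r) : Set PSL2) := hsup ▸ hsD
    rw [Subgroup.coe_mul_of_right_le_normalizer_left _ _ (Subgroup.zpowers_le.2 (hAV hr))] at hsmem
    obtain ⟨w, hw, q, hq, rfl⟩ := hsmem
    obtain ⟨i, rfl⟩ := Subgroup.mem_zpowers_iff.1 hq
    have hwr : w * r * w⁻¹ = r⁻¹ := by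
      rw [← hsr]
      group
    have hrr : r⁻¹ * (w * r * w⁻¹) = r⁻¹ * r⁻¹ := by rw [hwr]
    have hin : r⁻¹ * r⁻¹ ∈ V := by
      rw [← hrr, show r⁻¹ * (w * r * w⁻¹) = (r⁻¹ * w * r) * w⁻¹ by group]
      refine mul_mem ?_ (inv_mem hw)
      have := (Subgroup.mem_normalizer_iff.1 (hAV (inv_mem hr)) w).1 hw
      rwa [inv_inv] at this
    have hr' : r⁻¹ * r⁻¹ = r := by
      rw [← _root_.mul_inv_rev, inv_eq_iff_mul_eq_one, ← pow_two, ← pow_succ,
        show 2 + 1 = orderOf r by omega, pow_orderOf_eq_one]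
    rw [hr'] at hin
    exact absurd (hr3 ▸ Subgroup.orderOf_dvd_natCard V hin : 3 ∣ Nat.card V)
      (by rw [hV.card_four]; norm_num)
  have hβfld : fldHom β = σ := by
    rw [hβ, map_mul, map_inv, hfldc, hαfld, inv_one, one_mul]
  have hβA : fixedGroup β = A := by
    refine (hmax.le_iff.1 hAfix).resolve_left fun h => hσ1 ?_
    rw [← hβfld, show β = 1 from MulEquiv.ext fun y => (h ▸ Subgroup.mem_top y : y ∈ fixedGroup β),
      map_one]
  -- the order of the automorphism
  obtain ⟨g', σ', hg'⟩ := exists_semi β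
  have hσ' : σ' = σ := by rw [← hβfld, hg', fldHom_semi]
  subst hσ'
  have hfixpow : ∀ n : ℕ, ∀ y ∈ A, (β ^ n) y = y := by
    intro n y hy
    induction n with
    | zero => rfl
    | succ n ih => rw [pow_succ', MulAut.mul_apply, ih]; exact mem_fixedGroup.1 (hAfix hy)
  have hpow : β ^ orderOf σ' = 1 := by
    obtain ⟨h, τ, hh⟩ := exists_semi (β ^ orderOf σ')
    have hτ : τ = 1 := by
      rw [← fldHom_semi h τ, ← hh, map_pow, hβfld, pow_orderOf_eq_one]
    subst hτ
    have hconj : cj * β ^ orderOf σ' * cj⁻¹ =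
        semi (Matrix.SpecialLinearGroup.toGL (PSL2Inv.pr_surjective c).choose * h *
          (Matrix.SpecialLinearGroup.toGL (PSL2Inv.pr_surjective c).choose)⁻¹) 1 := by
      have hc' : cj = semi (Matrix.SpecialLinearGroup.toGL (PSL2Inv.pr_surjective c).choose) 1 := by
        rw [← inner_eq_semi]
        exact congrArg MulAut.conj (PSL2Inv.pr_surjective c).choose_spec.symm
      rw [hc', hh, semi_left, semi_mul', mapGL_one, one_mul, semi_mul', mapGL_one, one_mul]
    have hfixW : ∀ y ∈ V.map cj.toMonoidHom, (cj * β ^ orderOf σ' * cj⁻¹) y = y := by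
      rintro _ ⟨y, hy, rfl⟩
      show (cj * β ^ orderOf σ' * cj⁻¹) (cj y) = cj y
      rw [MulAut.mul_apply, MulAut.mul_apply, MulAut.inv_apply_self, hfixpow _ y (hVA hy)]
    obtain ⟨v', hv', hve'⟩ := inndiag_four h2 hg₀ (hconj ▸ hfixW _ hwV)
      (hconj ▸ hfixW _ (hVW ▸ PSL2Inv.pr_mem_W hg₀))
    rw [← hconj] at hve'
    obtain ⟨v₀, hv₀, rfl⟩ : v' ∈ V.map cj.toMonoidHom := hVW ▸ hv'
    have e : β ^ orderOf σ' = MulAut.conj v₀ := by
      have := congrArg (fun z => cj⁻¹ * z * cj) hve'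
      simp only [mul_assoc, inv_mul_cancel_left, inv_mul_cancel, mul_one] at this
      rw [this]
      refine MulEquiv.ext fun y => ?_
      simp [hcj, mul_assoc]
    have h1 := hfixpow (orderOf σ') r hr
    rw [e, MulAut.conj_apply, mul_inv_eq_iff_eq_mul] at h1
    rw [e, hCr v₀ hv₀ h1.symm, map_one]
  have hbig := fixed_big hodd (hg' ▸ hpow) hσK
  rw [← hg', hβA, hA] at hbig
  omega

end Cfsg.Agent.SubThree
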