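import Cfsg.Agent.Lib.SubThree.SDBlock
import Cfsg.Agent.Lib.GLTwoThree.Reduce
import Cfsg.Agent.Lib.DGroup.Four
import Cfsg.Agent.Lib.Solvable.Fitting
import Cfsg.Prelude.Def_CaseTheorems

/-!
The setting of a self-centralising four-group with an involution centraliser having quotient
`GL(2,3)` modulo its core.
-/

set_option autoImplicit false
set_option linter.style.haveILetI false
set_option linter.unusedSectionVars false
set_option synthInstance.maxSize 4000
set_option maxRecDepth 100000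

namespace Cfsg.Agent.SubThree

open Cfsg Cfsg.Agent.GLTwoThree Cfsg.Agent.DGroup

universe u

variable {G : Type u} [Group G] [Finite G]

/-- The odd core of a centraliser, in the whole group. -/
def Ov (v : G) : Subgroup G := (Cfsg.oddCore (cen v)).map (cen v).subtype

theorem core_normal (v : G) : (Cfsg.oddCore (cen v)).Normal :=
  Cfsg.Agent.FittingCores.pPrimeCore_normal 2

theorem core_odd (v : G) : Odd (Nat.card (Cfsg.oddCore (cen v))) :=
  Nat.coprime_two_right.1 (Cfsg.Agent.FittingCores.pPrimeCore_coprime 2)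

theorem Ov_le (v : G) : Ov v ≤ cen v := Subgroup.map_subtype_le _

theorem Ov_odd (v : G) : Odd (Nat.card (Ov v)) := by
  rw [Ov, Subgroup.card_map_of_injective (cen v).subtype_injective]
  exact core_odd v

theorem Ov_comm {v y : G} (hy : y ∈ Ov v) : Commute y v :=
  Subgroup.mem_centralizer_singleton_iff.1 (Ov_le v hy)

theorem Ov_conj {v c y : G} (hc : c ∈ cen v) (hy : y ∈ Ov v) : c * y * c⁻¹ ∈ Ov v := by
  haveI := core_normal v
  obtain ⟨z, hz, rfl⟩ := hy
  exact ⟨⟨c, hc⟩ * z * ⟨c, hc⟩⁻¹, Subgroup.Normal.conj_mem inferInstance z hz _, rfl⟩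

theorem le_Ov {v : G} {W : Subgroup G} (ho : Odd (Nat.card W)) (hW : W ≤ cen v)
    (hn : cen v ≤ Subgroup.normalizer (W : Set G)) : W ≤ Ov v := by
  haveI hN : (W.subgroupOf (cen v)).Normal := (Subgroup.normal_subgroupOf_iff_le_normalizer hW).2 hn
  intro x hx
  refine ⟨⟨x, hW hx⟩, ?_, rfl⟩
  refine (show W.subgroupOf (cen v) ≤ Cfsg.oddCore (cen v) from le_sSup ⟨hN, ?_⟩) hx
  rw [Nat.card_congr (Subgroup.subgroupOfEquivOfLe hW).toEquiv]
  exact Nat.coprime_two_right.2 ho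

theorem map_cen (f : G ≃* G) (v : G) : (cen v).map f.toMonoidHom = cen (f v) := by
  ext x
  rw [Subgroup.mem_map_equiv, Subgroup.mem_centralizer_singleton_iff,
    Subgroup.mem_centralizer_singleton_iff]
  constructor
  · intro h; simpa using congrArg f h
  · intro h; exact f.injective (by simpa using h)

/-- An automorphism maps the core of a centraliser to that of the image. -/
theorem map_Ov (f : G ≃* G) {v y : G} (hy : y ∈ Ov v) : f y ∈ Ov (f v) := by
  have hle : (Ov v).map f.toMonoidHom ≤ Ov (f v) := by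
    refine le_Ov ?_ ?_ ?_
    · rw [Subgroup.card_map_of_injective f.injective]; exact Ov_odd v
    · rw [← map_cen f v]; exact Subgroup.map_mono (Ov_le v)
    · intro c hc
      rw [← map_cen f v] at hc
      obtain ⟨d, hd, rfl⟩ := hc
      refine Subgroup.mem_normalizer_iff.2 fun z => ⟨?_, ?_⟩
      · rintro ⟨w, hw, rfl⟩
        exact ⟨d * w * d⁻¹, Ov_conj hd hw, by simp⟩
      · intro hz
        obtain ⟨w, hw, e⟩ := hz
        refine ⟨d⁻¹ * w * d, by simpa using Ov_conj (inv_mem hd) hw, ?_⟩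
        simp only [MulEquiv.coe_toMonoidHom] at e ⊢
        rw [map_mul, map_mul, map_inv, e]
        group
  exact hle ⟨y, hy, rfl⟩

theorem conj_Ov (g : G) {v y : G} (hy : y ∈ Ov v) : g * y * g⁻¹ ∈ Ov (g * v * g⁻¹) :=
  map_Ov (MulAut.conj g) hy

/-- A self-centralising four-group with a rotation. -/
structure Frame (t u ρ : G) : Prop where
  ht : orderOf t = 2
  hu : orderOf u = 2
  ne : t ≠ u
  comm : t * u = u * t
  rot_t : ρ * t * ρ⁻¹ = u
  rot_u : ρ * u * ρ⁻¹ = t * u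
  selfCent : ∀ x, x * t = t * x → x * u = u * x → x = 1 ∨ x = t ∨ x = u ∨ x = t * u

namespace Frame

variable {t u ρ : G} (F : Frame t u ρ)
include F

theorem tt : t * t = 1 := by rw [← pow_two, ← F.ht, pow_orderOf_eq_one]

theorem uu : u * u = 1 := by rw [← pow_two, ← F.hu, pow_orderOf_eq_one]

theorem four : Four t u (t * u) := ⟨F.tt, F.uu, F.comm, rfl⟩

theorem rot_w : ρ * (t * u) * ρ⁻¹ = t := by
  have e : ρ * (t * u) * ρ⁻¹ = (ρ * t * ρ⁻¹) * (ρ * u * ρ⁻¹) := by group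
  rw [e, F.rot_t, F.rot_u, ← mul_assoc, ← F.comm, mul_assoc, F.uu, mul_one]

theorem w_ne_one : t * u ≠ 1 := fun h =>
  F.ne (by rw [← mul_inv_eq_one, inv_eq_of_mul_eq_one_right F.uu]; exact h)

theorem orderOf_w : orderOf (t * u) = 2 :=
  orderOf_eq_prime (by rw [pow_two]; exact F.four.ww) F.w_ne_one

theorem t_ne_one : t ≠ 1 := fun h => by
  have := F.ht
  rw [h, orderOf_one] at this
  omega

/-- The frame, rotated. -/
theorem rot : Frame u (t * u) ρ where
  ht := F.hu
  hu := F.orderOf_w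
  ne := fun h => F.t_ne_one (by
    have := congrArg (· * u) h
    simpa [mul_assoc, F.uu] using this.symm)
  comm := F.four.rot.comm
  rot_t := F.rot_u
  rot_u := by rw [F.rot_w]; exact F.four.vw.symm
  selfCent := fun x h1 h2 => by
    have h3 : x * t = t * x := by
      have := (show Commute x (t * u) from h2).mul_right (show Commute x u from h1)
      rwa [mul_assoc, F.uu, mul_one] at this
    rcases F.selfCent x h3 h1 with h | h | h | h
    · exact Or.inl h
    · exact Or.inr (Or.inr (Or.inr (h.trans F.four.vw.symm)))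
    · exact Or.inr (Or.inl h)
    · exact Or.inr (Or.inr (Or.inl h))

theorem mem_u : u ∈ cen t := Subgroup.mem_centralizer_singleton_iff.2 F.comm.symm

theorem fpf_of {X : Subgroup G} (ho : Odd (Nat.card X)) (ht' : ∀ x ∈ X, t * x * t ∈ X)
    (hu' : ∀ x ∈ X, u * x * u ∈ X) : Fpf t u (t * u) X where
  toFour := F.four
  odd := ho
  memu := ht'
  memv := hu'
  triv := fun x hx h1 h2 => by
    refine eq_one_of_sq ho hx ?_
    rcases F.selfCent x h1.symm h2.symm with h | h | h | h <;> subst h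
    exacts [one_mul 1, F.tt, F.uu, F.four.ww]

/-- The second involution inverts the core. -/
theorem inverts {y : G} (hy : y ∈ Ov t) : u * y * u = y⁻¹ := by
  have hfix : ∀ {c : G}, c ∈ cen t → c * c = 1 → ∀ x ∈ Ov t, c * x * c ∈ Ov t := by
    intro c hc hcc x hx
    have := Ov_conj hc hx
    rwa [inv_eq_of_mul_eq_one_right hcc] at this
  have h := F.fpf_of (Ov_odd t)
    (hfix (Subgroup.mem_centralizer_singleton_iff.2 rfl) F.tt) (hfix F.mem_u F.uu)
  exact h.inverts (mem_ax.2 ⟨hy, (Ov_comm hy).eq.symm⟩)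

theorem Ov_abelian {a b : G} (ha : a ∈ Ov t) (hb : b ∈ Ov t) : a * b = b * a := by
  have e := F.inverts (mul_mem ha hb)
  rw [invol_conj_mul F.uu, F.inverts ha, F.inverts hb, mul_inv_rev] at e
  simpa using (congrArg (·⁻¹) e).symm

end Frame

/-- The setting. -/
structure Setup (t u ρ : G) : Prop extends Frame t u ρ where
  oneClass : ∀ x, orderOf x = 2 → IsConj t x
  quot : ∀ [(Cfsg.oddCore (cen t)).Normal],
    Nonempty (cen t ⧸ Cfsg.oddCore (cen t) ≃* Matrix.GeneralLinearGroup (Fin 2) (ZMod 3))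

attribute [local instance] core_normal

theorem refl_conj_check : ∀ v ∈ U, ∀ w ∈ U, mul v v = one → v ≠ one → v ≠ negOne →
    mul w w = one → w ≠ one → w ≠ negOne → ∃ x ∈ U, mul x v = mul w x := by decide +kernel

theorem det_check : det one = 1 ∧ det negOne = 1 ∧
    (∀ v ∈ U, det v = 1 ∨ det v = 2) ∧ (∀ a ∈ U, ∀ b ∈ U, det (mul a b) = det a * det b) ∧
    (∀ v ∈ invols, v ≠ one → v ≠ negOne → det v = 2) := by decide +kernel

namespace Setup

variable {t u ρ : G} (S : Setup t u ρ)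
include S

/-- The chosen isomorphism. -/
noncomputable def iso : cen t ⧸ Cfsg.oddCore (cen t) ≃* Matrix.GeneralLinearGroup (Fin 2) (ZMod 3) :=
  S.quot.some

/-- The image in the model. -/
noncomputable def ι (c : cen t) : V := im (Cfsg.oddCore (cen t)) S.iso c

theorem ι_mem (c : cen t) : S.ι c ∈ U := im_mem _ _ c

theorem ι_mul (a b : cen t) : S.ι (a * b) = mul (S.ι a) (S.ι b) := im_mul _ _ a b

theorem ι_one_iff {c : cen t} : S.ι c = one ↔ (c : G) ∈ Ov t := by
  refine (im_eq_one _ _).trans ⟨fun h => ⟨c, h, rfl⟩, ?_⟩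
  rintro ⟨d, hd, e⟩
  rwa [show c = d from Subtype.ext e.symm]

theorem ι_eq_iff {a b : cen t} : S.ι a = S.ι b ↔ ((a⁻¹ * b : cen t) : G) ∈ Ov t := by
  refine (im_eq_iff _ _).trans ⟨fun h => ⟨_, h, rfl⟩, ?_⟩
  rintro ⟨d, hd, e⟩
  rwa [show a⁻¹ * b = d from Subtype.ext e.symm]

theorem ι_sq {c : cen t} (hc : (c : G) * c = 1) : mul (S.ι c) (S.ι c) = one := by
  rw [← S.ι_mul, show c * c = 1 from Subtype.ext hc]
  exact im_one _ _

theorem ι_invol {c : cen t} (hc : orderOf (c : G) = 2) : S.ι c ≠ one := by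
  rw [Ne, S.ι_one_iff]
  intro h
  have := (Ov t).orderOf_dvd_natCard h
  rw [hc] at this
  exact (Nat.not_even_iff_odd.2 (Ov_odd t)) (even_iff_two_dvd.2 this)

theorem ι_negOne {c : cen t} (hc : orderOf (c : G) = 2) (h : S.ι c = negOne) : (c : G) = t := by
  have := eq_t_of_im S.ht _ (core_odd t) S.iso (z := c)
    ⟨1, by rw [← Subgroup.orderOf_coe, hc, pow_one]⟩ h
  exact congrArg Subtype.val this

theorem ι_u : mul (S.ι ⟨u, S.mem_u⟩) (S.ι ⟨u, S.mem_u⟩) = one ∧ S.ι ⟨u, S.mem_u⟩ ≠ one ∧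
    S.ι ⟨u, S.mem_u⟩ ≠ negOne :=
  ⟨S.ι_sq S.uu, S.ι_invol S.hu, fun h => S.ne (S.ι_negOne (c := ⟨u, S.mem_u⟩) S.hu h).symm⟩

/-- An element over a reflection inverts the core and is conjugate to `u`. -/
theorem refl_lift {c : cen t} (h1 : mul (S.ι c) (S.ι c) = one) (h2 : S.ι c ≠ one)
    (h3 : S.ι c ≠ negOne) :
    (c : G) * c = 1 ∧ (∀ y ∈ Ov t, (c : G) * y * (c : G)⁻¹ = y⁻¹) ∧
      ∃ h ∈ cen t, h * u * h⁻¹ = (c : G) := by
  obtain ⟨a1, a2, a3⟩ := S.ι_u
  obtain ⟨x, hx, e⟩ := refl_conj_check _ (S.ι_mem _) _ (S.ι_mem c) a1 a2 a3 h1 h2 h3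
  obtain ⟨h₀, rfl⟩ := im_surj (Cfsg.oddCore (cen t)) S.iso hx
  have e' : S.ι (h₀ * ⟨u, S.mem_u⟩) = S.ι (c * h₀) := by rw [S.ι_mul, S.ι_mul]; exact e
  set z : G := (h₀ : G) * u * (h₀ : G)⁻¹ with hz
  have hzz : z * z = 1 := by
    rw [hz, show (h₀ : G) * u * (h₀ : G)⁻¹ * ((h₀ : G) * u * (h₀ : G)⁻¹) = h₀ * (u * u) * (h₀ : G)⁻¹
      by group, S.uu, mul_one, mul_inv_cancel]
  have hzinv : ∀ y ∈ Ov t, z * y * z = y⁻¹ := by
    intro y hy
    have := S.inverts (Ov_conj (inv_mem h₀.2) hy)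
    calc z * y * z = (h₀ : G) * (u * ((h₀ : G)⁻¹ * y * ((h₀ : G)⁻¹)⁻¹) * u) * (h₀ : G)⁻¹ := by
          rw [hz]; group
      _ = _ := by rw [this]; group
  have ho : z⁻¹ * (c : G) ∈ Ov t := by
    have h5 := S.ι_eq_iff.1 e'
    have h6 : z⁻¹ * (c : G) = (h₀ : G) * (((h₀ * ⟨u, S.mem_u⟩)⁻¹ * (c * h₀) : cen t) : G) *
        (h₀ : G)⁻¹ := by
      simp only [Subgroup.coe_mul, Subgroup.coe_inv, hz]
      group
    rw [h6]
    exact Ov_conj h₀.2 h5
  set o := z⁻¹ * (c : G) with ho'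
  have hc : (c : G) = z * o := by rw [ho', mul_inv_cancel_left]
  have hzi : z⁻¹ = z := inv_eq_of_mul_eq_one_right hzz
  have hinv : ∀ y ∈ Ov t, (c : G) * y * (c : G)⁻¹ = y⁻¹ := by
    intro y hy
    rw [hc, mul_inv_rev, hzi]
    calc z * o * y * (o⁻¹ * z) = z * (o * y * o⁻¹) * z := by group
      _ = _ := by rw [S.Ov_abelian ho hy, mul_inv_cancel_right, hzinv y hy]
  refine ⟨?_, hinv, ?_⟩
  · rw [hc]
    calc z * o * (z * o) = (z * o * z) * o := by group
      _ = 1 := by rw [hzinv o ho, inv_mul_cancel]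
  · have hr := rt_mem (X := Ov t) ho
    refine ⟨(rt (Ov t) o)⁻¹ * h₀, mul_mem (inv_mem (Ov_le t hr)) h₀.2, ?_⟩
    have e1 : z * (rt (Ov t) o)⁻¹ * z = rt (Ov t) o := by rw [hzinv _ (inv_mem hr), inv_inv]
    calc (rt (Ov t) o)⁻¹ * (h₀ : G) * u * ((rt (Ov t) o)⁻¹ * (h₀ : G))⁻¹
        = (z * z) * (rt (Ov t) o)⁻¹ * z * rt (Ov t) o := by rw [hzz, hz]; group
      _ = z * (z * (rt (Ov t) o)⁻¹ * z) * rt (Ov t) o := by group
      _ = z * (rt (Ov t) o * rt (Ov t) o) := by rw [e1, mul_assoc]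
      _ = (c : G) := by rw [rt_sq (Ov_odd t) ho, hc]

/-- An involution of the centraliser is `t` or a conjugate of `u`. -/
theorem invol_cases {x : G} (hx : orderOf x = 2) (hxt : x * t = t * x) :
    x = t ∨ ∃ h ∈ cen t, h * u * h⁻¹ = x := by
  set c : cen t := ⟨x, Subgroup.mem_centralizer_singleton_iff.2 hxt⟩
  by_cases h3 : S.ι c = negOne
  · exact Or.inl (S.ι_negOne (c := c) hx h3)
  · exact Or.inr (S.refl_lift (c := c)
      (S.ι_sq (c := c) (show x * x = 1 by rw [← pow_two, ← hx, pow_orderOf_eq_one]))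
      (S.ι_invol (c := c) hx) h3).2.2

/-- The action of the centraliser on the core. -/
theorem act (c : cen t) {y : G} (hy : y ∈ Ov t) :
    (c : G) * y * (c : G)⁻¹ = if det (S.ι c) = 1 then y else y⁻¹ := by
  obtain ⟨d1, d2, d3, d4, d5⟩ := det_check
  let P : cen t → Prop := fun c => ∀ y ∈ Ov t,
    (c : G) * y * (c : G)⁻¹ = if det (S.ι c) = 1 then y else y⁻¹
  have hmul : ∀ a b : cen t, P a → P b → P (a * b) := by
    intro a b ha hb y hy
    rw [Subgroup.coe_mul, show (a : G) * b * y * ((a : G) * b)⁻¹ =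
      (a : G) * ((b : G) * y * (b : G)⁻¹) * (a : G)⁻¹ by group, hb y hy, S.ι_mul,
      d4 _ (S.ι_mem a) _ (S.ι_mem b)]
    rcases d3 _ (S.ι_mem a) with e | e <;> rcases d3 _ (S.ι_mem b) with f | f <;> rw [e, f]
    · rw [if_pos rfl, if_pos (by decide), ha y hy, e, if_pos rfl]
    · rw [if_neg (by decide), if_neg (by decide), ha _ (inv_mem hy), e, if_pos rfl]
    · rw [if_pos rfl, if_neg (by decide), ha y hy, e, if_neg (by decide)]
    · rw [if_neg (by decide), if_pos (by decide), ha _ (inv_mem hy), e, if_neg (by decide), inv_inv]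
  have hcore : ∀ c : cen t, (c : G) ∈ Ov t → P c := by
    intro c hc y hy
    rw [S.Ov_abelian hc hy, mul_inv_cancel_right, S.ι_one_iff.2 hc, if_pos d1]
  have hinv : ∀ c : cen t, S.ι c ∈ invols → P c := by
    intro c hc
    obtain ⟨-, hsq⟩ := Finset.mem_filter.1 hc
    by_cases h1 : S.ι c = one
    · exact hcore c (S.ι_one_iff.1 h1)
    by_cases h2 : S.ι c = negOne
    · have e : S.ι tc = negOne := im_tc S.ht _ (core_odd t) S.iso
      have hP : P tc := fun y hy => by
        show t * y * t⁻¹ = _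
        rw [e, if_pos d2, ← (Ov_comm hy).eq, mul_inv_cancel_right]
      have h5 : ((tc⁻¹ * c : cen t) : G) ∈ Ov t := S.ι_eq_iff.1 (e.trans h2.symm)
      have := hmul _ _ hP (hcore _ h5)
      rwa [mul_inv_cancel_left] at this
    intro y hy
    rw [(S.refl_lift hsq h1 h2).2.1 y hy, d5 _ hc h1 h2, if_neg (by decide)]
  obtain ⟨a, ha, b, hb, d, hd, e⟩ := gen_check _ (S.ι_mem c)
  obtain ⟨a', rfl⟩ := im_surj (Cfsg.oddCore (cen t)) S.iso (Finset.mem_filter.1 ha).1
  obtain ⟨b', rfl⟩ := im_surj (Cfsg.oddCore (cen t)) S.iso (Finset.mem_filter.1 hb).1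
  obtain ⟨d', rfl⟩ := im_surj (Cfsg.oddCore (cen t)) S.iso (Finset.mem_filter.1 hd).1
  have e' : S.ι (a' * b' * d') = S.ι c := by rw [S.ι_mul, S.ι_mul]; exact e
  have := hmul _ _ (hmul _ _ (hmul _ _ (hinv a' ha) (hinv b' hb)) (hinv d' hd))
    (hcore _ (S.ι_eq_iff.1 e'))
  rw [mul_inv_cancel_left] at this
  exact this y hy

theorem act_or (c : cen t) {y : G} (hy : y ∈ Ov t) :
    (c : G) * y * (c : G)⁻¹ = y ∨ (c : G) * y * (c : G)⁻¹ = y⁻¹ := by
  rw [S.act c hy]; split_ifs <;> simp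

/-- Conjugate settings. -/
theorem rot : Setup u (t * u) ρ where
  toFrame := S.toFrame.rot
  oneClass := fun x hx => (isConj_iff.2 ⟨ρ⁻¹, by rw [← S.rot_t]; group⟩ : IsConj u t).trans (S.oneClass x hx)
  quot := fun {inst} => by
    have hm : (cen t).map (MulAut.conj ρ).toMonoidHom = cen u := by
      rw [map_cen, MulAut.conj_apply, S.rot_t]
    let f : cen t ≃* cen u :=
      ((MulAut.conj ρ).subgroupMap (cen t)).trans (MulEquiv.subgroupCongr hm)
    exact ⟨(QuotientGroup.congr _ _ f (Cfsg.Agent.FittingCores.pPrimeCore_map_equiv 2 f)).symm.trans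
      S.iso⟩

/-- Two commuting involutions generate a self-centralising group. -/
theorem pair_cent {a b x : G} (ha : orderOf a = 2) (hb : orderOf b = 2) (hab : Commute a b)
    (hne : a ≠ b) (hxa : Commute x a) (hxb : Commute x b) : x * x = 1 := by
  obtain ⟨g, hg⟩ := isConj_iff.1 (S.oneClass a ha)
  have key : ∀ {y z : G}, Commute y z → Commute (MulAut.conj g⁻¹ y) (MulAut.conj g⁻¹ z) :=
    fun h => h.map (MulAut.conj g⁻¹).toMonoidHom
  have ea : MulAut.conj g⁻¹ a = t := by rw [← hg, MulAut.conj_apply]; group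
  set b' := MulAut.conj g⁻¹ b with hb'
  set x' := MulAut.conj g⁻¹ x with hx'
  have h1 : Commute b' t := ea ▸ key hab.symm
  have h2 : Commute x' t := ea ▸ key hxa
  have h3 : Commute x' b' := key hxb
  have hb2 : orderOf b' = 2 := by rw [hb', MulEquiv.orderOf_eq, hb]
  rcases S.invol_cases hb2 h1.eq with e | ⟨h, hh, e⟩
  · exact absurd ((MulAut.conj g⁻¹).injective (ea.trans e.symm)) hne
  have eu : MulAut.conj h⁻¹ b' = u := by rw [← e, MulAut.conj_apply]; group
  have et : MulAut.conj h⁻¹ t = t := by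
    rw [MulAut.conj_apply, inv_inv,
      (Subgroup.mem_centralizer_singleton_iff.1 (inv_mem hh)), mul_assoc, inv_mul_cancel, mul_one]
  have h4 : Commute (MulAut.conj h⁻¹ x') t := by
    have := h2.map (MulAut.conj h⁻¹).toMonoidHom
    rwa [MulEquiv.coe_toMonoidHom, et] at this
  have h5 : Commute (MulAut.conj h⁻¹ x') u := by
    have := h3.map (MulAut.conj h⁻¹).toMonoidHom
    rwa [MulEquiv.coe_toMonoidHom, eu] at this
  have hsq : MulAut.conj h⁻¹ x' * MulAut.conj h⁻¹ x' = 1 := by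
    rcases S.selfCent _ h4.eq h5.eq with e1 | e1 | e1 | e1 <;> rw [e1]
    exacts [one_mul 1, S.tt, S.uu, S.four.ww]
  refine (MulAut.conj g⁻¹).injective ((MulAut.conj h⁻¹).injective ?_)
  rw [map_mul, map_mul, map_one, map_one]
  exact hsq

end Setup

end Cfsg.Agent.SubThree
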