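import Cfsg.Agent.Lib.GW.FieldPart
import Cfsg.Agent.Lib.GW.AutTarget
import Cfsg.Agent.Lib.AutPSL.Classes
import Cfsg.Agent.Lib.Classical.DicksonProper
import Cfsg.Agent.Lib.EPPO.PSL
import Cfsg.Agent.Lib.Perm.AutAlternating
import Cfsg.Agent.S0494

/-!
Groups with a normal self-centralising `A₅` or `PSL(2, 7)` of index two.
-/

set_option autoImplicit false
set_option linter.style.haveILetI false
set_option linter.unusedSectionVars false

namespace Cfsg.Agent.SubThree

open Matrix Cfsg.Agent.AutPSL Cfsg.Agent.GW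

/-- A field of prime order is the ring of integers modulo that prime. -/
theorem psl_zmod {F : Type} [Field F] [Fintype F] {p : ℕ} [Fact p.Prime] (h : Fintype.card F = p) :
    Nonempty (Matrix.ProjectiveSpecialLinearGroup (Fin 2) F ≃*
      Matrix.ProjectiveSpecialLinearGroup (Fin 2) (ZMod p)) :=
  ⟨EPPO.pslRingEquiv (FiniteField.ringEquivOfCardEq (K := F) (K' := ZMod p) (by rw [h, ZMod.card]))⟩

/-- The automorphism group of `PSL(2, p)` is `PGL(2, p)`. -/
theorem aut_equiv_pgl (p : ℕ) [Fact p.Prime] :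
    Nonempty (MulAut (Matrix.ProjectiveSpecialLinearGroup (Fin 2) (ZMod p)) ≃*
      GL (Fin 2) (ZMod p) ⧸ Subgroup.center (GL (Fin 2) (ZMod p))) := by
  have hring : ∀ σ : ZMod p ≃+* ZMod p, σ = 1 := fun σ => RingEquiv.ext fun x =>
    DFunLike.congr_fun (RingHom.ext_zmod σ.toRingHom (RingHom.id _)) x
  let f : GL (Fin 2) (ZMod p) →* MulAut (Matrix.ProjectiveSpecialLinearGroup (Fin 2) (ZMod p)) :=
    { toFun := fun g => semi g 1
      map_one' := semi_one
      map_mul' := fun g h => by rw [semi_mul', mapGL_one, one_mul] }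
  have hsurj : Function.Surjective f := by
    intro β
    obtain ⟨g, σ, rfl⟩ := exists_semi β
    exact ⟨g, by rw [hring σ]; rfl⟩
  have hker : f.ker = Subgroup.center (GL (Fin 2) (ZMod p)) := by
    ext g
    rw [MonoidHom.mem_ker, Matrix.GeneralLinearGroup.center_eq_range_scalar]
    show semi g 1 = 1 ↔ _
    rw [semi_eq_one_iff le_rfl]
    exact ⟨fun ⟨_, c, hc⟩ => ⟨c, hc.symm⟩, fun ⟨c, hc⟩ => ⟨rfl, c, hc.symm⟩⟩
  exact ⟨((QuotientGroup.quotientMulEquivOfEq hker.symm).trans
    (QuotientGroup.quotientKerEquivOfSurjective f hsurj)).symm⟩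

universe u

variable {G : Type u} [Group G] [Finite G]

/-- A group with a normal self-centralising subgroup embeds in its automorphism group, bijectively
when the orders agree. -/
theorem equiv_aut {N : Subgroup G} [N.Normal] (hC : Subgroup.centralizer (N : Set G) = ⊥)
    {B : Type*} [Group B] [Finite B] (e : MulAut N ≃* B) (hcard : Nat.card B ≤ Nat.card G) :
    Nonempty (G ≃* B) := by
  have hinj : Function.Injective (e.toMonoidHom.comp (MulAut.conjNormal : G →* MulAut N)) :=
    e.injective.comp (GW.conjNormal_injective hC)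
  exact ⟨MulEquiv.ofBijective _ ⟨hinj, ((Nat.bijective_iff_injective_and_card _).2 ⟨hinj,
    le_antisymm (Nat.card_le_card_of_injective _ hinj) hcard⟩).2⟩⟩

theorem perm_five_of_normal {N : Subgroup G} [N.Normal] [IsSimpleGroup N]
    (hC : Subgroup.centralizer (N : Set G) = ⊥) (hi : N.index = 2) (hN : Nat.card N = 60) :
    Nonempty (G ≃* Equiv.Perm (Fin 5)) := by
  obtain ⟨e⟩ := S0494.result (G := N) hN
  refine equiv_aut hC ((autCongr e).trans
    (MulEquiv.ofBijective _ (AutAlt.bijective_conjNormal (n := 5) (by norm_num) (by norm_num))).symm) ?_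
  rw [Nat.card_perm, Nat.card_fin, ← N.card_mul_index, hN, hi]
  rfl

theorem pgl_seven_of_normal [Fact (Nat.Prime 7)] {F : Type} [Field F] [Fintype F]
    (hF : Fintype.card F = 7) {N : Subgroup G} [N.Normal]
    (hC : Subgroup.centralizer (N : Set G) = ⊥) (hi : N.index = 2)
    (e : N ≃* Matrix.ProjectiveSpecialLinearGroup (Fin 2) F) :
    Nonempty (G ≃* GL (Fin 2) (ZMod 7) ⧸ Subgroup.center (GL (Fin 2) (ZMod 7))) := by
  obtain ⟨e'⟩ := psl_zmod (p := 7) hF
  obtain ⟨a⟩ := aut_equiv_pgl 7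
  refine equiv_aut hC ((autCongr (e.trans e')).trans a) ?_
  have h1 := Dickson.gcd_mul_card_psl (K := ZMod 7)
  have h2 := N.card_mul_index
  have h3 : Nat.card (GL (Fin 2) (ZMod 7) ⧸ Subgroup.center (GL (Fin 2) (ZMod 7))) = _ :=
    Dickson.card_pgl2 (K := ZMod 7)
  rw [Nat.card_zmod] at h1 h3
  rw [Nat.card_congr (e.trans e').toEquiv, hi] at h2
  rw [h3]
  rw [show Nat.gcd 2 (7 - 1) = 2 from rfl] at h1
  omega

end Cfsg.Agent.SubThree
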