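import Mathlib.GroupTheory.Transfer
import Mathlib.GroupTheory.PGroup

/-!
The transfer of an involution, computed on the fixed cosets of a 2-subgroup of its centraliser.
-/

set_option autoImplicit false
set_option linter.style.haveILetI false

namespace Cfsg.Agent.SubThree

open MulAction Subgroup

universe u v

variable {G : Type u} [Group G] [Finite G] {B : Type v} [CommGroup B]

theorem transfer_invol (H : Subgroup G) (φ : H →* B) {c : G} (hc : c * c = 1) {P : Subgroup G}
    (hP : IsPGroup 2 P) (hcP : c ∈ P) (hPc : ∀ p ∈ P, p * c = c * p) (hodd : Odd H.index) {b : B}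
    (hb : b * b = 1)
    (hval : ∀ (x : G) (h : x⁻¹ * c * x ∈ H), (∀ p ∈ P, x⁻¹ * p * x ∈ H) → φ ⟨_, h⟩ = b) :
    MonoidHom.transfer φ c = b := by
  classical
  haveI : Fact (Nat.Prime 2) := ⟨Nat.prime_two⟩
  letI : Fintype (G ⧸ H) := Fintype.ofFinite _
  letI : Fintype (Quotient (orbitRel (zpowers c) (G ⧸ H))) := Fintype.ofFinite _
  let F : G ⧸ H → B := fun q => if h : q.out⁻¹ * c * q.out ∈ H then φ ⟨_, h⟩ else 1
  have hfix : ∀ (g : G) (q : G ⧸ H), g • q = q ↔ q.out⁻¹ * g * q.out ∈ H := by
    intro g q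
    conv_lhs => rw [← QuotientGroup.out_eq' q]
    rw [MulAction.Quotient.smul_mk, eq_comm, QuotientGroup.eq, smul_eq_mul, mul_assoc]
  -- independence of the representative
  have hrep : ∀ (q : G ⧸ H) (x : G), (x : G ⧸ H) = q → ∀ (h : x⁻¹ * c * x ∈ H),
      F q = φ ⟨_, h⟩ := by
    intro q x hx h
    have hd : x⁻¹ * q.out ∈ H := QuotientGroup.eq.1 (hx.trans (QuotientGroup.out_eq' q).symm)
    have e : q.out⁻¹ * c * q.out = (x⁻¹ * q.out)⁻¹ * (x⁻¹ * c * x) * (x⁻¹ * q.out) := by group
    have hq : q.out⁻¹ * c * q.out ∈ H := e ▸ mul_mem (mul_mem (inv_mem hd) h) hd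
    show dite _ _ _ = _
    rw [dif_pos hq, show (⟨_, hq⟩ : H) = (⟨_, hd⟩ : H)⁻¹ * ⟨_, h⟩ * ⟨_, hd⟩ from Subtype.ext e,
      map_mul, map_mul, map_inv, mul_comm _ (φ ⟨_, hd⟩), ← mul_assoc, mul_inv_cancel, one_mul]
  have hsq : ∀ q, F q * F q = 1 := by
    intro q
    by_cases h : q.out⁻¹ * c * q.out ∈ H
    · simp only [F, dif_pos h]
      rw [← map_mul, ← map_one φ]
      refine congrArg φ (Subtype.ext ?_)
      show q.out⁻¹ * c * q.out * (q.out⁻¹ * c * q.out) = 1
      calc q.out⁻¹ * c * q.out * (q.out⁻¹ * c * q.out) = q.out⁻¹ * (c * c) * q.out := by group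
        _ = 1 := by rw [hc, mul_one, inv_mul_cancel]
    · simp only [F, dif_neg h, one_mul]
  have hinv : ∀ (p : G), p ∈ P → ∀ q : G ⧸ H, F (p • q) = F q := by
    intro p hp q
    have e : (p * q.out)⁻¹ * c * (p * q.out) = q.out⁻¹ * c * q.out := by
      calc (p * q.out)⁻¹ * c * (p * q.out) = q.out⁻¹ * p⁻¹ * (c * p) * q.out := by group
        _ = q.out⁻¹ * p⁻¹ * (p * c) * q.out := by rw [hPc p hp]
        _ = _ := by group
    have hpq : ((p * q.out : G) : G ⧸ H) = p • q := by
      conv_rhs => rw [← QuotientGroup.out_eq' q]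
      rfl
    by_cases h : q.out⁻¹ * c * q.out ∈ H
    · rw [hrep (p • q) (p * q.out) hpq (e.symm ▸ h)]
      show _ = dite _ _ _
      rw [dif_pos h]
      exact congrArg φ (Subtype.ext e)
    · have h' : ¬ (p • q).out⁻¹ * c * (p • q).out ∈ H := by
        rw [← hfix] at h ⊢
        intro e'
        refine h (MulAction.injective p ?_)
        show p • c • q = p • q
        rw [← mul_smul, hPc p hp, mul_smul, e']
      simp only [F, dif_neg h, dif_neg h']
  -- the transfer as a product over all cosets
  have h1 : MonoidHom.transfer φ c = ∏ q : G ⧸ H, F q := by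
    rw [MonoidHom.transfer_eq_prod_quotient_orbitRel_zpowers_quot]
    have hper : ∀ q : G ⧸ H, (c • q = q → Function.minimalPeriod (c • ·) q = 1) ∧
        (c • q ≠ q → Function.minimalPeriod (c • ·) q = 2) := by
      intro q
      refine ⟨fun h => Function.minimalPeriod_eq_one_iff_isFixedPt.2 h, fun h => ?_⟩
      exact Function.minimalPeriod_eq_prime (p := 2) (by
        show c • c • q = q
        rw [← mul_smul, hc, one_smul]) h
    have hF : ∀ Q : Quotient (orbitRel (zpowers c) (G ⧸ H)),
        φ ⟨Q.out.out⁻¹ * c ^ Function.minimalPeriod (c • ·) Q.out * Q.out.out,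
          QuotientGroup.out_conj_pow_minimalPeriod_mem H c Q.out⟩ = F Q.out := by
      intro Q
      by_cases h : c • Q.out = Q.out
      · have h' := (hfix c Q.out).1 h
        simp only [F, dif_pos h']
        refine congrArg φ (Subtype.ext ?_)
        show Q.out.out⁻¹ * c ^ Function.minimalPeriod (c • ·) Q.out * Q.out.out = _
        rw [(hper _).1 h, pow_one]
      · simp only [F, dif_neg (mt (hfix c Q.out).2 h)]
        rw [← map_one φ]
        refine congrArg φ (Subtype.ext ?_)
        show Q.out.out⁻¹ * c ^ Function.minimalPeriod (c • ·) Q.out * Q.out.out = 1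
        rw [(hper _).2 h, pow_two, hc, mul_one, inv_mul_cancel]
    rw [Finset.prod_congr rfl fun Q _ => hF Q]
    rw [← Finset.prod_filter_of_ne (p := fun Q : Quotient (orbitRel (zpowers c) (G ⧸ H)) =>
        c • Q.out = Q.out) (fun Q _ hne => by
          by_contra h
          exact hne (dif_neg (mt (hfix c Q.out).2 h))),
      ← Finset.prod_filter_of_ne (p := fun q : G ⧸ H => c • q = q) (f := F) (fun q _ hne => by
          by_contra h
          exact hne (dif_neg (mt (hfix c q).2 h)))]
    have horb : ∀ q q' : G ⧸ H, c • q = q →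
        Quotient.mk (orbitRel (zpowers c) (G ⧸ H)) q' = Quotient.mk _ q → q' = q := by
      intro q q' hq he
      obtain ⟨⟨g, hg⟩, hgq⟩ := (Quotient.exact he : q' ∈ orbit (zpowers c) q)
      have hle : zpowers c ≤ stabilizer G q := zpowers_le.2 hq
      exact hgq.symm.trans (mem_stabilizer_iff.1 (hle hg))
    refine Finset.prod_bij' (fun Q _ => Q.out) (fun q _ => Quotient.mk _ q) ?_ ?_ ?_ ?_ ?_
    · intro Q hQ
      simp only [Finset.mem_filter, Finset.mem_univ, true_and] at hQ ⊢
      exact hQ
    · intro q hq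
      simp only [Finset.mem_filter, Finset.mem_univ, true_and] at hq ⊢
      rw [horb q _ hq (Quotient.out_eq _)]
      exact hq
    · intro Q _
      exact Quotient.out_eq Q
    · intro q hq
      simp only [Finset.mem_filter, Finset.mem_univ, true_and] at hq
      exact horb q _ hq (Quotient.out_eq _)
    · intro Q _; rfl
  rw [h1]
  -- split off the fixed points of `P`
  set s : Finset (G ⧸ H) := Finset.univ.filter fun q => ∀ p : P, (p : G) • q = q with hs
  rw [← Finset.prod_mul_prod_compl s F]
  have hfixed : ∀ q ∈ s, F q = b := by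
    intro q hq
    simp only [hs, Finset.mem_filter, Finset.mem_univ, true_and] at hq
    have hc' := (hfix c q).1 (hq ⟨c, hcP⟩)
    simp only [F, dif_pos hc']
    exact hval _ hc' fun p hp => (hfix p q).1 (hq ⟨p, hp⟩)
  have hrest : ∏ q ∈ sᶜ, F q = 1 := by
    rw [Finset.prod_partition (orbitRel P (G ⧸ H))]
    refine Finset.prod_eq_one fun Q hQ => ?_
    obtain ⟨q, hq, rfl⟩ := Finset.mem_image.1 hQ
    have hset : (sᶜ.filter fun y => Quotient.mk (orbitRel P (G ⧸ H)) y = Quotient.mk _ q) =
        (orbit P q).toFinset := by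
      ext y
      simp only [Finset.mem_filter, Finset.mem_compl, Set.mem_toFinset]
      constructor
      · exact fun h => Quotient.exact h.2
      · intro h
        refine ⟨fun hy => Finset.mem_compl.1 hq ?_, Quotient.sound h⟩
        obtain ⟨p, rfl⟩ := h
        simp only [hs, Finset.mem_filter, Finset.mem_univ, true_and] at hy ⊢
        intro p'
        refine MulAction.injective (p : G) ?_
        show (p : G) • (p' : G) • q = (p : G) • q
        have := hy (p * p' * p⁻¹)
        rw [Subgroup.coe_mul, Subgroup.coe_mul, Subgroup.coe_inv] at this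
        rw [← mul_smul]
        conv_rhs => rw [← show ((p : G) * p' * (p : G)⁻¹) • ((p : G) • q) = (p : G) • q from this,
          ← mul_smul]
        rw [inv_mul_cancel_right]
    have hconst : ∀ y ∈ (orbit P q).toFinset, F y = F q := by
      intro y hy
      obtain ⟨p, rfl⟩ := Set.mem_toFinset.1 hy
      exact hinv p p.2 q
    rw [hset, Finset.prod_eq_pow_card hconst, Set.toFinset_card, ← Nat.card_eq_fintype_card]
    obtain ⟨k, hk⟩ := hP.card_orbit q
    rw [hk]
    rcases Nat.eq_zero_or_pos k with rfl | hk0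
    · exfalso
      refine Finset.mem_compl.1 hq ?_
      simp only [hs, Finset.mem_filter, Finset.mem_univ, true_and]
      intro p
      rw [pow_zero, Nat.card_eq_one_iff_unique] at hk
      exact congrArg Subtype.val (@Subsingleton.elim _ hk.1 (⟨p • q, mem_orbit q p⟩ : orbit P q)
        ⟨q, mem_orbit_self q⟩)
    · obtain ⟨j, rfl⟩ : ∃ j, k = j + 1 := ⟨k - 1, by omega⟩
      rw [pow_succ, mul_comm, pow_mul, pow_two, hsq, one_pow]
  rw [hrest, mul_one, Finset.prod_eq_pow_card hfixed]
  have hscard : Odd s.card := by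
    have h := hP.card_modEq_card_fixedPoints (G ⧸ H)
    have e : Nat.card (fixedPoints P (G ⧸ H)) = s.card := by
      rw [← Nat.card_eq_finsetCard]
      exact Nat.card_congr (Equiv.subtypeEquivRight fun q => by
        simp only [hs, Finset.mem_filter, Finset.mem_univ, true_and]
        rfl)
    rw [e, ← index_eq_card] at h
    rw [Nat.odd_iff] at hodd ⊢
    exact (show H.index % 2 = s.card % 2 from h).symm.trans hodd
  obtain ⟨j, hj⟩ := hscard
  rw [hj, pow_succ, pow_mul, pow_two, hb, one_pow, one_mul]

end Cfsg.Agent.SubThree
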