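import Cfsg.Agent.Lib.SubThree.SDQuot
import Cfsg.Agent.S2916

/-!
The groups with a quasi-dihedral Sylow subgroup in the maximal setting.
-/

set_option autoImplicit false
set_option linter.style.haveILetI false
set_option linter.unusedSectionVars false
set_option synthInstance.maxSize 4000
set_option maxRecDepth 100000

namespace Cfsg.Agent.SubThree

open Cfsg Cfsg.Agent.GLTwoThree Cfsg.Agent.DGroup

universe u

variable {G : Type u} [Group G] [Finite G]

attribute [local instance] core_normal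

/-- The maximal setting with quasi-dihedral Sylow subgroups gives `L₃(3)` or `M₁₁`. -/
theorem psl_or_M11 [IsSimpleGroup G] (S : Sylow 2 G) (hS : Cfsg.IsQuasiDihedral (S : Subgroup G))
    {t u ρ : G} {A : Subgroup G} {φ : MulAut G} (F : Full t u ρ A φ) :
    (∃ e : cen t ≃* Matrix.GeneralLinearGroup (Fin 2) (ZMod 3), True) ∧
    ((Nonempty (G ≃* Matrix.ProjectiveSpecialLinearGroup (Fin 3) (ZMod 3)) ∧ Nat.card G = 5616) ∨
      (Cfsg.Spor.IsoM11 G ∧ Nat.card G = 7920)) := by
  haveI : Fact (Nat.Prime 2) := ⟨Nat.prime_two⟩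
  haveI : Fintype G := Fintype.ofFinite G
  have hG : ∀ H : Subgroup G, H.index ≠ 2 := by
    intro H hH
    haveI := Subgroup.normal_of_index_eq_two hH
    rcases IsSimpleGroup.eq_bot_or_eq_top_of_normal H inferInstance with e | e
    · rw [e, Subgroup.index_bot] at hH
      have h16 : 16 ∣ Nat.card G := by
        refine Dvd.dvd.trans ?_ (Subgroup.card_subgroup_dvd_card (cen t))
        rw [F.card_cen]
        exact dvd_mul_of_dvd_left (by norm_num) _
      rw [hH] at h16
      norm_num at h16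
    · rw [e, Subgroup.index_top] at hH; omega
  have h32 : ¬ 32 ∣ Nat.card G := by
    intro h
    obtain ⟨R⟩ : Nonempty (Sylow 2 (cen t)) := inferInstance
    have hR := (exists_pres_cen S hS hG F.ht R).1
    have h1 : 2 ^ 5 ∣ Nat.card (S : Subgroup G) := S.pow_dvd_card_of_pow_dvd_card h
    have h2 : 2 ^ 5 ∣ Nat.card (cen t) :=
      hR ▸ h1 |>.trans (Subgroup.card_subgroup_dvd_card _)
    rw [F.card_cen, show 48 * Nat.card (Ov t) = 2 ^ 4 * (3 * Nat.card (Ov t)) by ring,
      pow_succ 2 4] at h2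
    have h3 : 2 ∣ 3 * Nat.card (Ov t) := Nat.dvd_of_mul_dvd_mul_left (by norm_num) h2
    rcases (Nat.Prime.dvd_mul Nat.prime_two).1 h3 with h4 | h4
    · norm_num at h4
    · exact Nat.not_even_iff_odd.2 (Ov_odd t) (even_iff_two_dvd.2 h4)
  obtain ⟨hO, hcard⟩ := F.main h32
  have hbot : Cfsg.oddCore (cen t) = ⊥ :=
    (Subgroup.map_eq_bot_iff_of_injective _ (cen t).subtype_injective).1 hO
  let e : cen t ≃* Matrix.GeneralLinearGroup (Fin 2) (ZMod 3) :=
    (MulEquiv.ofBijective (QuotientGroup.mk' (Cfsg.oddCore (cen t)))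
      ⟨(injective_iff_map_eq_one _).2 fun x hx =>
        Subgroup.mem_bot.1 (hbot ▸ (QuotientGroup.eq_one_iff x).1 hx),
        QuotientGroup.mk'_surjective _⟩).trans F.iso
  refine ⟨⟨e, trivial⟩, ?_⟩
  rcases hcard with hG | hG
  · exact Or.inl ⟨GLTwoThree.nonempty_psl_of_card F.ht e F.oneClass hG, hG⟩
  · refine Or.inr ⟨?_, hG⟩
    haveI : IsSimpleGroup ↥Cfsg.Spor.M11 := by
      rw [Golay.sporM11_eq]; exact Golay.isSimpleGroup_M11
    haveI : Fintype ↥Cfsg.Spor.M11 := Fintype.ofFinite _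
    obtain ⟨a⟩ := M11Uniq.nonempty_mulEquiv_std hG
    obtain ⟨b⟩ := M11Uniq.nonempty_mulEquiv_std Golay.card_sporM11
    exact ⟨a.trans b.symm⟩

end Cfsg.Agent.SubThree
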