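import Cfsg.Agent.Lib.SubThree.Prim
import Cfsg.Agent.Lib.GW.Main
import Cfsg.Agent.Lib.BrauerSuzuki.Main
import Cfsg.Agent.Lib.Classical.DicksonProper
import Cfsg.Agent.S3224
import Cfsg.Prelude.Def_CaseTheorems

/-!
Sylow 2-subgroups with a self-centralising four-group, and their consequences.
-/

set_option autoImplicit false
set_option linter.style.haveILetI false
set_option linter.unusedSectionVars false

namespace Cfsg.Agent.SubThree

open Subgroup

universe u

variable {G : Type u} [Group G] [Finite G]

/-- The centraliser of an element inside a subgroup. -/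
theorem card_cent_sub {T : Subgroup G} (x : T) :
    Nat.card (centralizer ({x} : Set T)) = Nat.card (T ⊓ centralizer ({(x : G)} : Set G) : Subgroup G) := by
  refine Nat.card_congr
    { toFun := fun y => ⟨((y : T) : G), (y : T).2,
        mem_cent_singleton.2 (congrArg Subtype.val (mem_cent_singleton.1 y.2))⟩
      invFun := fun y => ⟨⟨y, y.2.1⟩, mem_cent_singleton.2 (Subtype.ext (mem_cent_singleton.1 y.2.2))⟩
      left_inv := fun y => rfl
      right_inv := fun y => rfl }

/-- A 2-group with a self-centralising four-group is dihedral or quasi-dihedral. -/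
theorem two_group_types {T : Subgroup G} (hT : IsPGroup 2 T) {x : G} (hx : x ∈ T)
    (hxo : orderOf x = 2) (hC : Nat.card (T ⊓ centralizer ({x} : Set G) : Subgroup G) = 4)
    (hsq : ∀ y ∈ T ⊓ centralizer ({x} : Set G), y * y = 1) :
    (∃ n : ℕ, 2 ≤ n ∧ Nonempty (T ≃* DihedralGroup n)) ∨ Cfsg.IsQuasiDihedral T := by
  have hC' : Nat.card (centralizer ({(⟨x, hx⟩ : T)} : Set T)) = 4 := by rw [card_cent_sub]; exact hC
  have h4 : 4 ∣ Nat.card T := hC ▸ card_dvd_of_le inf_le_left
  have hpos := Nat.le_of_dvd Nat.card_pos h4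
  rcases S3224.result hT (⟨x, hx⟩ : T) (by rw [← Subgroup.orderOf_coe]; exact hxo) hC' with
    ⟨n, ⟨e⟩⟩ | h | h
  · refine Or.inl ⟨n, ?_, ⟨e⟩⟩
    have := Nat.card_congr e.toEquiv
    rw [DihedralGroup.nat_card] at this
    omega
  · exact Or.inr h
  · refine Or.inl ⟨2, le_rfl, ?_⟩
    have hTC : T ⊓ centralizer ({x} : Set G) = T := eq_of_le_of_card_ge inf_le_left (by omega)
    haveI : Nontrivial T := by
      rw [← Finite.one_lt_card_iff_nontrivial]
      omega
    haveI : IsKleinFour T := ⟨h, Monoid.exponent_eq_prime_iff Nat.prime_two |>.2 fun y hy =>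
      orderOf_eq_prime (Subtype.ext (by
        rw [pow_two, Subgroup.coe_mul]
        exact hsq y (hTC.symm ▸ y.2))) hy⟩
    exact IsKleinFour.nonempty_mulEquiv

/-- A simple group with such a Sylow subgroup which is dihedral is a target. -/
theorem target_of_dihedral [IsSimpleGroup G] (T : Sylow 2 G)
    (h : ∃ n : ℕ, 2 ≤ n ∧ Nonempty ((T : Subgroup G) ≃* DihedralGroup n)) : GW.IsTarget G := by
  obtain ⟨n, hn, e⟩ := h
  exact GW.simpleDihedral G T n hn e

/-- A target whose order rules out `A₇` is linear. -/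
theorem linear_of_target (h : GW.IsTarget G) (h7 : Nat.card G ≠ 2520) :
    ∃ (F : Type) (_ : Field F) (_ : Fintype F), Odd (Fintype.card F) ∧ 3 < Fintype.card F ∧
      Nonempty (G ≃* Matrix.ProjectiveSpecialLinearGroup (Fin 2) F) := by
  refine h.resolve_right fun ⟨e⟩ => h7 ?_
  rw [Nat.card_congr e.toEquiv, nat_card_alternatingGroup, Nat.card_fin]
  rfl

/-- The order of a linear group of odd characteristic. -/
theorem card_linear {F : Type} [Field F] [Fintype F] (hodd : Odd (Fintype.card F))
    (e : G ≃* Matrix.ProjectiveSpecialLinearGroup (Fin 2) F) :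
    2 * Nat.card G = Fintype.card F * (Fintype.card F ^ 2 - 1) := by
  have h := Dickson.gcd_mul_card_psl (K := F)
  obtain ⟨r, hr⟩ := hodd
  rw [← Nat.card_congr e.toEquiv, Nat.card_eq_fintype_card (α := F),
    Nat.gcd_eq_left (show 2 ∣ Fintype.card F - 1 from ⟨r, by omega⟩)] at h
  exact h

/-- A non-abelian simple group whose Sylow 2-subgroup has only one involution does not exist. -/
theorem false_of_unique_invol [hs : IsSimpleGroup G] (hna : ¬ Group.IsSolvable G) (Q : Sylow 2 G)
    (hQ : ∀ a ∈ (Q : Subgroup G), ∀ b ∈ (Q : Subgroup G), orderOf a = 2 → orderOf b = 2 → a = b) :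
    False := by
  classical
  haveI : Fact (Nat.Prime 2) := ⟨Nat.prime_two⟩
  have hR : BrauerSuzuki.RankOne G := by
    intro a b ha hb hab
    let V : Subgroup G := Subgroup.closure {a, b}
    have hcomm : ∀ x ∈ ({a, b} : Set G), ∀ y ∈ ({a, b} : Set G), x * y = y * x := by
      intro x hx y hy
      rcases hx with rfl | rfl <;> rcases hy with rfl | rfl
      exacts [rfl, hab, hab.symm, rfl]
    haveI hVc : IsMulCommutative V := isMulCommutative_closure hcomm
    have h2 : ∀ v ∈ V, v * v = 1 := by
      intro v hv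
      refine Subgroup.closure_induction (p := fun x _ => x * x = 1) ?_ (one_mul 1) ?_ ?_ hv
      · rintro x (rfl | rfl)
        · rw [← pow_two, ← ha, pow_orderOf_eq_one]
        · rw [← pow_two, ← hb, pow_orderOf_eq_one]
      · intro x y hx hy hxx hyy
        have hxy : x * y = y * x := congrArg Subtype.val (mul_comm' (⟨x, hx⟩ : V) ⟨y, hy⟩)
        calc x * y * (x * y) = x * (y * x) * y := by group
          _ = 1 := by rw [← hxy, ← mul_assoc, hxx, one_mul, hyy]
      · intro x _ hx
        rw [← mul_inv_rev, hx, inv_one]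
    have hV : IsPGroup 2 V := fun v => ⟨1, Subtype.ext (by rw [pow_one, pow_two]; exact h2 v v.2)⟩
    obtain ⟨S, hS⟩ := hV.exists_le_sylow
    obtain ⟨c, hc⟩ := MulAction.exists_smul_eq G S Q
    have hmem : ∀ v ∈ V, c * v * c⁻¹ ∈ (Q : Subgroup G) := by
      intro v hv
      rw [← hc, Sylow.coe_subgroup_smul]
      exact Subgroup.smul_mem_pointwise_smul _ (MulAut.conj c) _ (hS hv)
    refine (MulAut.conj c).injective (hQ _ (hmem a (subset_closure (Or.inl rfl))) _
      (hmem b (subset_closure (Or.inr rfl))) ?_ ?_)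
    · exact (orderOf_injective (MulAut.conj c).toMonoidHom (MulAut.conj c).injective a).trans ha
    · exact (orderOf_injective (MulAut.conj c).toMonoidHom (MulAut.conj c).injective b).trans hb
  have h2 : 2 ∣ Nat.card G := by
    by_contra h
    exact hna (MinNonCA.solvable_of_odd (Nat.odd_iff.2 (Nat.two_dvd_ne_zero.1 h)))
  obtain ⟨z, hz⟩ := exists_prime_orderOf_dvd_card' 2 h2
  have hZ := BrauerSuzuki.inZStar G hR z hz
  have hcore : Cfsg.pPrimeCore 2 G = ⊥ := by
    haveI : (Cfsg.pPrimeCore 2 G).Normal := FittingCores.pPrimeCore_normal 2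
    refine (IsSimpleGroup.eq_bot_or_eq_top_of_normal _ inferInstance).resolve_right fun e => ?_
    have := FittingCores.pPrimeCore_coprime (G := G) 2
    rw [e, Subgroup.card_top] at this
    exact Nat.prime_two.coprime_iff_not_dvd.1 this.symm h2
  have hzc : z ∈ Subgroup.center G := mem_center_iff.2 fun g => by
    have := hZ g
    rw [hcore, mem_bot, mul_inv_eq_one, mul_inv_eq_iff_eq_mul] at this
    exact this
  rcases IsSimpleGroup.eq_bot_or_eq_top_of_normal (Subgroup.center G) inferInstance with e | e
  · rw [e, mem_bot] at hzc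
    rw [hzc, orderOf_one] at hz
    omega
  · exact hna (Group.isSolvable_of_comm fun a b => mem_center_iff.1 (e ▸ Subgroup.mem_top b) a)

end Cfsg.Agent.SubThree
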