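import Cfsg.Agent.Lib.SubThree.EightLocal
import Cfsg.Agent.Lib.SubThree.InvolTransfer
import Cfsg.Agent.Lib.SubThree.SylowTools
import Cfsg.Agent.Lib.SubThree.Goal
import Cfsg.Agent.Lib.SubThree.SDFinal
import Cfsg.Agent.Lib.SubThree.PSLFacts
import Cfsg.Agent.Lib.SubThree.AutSmall
import Cfsg.Agent.Lib.BSW.Outer
import Cfsg.Agent.S2060

/-!
The stabiliser of order 48.
-/

set_option autoImplicit false
set_option linter.style.haveILetI false
set_option linter.unusedSectionVars false

namespace Cfsg.Agent.SubThree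

open Subgroup

universe u

variable {G : Type u} [Group G] [Finite G]

/-- A 2-group with a self-centralising four-group. -/
theorem two_group_types_of_klein {T V : Subgroup G} (hT : IsPGroup 2 T) (hV : IsKleinFour V)
    (hVT : V ≤ T) (hCV : centralizer (V : Set G) ≤ V) :
    (∃ n : ℕ, 2 ≤ n ∧ Nonempty (T ≃* DihedralGroup n)) ∨ Cfsg.IsQuasiDihedral T := by
  haveI : Fact (Nat.Prime 2) := ⟨Nat.prime_two⟩
  haveI : Nontrivial T := by
    rw [← Finite.one_lt_card_iff_nontrivial]
    have := Subgroup.card_le_of_le hVT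
    rw [hV.card_four] at this
    omega
  haveI := IsPGroup.center_nontrivial hT
  obtain ⟨⟨⟨z, hzT⟩, hzc⟩, hz1'⟩ := exists_ne (1 : center T)
  have hz1 : z ≠ 1 := fun e => hz1' (Subtype.ext (Subtype.ext e))
  have hzcomm : ∀ q ∈ T, q * z = z * q := fun q hq =>
    congrArg Subtype.val (mem_center_iff.1 hzc ⟨q, hq⟩)
  have hzV : z ∈ V := hCV (mem_centralizer_iff.2 fun v hv => hzcomm v (hVT hv))
  obtain ⟨x, hxV, hx1, hxz⟩ := FourGroup.exists_two hV (a := z)
  have hTC : T ⊓ centralizer ({x} : Set G) = V := by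
    refine le_antisymm (fun q hq => hCV (mem_centralizer_iff.2 fun v hv => ?_)) (le_inf hVT fun v hv =>
      mem_cent_singleton.2 (FourGroup.comm_of_mem hV hv hxV))
    rw [FourGroup.eq_four hV hzV hxV hz1 hx1 (Ne.symm hxz)] at hv
    have hqz := hzcomm q hq.1
    have hqx := mem_cent_singleton.1 hq.2
    rcases FourGroup.mem_four.1 hv with rfl | rfl | rfl | rfl
    · rw [one_mul, mul_one]
    · exact hqz.symm
    · exact hqx.symm
    · exact (Commute.mul_right (a := q) hqz hqx).symm.eq
  exact two_group_types hT (hVT hxV)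
    (orderOf_eq_prime (by rw [pow_two]; exact FourGroup.mul_self_of_mem hV hxV) hx1)
    (by rw [hTC, hV.card_four]) (fun q hq => FourGroup.mul_self_of_mem hV (hTC ▸ hq))

namespace Eight

variable {A A₀ V : Subgroup G} {c g : G} (H : Eight A A₀ V c g)
include H

/-- Every nontrivial normal subgroup contains the four-group. -/
theorem V_le_normal {M : Subgroup G} [M.Normal] (h : M ≠ ⊥) : V ≤ M := by
  haveI : Fact (Nat.Prime 2) := ⟨Nat.prime_two⟩
  have P := H.prim
  obtain ⟨y, hy, hy1, hc⟩ := exists_fix (P := H.E) (N := M)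
    (IsPGroup.of_card (n := 3) (by rw [H.card_E]; norm_num))
    (fun v _ => normalizer_eq_top (H := M) ▸ Subgroup.mem_top v) (P.two_dvd h)
  have hyE : y ∈ H.E := H.cent_V y fun v hv => (hc v (H.V_le_E hv)).symm
  by_cases hK0 : M ⊓ A ⊓ A₀ = ⊥
  swap
  · exact ((H.sym.uniq (M ⊓ A ⊓ A₀) inf_le_right hK0 fun a ha => mem_normalizer_of fun v hv =>
      ⟨conj_mem_normalizer (P.meet_normal (H.le ha)) hv.1,
        A₀.mul_mem (A₀.mul_mem ha hv.2) (A₀.inv_mem ha)⟩).trans inf_le_left).trans inf_le_left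
  exfalso
  -- the intersection is the centre
  have hK : ∀ k ∈ M ⊓ A, k = 1 ∨ k = c := by
    intro k hk
    refine H.center_cases k hk.2 fun b hb => ?_
    have hcom : k * b * k⁻¹ * b⁻¹ = 1 := by
      rw [← mem_bot, ← hK0]
      refine Subgroup.mem_inf.2 ⟨?_, ?_⟩
      · rw [show k * b * k⁻¹ * b⁻¹ = k * (b * k⁻¹ * b⁻¹) by group]
        exact (M ⊓ A).mul_mem hk (conj_mem_normalizer (P.meet_normal hb) ((M ⊓ A).inv_mem hk))
      · rcases H.cover k hk.2 with h' | h'
        · rw [show k * b * k⁻¹ * b⁻¹ = k * (b * k⁻¹ * b⁻¹) by group]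
          exact A₀.mul_mem h' (conj_mem_normalizer (H.A0_normal hb) (A₀.inv_mem h'))
        · have e : k * b * k⁻¹ * b⁻¹ = (k * c) * (b * (k * c)⁻¹ * b⁻¹) := by
            have hcb := H.central b hb
            calc k * b * k⁻¹ * b⁻¹ = k * ((b * c) * c⁻¹) * k⁻¹ * b⁻¹ := by group
              _ = k * ((c * b) * c⁻¹) * k⁻¹ * b⁻¹ := by rw [hcb]
              _ = _ := by group
          rw [e]
          exact A₀.mul_mem h' (conj_mem_normalizer (H.A0_normal hb) (A₀.inv_mem h'))
    calc k * b = k * b * k⁻¹ * b⁻¹ * (b * k) := by group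
      _ = b * k := by rw [hcom, one_mul]
  have hcM : c ∈ M := by
    rcases hK y ⟨hy, H.E_le hyE⟩ with e | e
    · exact absurd e hy1
    · exact e ▸ hy
  set cM : M := ⟨c, hcM⟩
  have hcent : ∀ q : M, q * cM = cM * q → q = 1 ∨ q = cM := by
    intro q hq
    have hqA : (q : G) ∈ A := H.cent_c ▸ mem_cent_singleton.2 (congrArg Subtype.val hq)
    rcases hK q ⟨q.2, hqA⟩ with e | e
    · exact Or.inl (Subtype.ext e)
    · exact Or.inr (Subtype.ext e)
  have hc1 : cM ≠ 1 := fun e => H.toSym8.c_ne (congrArg Subtype.val e)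
  have hco : orderOf cM = 2 := orderOf_eq_prime (by rw [pow_two]; exact Subtype.ext H.hcc) hc1
  have hc2 : IsPGroup 2 (zpowers cM) :=
    IsPGroup.of_card (n := 1) (by rw [Nat.card_zpowers, hco, pow_one])
  obtain ⟨Q, hQ⟩ := hc2.exists_le_sylow
  have hcQ : cM ∈ (Q : Subgroup M) := hQ (mem_zpowers _)
  haveI : Nontrivial (Q : Subgroup M) := (Subgroup.nontrivial_iff_ne_bot _).2
    fun e => hc1 (mem_bot.1 (e ▸ hcQ))
  haveI := IsPGroup.center_nontrivial Q.isPGroup'
  obtain ⟨⟨⟨w, hwQ⟩, hwc⟩, hw1⟩ := exists_ne (1 : center (Q : Subgroup M))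
  have hwcm : ∀ q ∈ (Q : Subgroup M), q * w = w * q := fun q hq =>
    congrArg Subtype.val (mem_center_iff.1 hwc ⟨q, hq⟩)
  have hwc' : w = cM := (hcent w (hwcm cM hcQ).symm).resolve_left fun e => hw1 (Subtype.ext (Subtype.ext e))
  subst hwc'
  refine P.not_cyclic h Q (isCyclic_iff_exists_zpowers_eq_top.2 ⟨⟨cM, hcQ⟩, eq_top_iff.2 fun q _ => ?_⟩)
  rcases hcent q (hwcm q q.2) with e | e
  · rw [show q = 1 from Subtype.ext e]; exact Subgroup.one_mem _
  · rw [show q = ⟨cM, hcQ⟩ from Subtype.ext e]; exact Subgroup.mem_zpowers _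

/-- A normal subgroup avoiding the central involution exists. -/
theorem exists_normal : ∃ N : Subgroup G, N.Normal ∧ N ≠ ⊥ ∧ c ∉ N := by
  classical
  haveI : Fact (Nat.Prime 2) := ⟨Nat.prime_two⟩
  obtain ⟨hD8, hcD⟩ := H.card_D
  set D' := H.D.subgroupOf H.R
  haveI : D'.Normal := (normal_subgroupOf_iff_le_normalizer (H.D_le_S.trans H.S_le_R)).2 H.R_norm_D
  have hQ : Nat.card (H.R ⧸ D') = 2 ^ 2 := by
    have h := D'.card_mul_index
    rw [H.card_R, Nat.card_congr (subgroupOfEquivOfLe (H.D_le_S.trans H.S_le_R)).toEquiv, hD8,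
      index_eq_card] at h
    omega
  letI : CommGroup (H.R ⧸ D') := IsPGroup.commGroupOfCardEqPrimeSq hQ
  let φ : H.R →* H.R ⧸ D' := QuotientGroup.mk' D'
  have hcR : c ∈ H.R := H.S_le_R (H.E_le_S H.c_mem_E)
  have hφc : φ ⟨c, hcR⟩ ≠ 1 := fun e => hcD (mem_subgroupOf.1 ((QuotientGroup.eq_one_iff _).1 e))
  obtain ⟨T, hT⟩ := H.exists_sylow
  have hodd : Odd H.R.index := hT ▸ Nat.odd_iff.2 (Nat.two_dvd_ne_zero.1 T.not_dvd_index)
  have hc'R : g * c * g⁻¹ ∈ H.R := H.S_le_R H.c'_mem
  have hφc' : φ ⟨g * c * g⁻¹, hc'R⟩ = φ ⟨c, hcR⟩ := by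
    refine (QuotientGroup.eq.2 (mem_subgroupOf.2 ?_)).symm
    show c⁻¹ * (g * c * g⁻¹) ∈ H.D
    rw [inv_eq_of_mul_eq_one_right H.hcc]
    exact mem_sup_left H.t_spec.1
  set v := MonoidHom.transfer φ with hv
  have hvc : v c = φ ⟨c, hcR⟩ := by
    refine transfer_invol H.R φ H.hcc (P := H.S) (H.R_two.to_le H.S_le_R) (H.E_le_S H.c_mem_E)
      (fun p hp => H.central p hp.1) hodd ?_ ?_
    · rw [← map_mul, ← map_one φ]
      exact congrArg φ (Subtype.ext H.hcc)
    · intro x hx hS
      have hle : cj x⁻¹ H.E ≤ H.R := by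
        rintro _ ⟨e, he, rfl⟩
        show x⁻¹ * e * x⁻¹⁻¹ ∈ H.R
        rw [inv_inv]
        exact hS e (H.E_le_S he)
      have hleS : cj x⁻¹ H.E ≤ H.S := by
        refine H.elementary_le_S hle (by rw [card_cj, H.card_E]) ?_ ?_
        · rintro _ ⟨a, ha, rfl⟩ _ ⟨b, hb, rfl⟩
          rw [← map_mul, ← map_mul, H.E_comm a ha b hb]
        · rintro _ ⟨a, ha, rfl⟩
          rw [← map_mul, H.E_sq a ha, map_one]
      have hcases : cj x⁻¹ H.E = H.E ∨ cj x⁻¹ H.E = cj g H.E := by
        by_cases h : cj x⁻¹ H.E = H.E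
        · exact Or.inl h
        right
        have hc2 : ∀ y : G, ∀ a ∈ cj y H.E, ∀ b ∈ cj y H.E, a * b = b * a := by
          rintro y _ ⟨a, ha, rfl⟩ _ ⟨b, hb, rfl⟩
          rw [← map_mul, ← map_mul, H.E_comm a ha b hb]
        have hs2 : ∀ y : G, ∀ a ∈ cj y H.E, a * a = 1 := by
          rintro y _ ⟨a, ha, rfl⟩
          rw [← map_mul, H.E_sq a ha, map_one]
        exact elementary_unique (m := 2) H.E_le_S H.E'_le_S hleS (inf_le_left.trans H.E_normal) H.E_comm
          (hc2 g) (hc2 _) H.E_sq (hs2 _) (hs2 _)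
          (fun a _ hc' => H.cent_V a fun v hv => hc' v (H.V_le_E hv))
          (by rw [H.card_E]; norm_num) (by rw [card_cj, H.card_E]; norm_num)
          (by rw [card_cj, H.card_E]; norm_num) (by rw [H.hS]; norm_num) H.E'_ne h
      rcases hcases with h | h
      · refine congrArg φ (Subtype.ext ?_)
        show x⁻¹ * c * x = c
        have hA : x⁻¹ ∈ A := H.norm_E ▸ mem_normalizer_of fun y hy => h ▸ cj_mem hy
        rw [H.central x⁻¹ hA, inv_mul_cancel_right]
      · refine (congrArg φ (Subtype.ext ?_)).trans hφc'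
        show x⁻¹ * c * x = g * c * g⁻¹
        have hA : g⁻¹ * x⁻¹ ∈ A := H.norm_E ▸ mem_normalizer_of fun y hy => by
          have : cj (g⁻¹ * x⁻¹) H.E = H.E := by
            rw [← cj_cj, h, cj_cj, inv_mul_cancel]
            exact cj_of_mem_normalizer (Subgroup.one_mem _)
          exact this.le (cj_mem hy)
        have hcomm := H.central _ hA
        calc x⁻¹ * c * x = g * (g⁻¹ * x⁻¹ * c) * (g⁻¹ * x⁻¹)⁻¹ * g⁻¹ := by group
          _ = g * (c * (g⁻¹ * x⁻¹)) * (g⁻¹ * x⁻¹)⁻¹ * g⁻¹ := by rw [hcomm]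
          _ = _ := by group
  refine ⟨v.ker, inferInstance, fun e => ?_, fun hc' => hφc (hvc ▸ MonoidHom.mem_ker.1 hc')⟩
  exact H.prim.insol (Group.isSolvable_of_comm fun a b => (MonoidHom.ker_eq_bot_iff v).1 e (by
    rw [map_mul, map_mul, mul_comm]))

theorem meet_card {N : Subgroup G} [N.Normal] (h : N ≠ ⊥) (hcN : c ∉ N) :
    Nat.card (N ⊓ A : Subgroup G) = 24 ∧ H.D ≤ N ⊓ A := by
  haveI : Fact (Nat.Prime 2) := ⟨Nat.prime_two⟩
  have hV := H.V_le_normal h
  have hV' : cj g V ≤ N := by
    rintro _ ⟨v, hv, rfl⟩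
    exact (inferInstance : N.Normal).conj_mem v (hV hv) g
  have hD : H.D ≤ N ⊓ A := le_inf (sup_le hV hV') (H.D_le_S.trans inf_le_left)
  refine ⟨?_, hD⟩
  have h8 : 8 ∣ Nat.card (N ⊓ A : Subgroup G) := H.card_D.1 ▸ card_dvd_of_le hD
  have hd : Nat.card (N ⊓ A : Subgroup G) ∣ 48 := H.card_A ▸ card_dvd_of_le inf_le_right
  have hne8 : Nat.card (N ⊓ A : Subgroup G) ≠ 8 := fun e => H.D_not_normal
    (by rw [eq_of_le_of_card_ge hD (by rw [e, H.card_D.1])]; exact H.prim.meet_normal)
  have hne16 : Nat.card (N ⊓ A : Subgroup G) ≠ 16 := by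
    intro e
    have hle : N ⊓ A ≤ H.S := le_of_full (i := 4) (k := 4) inf_le_right inf_le_left H.prim.meet_normal
      (by rw [e]; norm_num) (by rw [H.hS]; norm_num) (by rw [H.card_A]; norm_num)
    exact hcN ((eq_of_le_of_card_ge hle (by rw [e, H.hS])).ge (H.E_le_S H.c_mem_E)).1
  have hne48 : Nat.card (N ⊓ A : Subgroup G) ≠ 48 := fun e => hcN
    ((eq_of_le_of_card_ge inf_le_right (H.card_A.trans e.symm).le : N ⊓ A = A).ge H.hc).1
  obtain ⟨k, hk⟩ := h8
  have := Nat.le_of_dvd (by norm_num) hd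
  rw [hk] at hd hne8 hne16 hne48 this ⊢
  have hk6 : k ≤ 6 := by omega
  interval_cases k <;> omega

end Eight

/-- An element of odd order in `A` centralising an involution of the four-group is trivial. -/
theorem odd_cent_trivial {A A₀ V : Subgroup G} {c g : G} (H : Eight A A₀ V c g) (hVA : V ≤ A)
    {v : G} (hv : v ∈ V) (hv1 : v ≠ 1) {o : G} (ho : o ∈ A) (hov : o * v = v * o)
    (hodd : Odd (orderOf o)) : o = 1 := by
  obtain ⟨w, hw, hw1, hwv⟩ := FourGroup.exists_two H.sym.klein (a := v)
  have hcj : o * v * o⁻¹ = v := mul_inv_eq_iff_eq_mul.2 hov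
  have hconj : ∀ a ∈ A, a * v * a⁻¹ = v → a * w * a⁻¹ = w ∨ a * w * a⁻¹ = v * w := by
    intro a ha hav
    have h1 := conj_mem_normalizer (H.V_normal ha) hw
    rw [FourGroup.eq_four H.sym.klein hv hw hv1 hw1 (Ne.symm hwv), FourGroup.mem_four] at h1
    rcases h1 with e | e | e | e
    · exact absurd (conj_eq_one_iff.1 e) hw1
    · exact absurd ((MulAut.conj a).injective (e.trans hav.symm :)) hwv
    · exact Or.inl e
    · exact Or.inr e
  have h2 : o * o * w * (o * o)⁻¹ = w := by
    rcases hconj o ho hcj with e | e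
    · calc _ = o * (o * w * o⁻¹) * o⁻¹ := by group
        _ = w := by rw [e, e]
    · calc _ = o * (o * w * o⁻¹) * o⁻¹ := by group
        _ = o * (v * w) * o⁻¹ := by rw [e]
        _ = (o * v * o⁻¹) * (o * w * o⁻¹) := by group
        _ = w := by rw [hcj, e, ← mul_assoc, FourGroup.mul_self_of_mem H.sym.klein hv, one_mul]
  have hE : o * o ∈ H.E := H.cent_V _ fun y hy => by
    rw [FourGroup.eq_four H.sym.klein hv hw hv1 hw1 (Ne.symm hwv), FourGroup.mem_four] at hy
    have hcv : Commute (o * o) v := Commute.mul_left hov hov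
    have hcw : Commute (o * o) w := mul_inv_eq_iff_eq_mul.1 h2
    rcases hy with e | e | e | e <;> subst e
    exacts [by rw [mul_one, one_mul], hcv.eq, hcw.eq, (hcv.mul_right hcw).eq]
  have h4 : o ^ 4 = 1 := by
    rw [show 4 = 2 * 2 by norm_num, pow_mul, pow_two, pow_two]
    exact H.E_sq _ hE
  have hd : orderOf o ∣ 2 ^ 2 := orderOf_dvd_of_pow_eq_one h4
  exact orderOf_eq_one_iff.1 (Nat.eq_one_of_dvd_coprimes
    (Nat.Coprime.pow_left 2 (Nat.coprime_two_left.2 hodd)) hd dvd_rfl)

theorem case_eight {A A₀ V : Subgroup G} {c g : G} (H : Eight A A₀ V c g) : Listed G := by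
  classical
  haveI : Fact (Nat.Prime 2) := ⟨Nat.prime_two⟩
  have P := H.prim
  obtain ⟨N, hN, hNb, hcN⟩ := H.exists_normal
  haveI := hN
  obtain ⟨h24, hDA⟩ := H.meet_card hNb hcN
  have hidx : N.index = 2 := by
    have h := card_sup_mul (M := N) (B := A) fun a _ => normalizer_eq_top (H := N) ▸ Subgroup.mem_top a
    rw [P.sup_top hNb, card_top, h24, H.card_A, ← N.card_mul_index, mul_assoc] at h
    have := Nat.eq_of_mul_eq_mul_left Nat.card_pos h
    omega
  have hbelow : ∀ K : Subgroup G, K.Normal → K ≠ ⊥ → K ≤ N → K = N := by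
    intro K hK hKb hKN
    haveI := hK
    obtain ⟨hK24, -⟩ := H.meet_card hKb fun h => hcN (hKN h)
    have heq : K ⊓ A = N ⊓ A := eq_of_le_of_card_ge (inf_le_inf_right A hKN) (h24.trans hK24.symm).le
    refine le_antisymm hKN fun n hn => ?_
    obtain ⟨k, hk, a, ha, rfl⟩ := P.exists_mul hKb n
    exact mul_mem hk (heq.ge ⟨by simpa using mul_mem (inv_mem (hKN hk)) hn, ha⟩).1
  have hsol : Group.IsSolvable (N ⊓ A : Subgroup G) := by
    haveI := P.solA
    exact Group.isSolvable_of_isSolvable_injective (f := inclusion inf_le_right) (inclusion_injective _)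
  haveI : IsSimpleGroup N := simple_of_pair P hNb hidx hcN H.hcc H.cent_c hsol hbelow
  have hC : centralizer (N : Set G) = ⊥ := P.centralizer_bot hidx fun M hM hMb => by
    haveI := hM
    intro e
    have hle : V ≤ M ⊓ N := le_inf (H.V_le_normal hMb) (H.V_le_normal hNb)
    rw [e] at hle
    have := H.sym.klein.card_four
    rw [le_bot_iff.1 hle, Subgroup.card_bot] at this
    omega
  have hnsN : ¬ Group.IsSolvable N := P.insol_normal hNb
  have hVN : V ≤ N := H.V_le_normal hNb
  have hVA : V ≤ A := H.sym.VA.trans H.le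
  -- the Sylow subgroup of `N`
  obtain ⟨T, hT⟩ := H.exists_sylow
  obtain ⟨S, hS⟩ := MinNonCA.sylow_inf_normal T N
  have h16 : 16 ∣ Nat.card (S : Subgroup N) := by
    obtain ⟨k, hk⟩ := IsPGroup.iff_card.1 S.isPGroup'
    rw [hk, show 16 = 2 ^ 4 by norm_num]
    refine pow_dvd_pow 2 ?_
    by_contra hcon
    have hSc : Nat.card (S : Subgroup N) = Nat.card ((T : Subgroup G) ⊓ N : Subgroup G) := by
      rw [hS, ← inf_subgroupOf_right, Nat.card_congr (subgroupOfEquivOfLe inf_le_right).toEquiv]
    have hR : Nat.card (T : Subgroup G) = 32 := hT ▸ H.card_R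
    have h := card_sup_mul (M := N) (B := (T : Subgroup G))
      fun a _ => normalizer_eq_top (H := N) ▸ Subgroup.mem_top a
    rw [inf_comm, ← hSc, hk, hR] at h
    have hle : Nat.card (N ⊔ (T : Subgroup G) : Subgroup G) ≤ Nat.card N * 2 :=
      calc Nat.card (N ⊔ (T : Subgroup G) : Subgroup G) ≤ Nat.card G := card_le_card_group _
        _ = Nat.card N * N.index := N.card_mul_index.symm
        _ = Nat.card N * 2 := congrArg (Nat.card N * ·) hidx
    have hk3 : 2 ^ k ≤ 8 := (Nat.pow_le_pow_right two_pos (by omega : k ≤ 3)).trans (by norm_num)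
    have := Nat.mul_le_mul hle hk3
    have : 0 < Nat.card N := Nat.card_pos
    omega
  set Vn : Subgroup N := V.subgroupOf N with hVn
  have hVnK : IsKleinFour Vn := by
    haveI := H.sym.klein
    exact ⟨by rw [Nat.card_congr (subgroupOfEquivOfLe hVN).toEquiv, H.sym.klein.card_four],
      by rw [Monoid.exponent_eq_of_mulEquiv (subgroupOfEquivOfLe hVN)]; exact H.sym.klein.exponent_two⟩
  have hVnS : Vn ≤ (S : Subgroup N) := by
    intro v hv
    rw [hS, mem_subgroupOf, hT]
    exact H.S_le_R (H.E_le_S (H.V_le_E hv))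
  have hCVn : centralizer (Vn : Set N) ≤ Vn := by
    intro y hy
    have hyE : (y : G) ∈ H.E := H.cent_V y fun v hv =>
      (congrArg Subtype.val (mem_centralizer_iff.1 hy ⟨v, hVN hv⟩ (mem_subgroupOf.2 hv))).symm
    rcases H.mem_E.1 hyE with h | h
    · exact h
    · refine absurd ?_ hcN
      have := mul_mem (inv_mem y.2) (hVN h)
      rwa [inv_mul_cancel_left] at this
  set α : MulAut N := MulAut.conjNormal c with hα
  have hfix : ∀ n : N, α n = n ↔ (n : G) ∈ A := fun n => by
    rw [← H.cent_c, mem_cent_singleton, Subtype.ext_iff, hα, MulAut.conjNormal_apply,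
      mul_inv_eq_iff_eq_mul, eq_comm]
  have hα2 : α * α = 1 := by rw [hα, ← map_mul, H.hcc, map_one]
  obtain ⟨t, u, ρ, ht, hu, hρ, hto, huo, htu, hrt, hru⟩ := H.sym.frame
  have hρN : ρ ∈ N := by
    have h2 : ρ * ρ ∈ N := mul_self_mem_of_index_two hidx ρ
    have h3 : Commute (ρ * ρ * ρ) t := by
      have ht1 : t * t = 1 := by rw [← pow_two, ← hto, pow_orderOf_eq_one]
      refine mul_inv_eq_iff_eq_mul.1 ?_
      calc ρ * ρ * ρ * t * (ρ * ρ * ρ)⁻¹ = ρ * (ρ * (ρ * t * ρ⁻¹) * ρ⁻¹) * ρ⁻¹ := by group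
        _ = ρ * (t * u) * ρ⁻¹ := by rw [hrt, hru]
        _ = (ρ * t * ρ⁻¹) * (ρ * u * ρ⁻¹) := by group
        _ = u * (t * u) := by rw [hrt, hru]
        _ = t := by
          rw [← mul_assoc, FourGroup.comm_of_mem H.sym.klein hu ht, mul_assoc,
            FourGroup.mul_self_of_mem H.sym.klein hu, mul_one]
    have h3u : Commute (ρ * ρ * ρ) u := by
      refine mul_inv_eq_iff_eq_mul.1 ?_
      calc ρ * ρ * ρ * u * (ρ * ρ * ρ)⁻¹ = ρ * (ρ * ρ * ρ * t * (ρ * ρ * ρ)⁻¹) * ρ⁻¹ := by
            rw [← hrt]; group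
        _ = u := by rw [h3.eq, mul_inv_cancel_right, hrt]
    have h3V : ρ * ρ * ρ ∈ V := H.sym.cent _ (mul_mem (mul_mem hρ hρ) hρ) fun v hv => by
      have ht1 : t ≠ 1 := fun e => by rw [e, orderOf_one] at hto; omega
      have hu1 : u ≠ 1 := fun e => by rw [e, orderOf_one] at huo; omega
      rw [FourGroup.eq_four H.sym.klein ht hu ht1 hu1 htu, FourGroup.mem_four] at hv
      rcases hv with e | e | e | e <;> subst e
      exacts [by rw [mul_one, one_mul], h3.eq, h3u.eq, (h3.mul_right h3u).eq]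
    have := mul_mem (inv_mem h2) (hVN h3V)
    rwa [inv_mul_cancel_left] at this
  have ht1 : t ≠ 1 := fun e => by rw [e, orderOf_one] at hto; omega
  have hu1 : u ≠ 1 := fun e => by rw [e, orderOf_one] at huo; omega
  have hV4 := FourGroup.eq_four H.sym.klein ht hu ht1 hu1 htu
  rcases two_group_types_of_klein S.isPGroup' hVnK hVnS hCVn with hd | hq
  · -- linear groups
    exfalso
    have hN16 : 16 ∣ Nat.card N := h16.trans (Subgroup.card_subgroup_dvd_card _)
    obtain ⟨F, _, _, hodd, h3, ⟨e⟩⟩ := linear_of_target (target_of_dihedral S hd) fun h => by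
      rw [h] at hN16
      norm_num at hN16
    set β : MulAut (Matrix.ProjectiveSpecialLinearGroup (Fin 2) F) := GW.autCongr e α with hβ
    have hβ2 : β * β = 1 := by rw [hβ, ← map_mul, hα2, map_one]
    have hβ1 : β ≠ 1 := by
      rw [hβ, Ne, MulEquiv.map_eq_one_iff]
      exact fun h => H.toSym8.c_ne (GW.conjNormal_injective hC (h.trans (map_one _).symm))
    have hβe : ∀ n : N, β (e n) = e (α n) := fun n => by
      simp [hβ, GW.autCongr, MulAut.congr]
    have hcard : Nat.card (GW.fixedGroup β) = 24 := by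
      rw [← h24]
      let eqv : (N ⊓ A : Subgroup G) ≃ (GW.fixedGroup β : Subgroup _) :=
        { toFun := fun n : (N ⊓ A : Subgroup G) => ⟨e ⟨(n : G), n.2.1⟩, GW.mem_fixedGroup.2 (by
            rw [hβe, (hfix _).2 n.2.2])⟩
          invFun := fun q => ⟨(e.symm q : N), (e.symm q).2, (hfix _).1 (e.injective (by
            rw [← hβe, e.apply_symm_apply]; exact GW.mem_fixedGroup.1 q.2))⟩
          left_inv := fun n => Subtype.ext (by simp)
          right_inv := fun q => Subtype.ext (by simp) }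
      exact (Nat.card_congr eqv).symm
    have hnc : ∃ a ∈ GW.fixedGroup β, ∃ b ∈ GW.fixedGroup β, a * b ≠ b * a := by
      refine ⟨e ⟨t, hVN ht⟩, GW.mem_fixedGroup.2 (by rw [hβe, (hfix _).2 (hVA ht)]),
        e ⟨ρ, hρN⟩, GW.mem_fixedGroup.2 (by rw [hβe, (hfix _).2 (H.le hρ)]), fun h => htu ?_⟩
      rw [← map_mul, ← map_mul, e.apply_eq_iff_eq] at h
      have h' : t * ρ = ρ * t := congrArg Subtype.val h
      rw [← hrt, ← h', mul_inv_cancel_right]
    have hcardN := card_linear hodd e
    rcases fixed_cases hodd h3 hβ2 hβ1 hnc with ⟨-, hq⟩ | ⟨-, hf⟩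
    · rw [hcard] at hq
      rcases hq with hq | hq
      · rw [← hq] at hcardN
        omega
      · rw [show Fintype.card F = 23 by omega] at hcardN
        omega
    · obtain ⟨k, σ, hk⟩ := GW.exists_semi β
      have hσ : GW.fldHom β = σ := by rw [hk, GW.fldHom_semi]
      have hσo : orderOf σ = 2 := orderOf_eq_prime
        (by rw [← hσ, pow_two, ← map_mul, hβ2, map_one]) (hσ ▸ hf)
      have hbig := fixed_big hodd (g := k) (σ := σ) (by rw [← hk, hσo, pow_two, hβ2]) ?_
      · rw [← hk, hcard] at hbig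
        omega
      · intro K hK
        obtain ⟨K', hK', hFK⟩ := AutPSL.exists_fixed_field σ
        have hKK : K = K' := SetLike.ext fun a => (hK a).trans (hK' a).symm
        by_contra hlt
        rw [hσo, ← hKK] at hFK
        have h1 : 1 < Nat.card K := by
          rw [Finite.one_lt_card_iff_nontrivial]; infer_instance
        obtain ⟨j, hj⟩ := hodd
        have hK3 : Nat.card K ≤ 4 := by omega
        interval_cases (Nat.card K) <;> rw [hFK] at hcardN <;> norm_num at hcardN hFK <;> omega
  · -- quasi-dihedral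
    set tN : N := ⟨t, hVN ht⟩
    set uN : N := ⟨u, hVN hu⟩
    set ρN : N := ⟨ρ, hρN⟩
    have hmemV : ∀ v : N, v ∈ Vn ↔ v = 1 ∨ v = tN ∨ v = uN ∨ v = tN * uN := by
      intro v
      rw [hVn, mem_subgroupOf, hV4, FourGroup.mem_four]
      simp only [Subtype.ext_iff, OneMemClass.coe_one, Subgroup.coe_mul, tN, uN]
    have Fr : Frame tN uN ρN :=
      { ht := by rw [← Subgroup.orderOf_coe]; exact hto
        hu := by rw [← Subgroup.orderOf_coe]; exact huo
        ne := fun e => htu (congrArg Subtype.val e)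
        comm := Subtype.ext (FourGroup.comm_of_mem H.sym.klein ht hu)
        rot_t := Subtype.ext hrt
        rot_u := Subtype.ext hru
        selfCent := fun y h1 h2 => (hmemV y).1 (hCVn (mem_centralizer_iff.2 fun v hv => by
          rcases (hmemV v).1 hv with rfl | rfl | rfl | rfl
          · rw [one_mul, mul_one]
          · exact h1.symm
          · exact h2.symm
          · exact (Commute.mul_right (a := y) h1 h2).symm.eq)) }
    have hInV : ∀ v, InV tN uN v → v ∈ Vn := fun v hv => (hmemV v).2 (Or.inr hv)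
    have hFull : Full tN uN ρN (A.subgroupOf N) α :=
      { toSetup := setup_of_simple S hq Fr
        simple := inferInstance
        noncomm := fun hall => hnsN (Group.isSolvable_of_comm hall)
        permA := fun a ha v hv => by
          have hv' := hInV v hv
          have h1 : a * v * a⁻¹ ∈ Vn := mem_subgroupOf.2 (by
            show (a : G) * v * (a : G)⁻¹ ∈ V
            exact conj_mem_normalizer (H.V_normal (mem_subgroupOf.1 ha)) (mem_subgroupOf.1 hv'))
          refine ((hmemV _).1 h1).resolve_left fun e => ?_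
          rw [conj_eq_one_iff] at e
          subst e
          rcases hv with h | h | h
          · exact ht1 (congrArg Subtype.val h.symm)
          · exact hu1 (congrArg Subtype.val h.symm)
          · refine htu (mul_left_cancel (a := t) ?_)
            rw [FourGroup.mul_self_of_mem H.sym.klein ht]
            exact congrArg Subtype.val h
        phi_t := (hfix _).2 (hVA ht)
        phi_u := (hfix _).2 (hVA hu)
        phi_core := fun v hv y hy => by
          have hvA : (v : G) ∈ A := hVA (mem_subgroupOf.1 (hInV v hv))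
          have hcv : c * (v : G) = v * c := (H.central _ hvA).symm
          -- `c` normalises the core
          have hαv : α v = v := (hfix v).2 hvA
          have hmap : (Ov v).map α.toMonoidHom = Ov v := by
            have hcard : Nat.card ((Ov v).map α.toMonoidHom) = Nat.card (Ov v) :=
              card_map_of_injective (K := Ov v) (f := α.toMonoidHom) α.injective
            refine eq_of_le_of_card_ge (le_Ov ?_ ?_ ?_) hcard.ge
            · exact hcard.symm ▸ Ov_odd v
            · rintro _ ⟨o, ho, rfl⟩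
              have := Ov_le v ho
              rw [mem_centralizer_singleton_iff] at this ⊢
              show α o * v = v * α o
              conv_lhs => rw [← hαv, ← map_mul, this, map_mul, hαv]
            · intro a ha
              refine mem_normalizer_of fun b hb => ?_
              obtain ⟨o, ho, rfl⟩ := hb
              refine ⟨α.symm a * o * (α.symm a)⁻¹, Ov_conj ?_ ho, ?_⟩
              · rw [mem_centralizer_singleton_iff] at ha ⊢
                apply α.injective
                rw [map_mul, map_mul, α.apply_symm_apply, hαv, ha]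
              · show α (α.symm a * o * (α.symm a)⁻¹) = a * α o * a⁻¹
                rw [map_mul, map_mul, map_inv, α.apply_symm_apply]
          have hfixed : ∀ o ∈ (Ov v).map N.subtype, c * o = o * c → o = 1 := by
            rintro _ ⟨o, ho, rfl⟩ hco
            have hoA : (o : G) ∈ A := H.cent_c ▸ mem_cent_singleton.2 hco.symm
            have hov : (o : G) * v = v * o := congrArg Subtype.val (Ov_comm ho).eq
            have hoo : Odd (orderOf (o : G)) := by
              rw [Subgroup.orderOf_coe]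
              exact (Ov_odd v).of_dvd_nat (Subgroup.orderOf_dvd_natCard _ ho)
            exact odd_cent_trivial H hVA (mem_subgroupOf.1 (hInV v hv)) (fun e => by
              rcases hv with h | h | h <;> subst h
              · exact ht1 e
              · exact hu1 e
              · exact htu (mul_left_cancel (a := t)
                  ((FourGroup.mul_self_of_mem H.sym.klein ht).trans e.symm))) hoA hov hoo
          have hinv := BSW.inverts_of_fpf ((Ov v).map N.subtype) H.hcc (by
              rintro _ ⟨o, ho, rfl⟩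
              exact ⟨α o, hmap.le ⟨o, ho, rfl⟩, rfl⟩) hfixed (y : G) ⟨y, hy, rfl⟩
          have : α y = y⁻¹ := Subtype.ext hinv
          rw [this]
          exact inv_mem (mem_zpowers y)
        maxA := fun W hW hWφ => by
          set W' := W.map N.subtype with hW'
          have hA0 : ∀ a ∈ N ⊓ A, a ∈ normalizer (W' : Set G) := fun a ha =>
            mem_normalizer_of fun y hy => by
              obtain ⟨w, hw, rfl⟩ := hy
              exact ⟨⟨a, ha.1⟩ * w * ⟨a, ha.1⟩⁻¹,
                conj_mem_normalizer (hW (mem_subgroupOf.2 ha.2 : (⟨a, ha.1⟩ : N) ∈ A.subgroupOf N)) hw, rfl⟩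
          have hcW : c ∈ normalizer (W' : Set G) := mem_normalizer_of fun y hy => by
            obtain ⟨w, hw, rfl⟩ := hy
            exact ⟨α w, hWφ w hw, rfl⟩
          have hAW : A ≤ normalizer (W' : Set G) := by
            intro a ha
            by_cases haN : a ∈ N
            · exact hA0 a ⟨haN, ha⟩
            · have hacN : a * c ∈ N := (mul_mem_iff_of_index_two hidx).2 (iff_of_false haN hcN)
              rw [show a = a * c * c by rw [mul_assoc, H.hcc, mul_one]]
              exact mul_mem (hA0 _ ⟨hacN, mul_mem ha H.hc⟩) hcW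
          rcases P.max.le_iff.1 hAW with h | h
          · haveI : W'.Normal := normalizer_eq_top_iff.1 h
            by_cases hWb : W' = ⊥
            · exact Or.inl (by
                rw [(map_eq_bot_iff_of_injective _ N.subtype_injective).1 hWb]
                exact bot_le)
            · refine Or.inr (eq_top_iff.2 fun n _ => (mem_map_iff_mem N.subtype_injective).1 ?_)
              exact (hbelow W' inferInstance hWb (map_subtype_le W)).ge n.2
          · exact Or.inl fun w hw => mem_subgroupOf.2 (h ▸ le_normalizer ⟨w, hw, rfl⟩) }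
    obtain ⟨-, ⟨h, -⟩ | ⟨h11, -⟩⟩ := psl_or_M11 S hq hFull
    · exact Or.inr (Or.inr (Or.inr (Or.inr (Or.inr (Or.inr (Or.inr ⟨N, hN, hidx, hC, h⟩))))))
    · exfalso
      obtain ⟨e⟩ := h11
      haveI : Subsingleton (Cfsg.Out ↥Cfsg.Spor.M11) := (Nat.card_eq_one_iff_unique.1 S2060.result).1
      obtain ⟨m, hm⟩ : GW.autCongr e α ∈ Cfsg.Inn ↥Cfsg.Spor.M11 :=
        (QuotientGroup.eq_one_iff _).1 (Subsingleton.elim _ _)
      have hα' : α = MulAut.conj (e.symm m) := (GW.autCongr e).injective (by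
        rw [GW.autCongr_conj, e.apply_symm_apply, hm])
      have : c = ((e.symm m : N) : G) := by
        refine GW.conjNormal_injective hC (?_ : α = _)
        rw [hα']
        ext x
        simp [MulAut.conjNormal_apply]
      exact hcN (this ▸ (e.symm m).2)

end Cfsg.Agent.SubThree
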