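import Cfsg.Agent.Lib.M11Uniq.Embed
import Mathlib.GroupTheory.Perm.Cycle.Type

/-!
A simple group of order 7920 has no maximal subgroup of order 24.
-/

set_option autoImplicit false
set_option linter.style.haveILetI false
set_option linter.unusedSectionVars false

namespace Cfsg.Agent.SubThree

open scoped Pointwise
open MulAction

universe u

theorem no_maximal_24 {G : Type u} [Group G] [Finite G] [IsSimpleGroup G]
    (hG : Nat.card G = 7920) {A : Subgroup G} (hmax : IsCoatom A) (hA : Nat.card A = 24) :
    False := by
  classical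
  haveI : Fintype G := Fintype.ofFinite G
  obtain ⟨φ, hφ⟩ := M11Uniq.exists_embedding hG
  letI act : MulAction G (Fin 11) := MulAction.compHom (Fin 11) φ
  haveI : Fact (Nat.Prime 11) := ⟨by norm_num⟩
  -- no small invariant set
  have hinv : ∀ O : Finset (Fin 11), O.Nonempty → (∀ g : G, g • O = O) → O = Finset.univ := by
    intro O hO hfix
    obtain ⟨σ, hσ⟩ := exists_prime_orderOf_dvd_card' (G := G) 11 (by rw [hG]; norm_num)
    have hσφ : orderOf (φ σ) = 11 := by rw [orderOf_injective φ hφ]; exact hσ
    have hne : φ σ ≠ 1 := fun e => by rw [e, orderOf_one] at hσφ; omega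
    have hcyc : (φ σ).IsCycle := Equiv.Perm.isCycle_of_prime_order'' (by norm_num)
      (hσφ.trans (Fintype.card_fin 11).symm)
    have hsupp : (φ σ).support = Finset.univ := Finset.eq_univ_of_card _ (by
      rw [← hcyc.orderOf, hσφ, Fintype.card_fin])
    obtain ⟨y, hy⟩ := hO
    refine Finset.eq_univ_iff_forall.2 fun x => ?_
    obtain ⟨i, rfl⟩ := hcyc.exists_zpow_eq (Equiv.Perm.mem_support.1 (hsupp ▸ Finset.mem_univ y))
      (Equiv.Perm.mem_support.1 (hsupp ▸ Finset.mem_univ x))
    rw [← map_zpow]
    have := Finset.smul_mem_smul_finset (a := σ ^ i) hy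
    rwa [hfix] at this
  -- an orbit of odd length
  have key : ∀ O : Finset (Fin 11), O.Nonempty → O.card ≤ 3 → (∀ a ∈ A, a • O = O) → False := by
    intro O hO hcard hAfix
    rcases hmax.le_iff.1 (show A ≤ stabilizer G O from fun a ha => mem_stabilizer_iff.2 (hAfix a ha)) with
      h | h
    · have := hinv O hO fun g => mem_stabilizer_iff.1 (h ▸ Subgroup.mem_top g)
      rw [this, Finset.card_univ, Fintype.card_fin] at hcard
      omega
    · have hidx : A.index = 330 := by
        have := A.card_mul_index
        rw [hA, hG] at this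
        omega
      have horb : Nat.card (orbit G O) ≤ Nat.card (Finset.powersetCard O.card
          (Finset.univ : Finset (Fin 11))) := by
        refine Nat.card_le_card_of_injective (fun P => ⟨P.1, ?_⟩) fun P Q e =>
          Subtype.ext (congrArg Subtype.val e :)
        obtain ⟨g, hg⟩ := P.2
        rw [Finset.mem_powersetCard]
        refine ⟨Finset.subset_univ _, ?_⟩
        rw [← hg]
        exact Finset.card_smul_finset g O
      rw [Nat.card_coe_set_eq, ← MulAction.index_stabilizer, h] at horb
      rw [hidx, Nat.card_eq_fintype_card, Fintype.card_coe, Finset.card_powersetCard,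
        Finset.card_univ, Fintype.card_fin] at horb
      interval_cases O.card <;> norm_num [Nat.choose] at horb
  by_cases hex : ∃ x : Fin 11, (orbit A x).toFinset.card ≤ 3
  · obtain ⟨x, hx⟩ := hex
    refine key _ ⟨x, Set.mem_toFinset.2 (mem_orbit_self x)⟩ hx fun a ha => ?_
    rw [← Finset.coe_inj, Finset.coe_smul_finset, Set.coe_toFinset]
    exact smul_orbit (⟨a, ha⟩ : A) x
  · push Not at hex
    have heven : ∀ x : Fin 11, 2 ∣ Nat.card (orbit A x) := by
      intro x
      have hd : Nat.card (orbit A x) ∣ 24 := by
        rw [← hA, ← Subgroup.index_mul_card (stabilizer A x), index_stabilizer]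
        exact Dvd.intro _ (by rw [Nat.card_coe_set_eq])
      have h4 : 4 ≤ Nat.card (orbit A x) := by
        rw [Nat.card_eq_fintype_card, ← Set.toFinset_card]
        exact hex x
      have h24 := Nat.le_of_dvd (by norm_num) hd
      by_contra hodd
      obtain ⟨k, hk⟩ : Odd (Nat.card (orbit A x)) := Nat.odd_iff.2 (Nat.two_dvd_ne_zero.1 hodd)
      have h3 : Nat.card (orbit A x) ∣ 3 := by
        refine (Nat.Coprime.dvd_of_dvd_mul_left ?_ (show Nat.card (orbit A x) ∣ 8 * 3 from hd))
        exact Nat.Coprime.pow_right 3 (Nat.coprime_two_right.2 ⟨k, hk⟩)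
      have := Nat.le_of_dvd (by norm_num) h3
      omega
    have hsum : Nat.card (Fin 11) = ∑ᶠ ω : orbitRel.Quotient A (Fin 11), Nat.card ω.orbit := by
      rw [finsum_eq_sum_of_fintype, ← Nat.card_sigma]
      exact Nat.card_congr (selfEquivSigmaOrbits' A (Fin 11))
    rw [Nat.card_fin, finsum_eq_sum_of_fintype] at hsum
    have : 2 ∣ 11 := by
      rw [hsum]
      refine Finset.dvd_sum fun ω _ => ?_
      induction ω using Quotient.inductionOn' with | _ x => ?_
      rw [orbitRel.Quotient.orbit_mk]
      exact heven x
    norm_num at this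

end Cfsg.Agent.SubThree
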