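import Cfsg.Agent.Lib.SubThree.FourTools
import Cfsg.Agent.Lib.SubThree.SylowTools
import Cfsg.Agent.Lib.SubThree.Goal
import Cfsg.Agent.Lib.SubThree.SDFinal
import Cfsg.Agent.Lib.SubThree.PSLFacts
import Cfsg.Agent.Lib.SubThree.AutSmall
import Cfsg.Agent.Lib.SubThree.NoM11

/-!
The symmetric stabiliser of degree four.
-/

set_option autoImplicit false
set_option linter.style.haveILetI false
set_option linter.unusedSectionVars false

namespace Cfsg.Agent.SubThree

open Subgroup

universe u

variable {G : Type u} [Group G] [Finite G] {A V : Subgroup G}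

theorem Sym4.cent_le (H : Sym4 A V) (P : Prim A) : centralizer (V : Set G) ≤ V := by
  have hVb : V ≠ ⊥ := fun e => by
    have := H.klein.card_four
    rw [e, Subgroup.card_bot] at this
    omega
  have hN := P.norm_eq H.VA hVb H.norm
  intro a ha
  have hc : ∀ v ∈ V, a * v = v * a := fun v hv => (mem_centralizer_iff.1 ha v hv).symm
  exact H.cent a (hN ▸ mem_normalizer_of fun v hv => by rwa [hc v hv, mul_inv_cancel_right]) hc

theorem klein_comm_mem (hV : IsKleinFour V) : ∀ a ∈ V, ∀ b ∈ V, a * b = b * a :=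
  fun _ ha _ hb => FourGroup.comm_of_mem hV ha hb

theorem case_four (P : Prim A) (H : Sym4 A V) (g : G)
    (hS : Nat.card (A ⊓ cj g A : Subgroup G) = 8) : Listed G := by
  classical
  haveI : Fact (Nat.Prime 2) := ⟨Nat.prime_two⟩
  set B := cj g A with hB
  set S := A ⊓ B with hSdef
  have hV4 : Nat.card V = 2 ^ 2 := H.klein.card_four.trans (by norm_num)
  have hVb : V ≠ ⊥ := fun e => by
    rw [e, Subgroup.card_bot] at hV4
    norm_num at hV4
  have hNV := P.norm_eq H.VA hVb H.norm
  have hCV := H.cent_le P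
  have h24 : ¬ 2 ^ (3 + 1) ∣ Nat.card A := by rw [H.card]; norm_num
  have hBc : ¬ 2 ^ (3 + 1) ∣ Nat.card B := by rw [hB, card_cj]; exact h24
  set V' := cj g V with hV'
  have hS8 : Nat.card S = 2 ^ 3 := hS.trans (by norm_num)
  have hVS : V ≤ S := le_of_full H.VA inf_le_left H.norm hV4 hS8 h24
  have hV'n : B ≤ normalizer (V' : Set G) := (cj_mono H.norm).trans (le_normalizer_map _)
  have hV'4 : Nat.card V' = 2 ^ 2 := by rw [hV', card_cj, hV4]
  have hV'S : V' ≤ S := le_of_full (cj_mono H.VA) inf_le_right hV'n hV'4 hS8 hBc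
  have hgA : g ∉ A := by
    intro hg
    have hBA : B = A := cj_of_mem_normalizer (le_normalizer hg)
    rw [hSdef, hBA, inf_idem, H.card] at hS
    omega
  have hne : V' ≠ V := fun e => hgA (hNV ▸ mem_normalizer_of fun v hv => e ▸ cj_mem hv)
  have hV'K : IsKleinFour V' := FourGroup.isKleinFour_map (MulAut.conj g) H.klein
  have hSn : S ≤ normalizer (V : Set G) := inf_le_left.trans H.norm
  have huniq : ∀ W : Subgroup G, IsKleinFour W → W ≤ S → W = V ∨ W = V' := by
    intro W hW hWS
    by_cases hWV : W = V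
    · exact Or.inl hWV
    · exact Or.inr (elementary_unique (m := 1) hVS hV'S hWS hSn (klein_comm_mem H.klein)
        (klein_comm_mem hV'K) (klein_comm_mem hW) (fun a ha => FourGroup.mul_self_of_mem H.klein ha)
        (fun a ha => FourGroup.mul_self_of_mem hW ha) (fun a ha => FourGroup.mul_self_of_mem hV'K ha)
        (fun a ha hc => H.cent a ha.1 hc) hV4 hV'4 (hW.card_four.trans (by norm_num)) hS8 hne hWV)
  -- the normaliser of `S`
  set R := normalizer (S : Set G) with hR
  have hRA : R ⊓ A = S := by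
    refine (eq_of_le_of_card_ge (le_inf le_normalizer inf_le_left) ?_).symm
    have h8 : 8 ∣ Nat.card (R ⊓ A : Subgroup G) := hS ▸ card_dvd_of_le (le_inf le_normalizer inf_le_left)
    have hd : Nat.card (R ⊓ A : Subgroup G) ∣ 24 := H.card ▸ card_dvd_of_le inf_le_right
    have hne24 : Nat.card (R ⊓ A : Subgroup G) ≠ 24 := fun h => H.not8 S inf_le_left hS
      ((eq_of_le_of_card_ge inf_le_right (H.card.trans h.symm).le : R ⊓ A = A).ge.trans inf_le_left)
    obtain ⟨k, hk⟩ := h8
    have := Nat.le_of_dvd (by norm_num) hd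
    rw [hS]
    rw [hk] at hd hne24 this ⊢
    have hk3 : k ≤ 3 := by omega
    interval_cases k <;> omega
  have hperm : ∀ y ∈ R, cj y V = V ∨ cj y V = V' := fun y hy =>
    huniq _ (FourGroup.isKleinFour_map (MulAut.conj y) H.klein)
      ((cj_mono hVS).trans (cj_of_mem_normalizer hy).le)
  have hfixA : ∀ y ∈ R, cj y V = V → y ∈ S := fun y hy h =>
    hRA ▸ ⟨hy, hNV ▸ mem_normalizer_of fun v hv => h ▸ cj_mem hv⟩
  have hsqS : ∀ y ∈ R, y * y ∈ S := by
    intro y hy
    by_cases h : y ∈ S
    · exact mul_mem h h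
    have hy1 : cj y V = V' := (hperm y hy).resolve_left fun e => h (hfixA y hy e)
    refine hfixA _ (mul_mem hy hy) ((hperm _ (mul_mem hy hy)).resolve_right fun e => h ?_)
    refine hfixA y hy ?_
    apply Subgroup.map_injective (f := (MulAut.conj y).toMonoidHom) (MulAut.conj y).injective
    show cj y (cj y V) = cj y V
    rw [cj_cj, e, hy1]
  have hR2 : IsPGroup 2 R := fun y => ⟨4, Subtype.ext (by
    show ((y : G)) ^ 2 ^ 4 = 1
    have h1 := hsqS y y.2
    have h8 : ((y : G) * y) ^ 8 = 1 :=
      orderOf_dvd_iff_pow_eq_one.1 (hS ▸ Subgroup.orderOf_dvd_natCard S h1)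
    rw [show (2 : ℕ) ^ 4 = 2 * 8 by norm_num, pow_mul, pow_two]
    exact h8)⟩
  obtain ⟨b, hbB, hb⟩ := conj_in (P := cj g S) (Q := S) (cj_mono inf_le_left) inf_le_right
    (by rw [card_cj, hS8]) hS8 hBc
  have hh : b * g ∈ R := mem_normalizer_of fun y hy => by
    rw [← hb, show b * g * y * (b * g)⁻¹ = b * (g * y * g⁻¹) * b⁻¹ by group]
    exact cj_mem (cj_mem hy)
  have hhS : b * g ∉ S := by
    intro h
    have h1 : cj (b * g) V = V := cj_of_mem_normalizer (hSn h)
    refine hne ?_
    calc V' = cj b V' := (cj_of_mem_normalizer (hV'n hbB)).symm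
      _ = cj (b * g) V := cj_cj b g V
      _ = V := h1
  have h16R : 16 ∣ Nat.card R := by
    obtain ⟨k, hk⟩ := IsPGroup.iff_card.1 hR2
    have hlt : 8 < Nat.card R := by
      rw [← hS]
      by_contra hcon
      exact hhS ((eq_of_le_of_card_ge le_normalizer (not_lt.1 hcon)).ge hh)
    rw [hk] at hlt ⊢
    rw [show 16 = 2 ^ 4 by norm_num]
    refine pow_dvd_pow 2 ?_
    by_contra hcon
    have : 2 ^ k ≤ 2 ^ 3 := Nat.pow_le_pow_right two_pos (by omega)
    omega
  obtain ⟨T, hT⟩ := hR2.exists_le_sylow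
  have hST : S ≤ (T : Subgroup G) := le_normalizer.trans hT
  have hVT : V ≤ (T : Subgroup G) := hVS.trans hST
  have h16T : 16 ∣ Nat.card (T : Subgroup G) := h16R.trans (card_dvd_of_le hT)
  -- the centre of the Sylow subgroup
  haveI : Nontrivial (T : Subgroup G) := by
    rw [← Finite.one_lt_card_iff_nontrivial]
    exact lt_of_lt_of_le (by norm_num) (Nat.le_of_dvd Nat.card_pos h16T)
  haveI := IsPGroup.center_nontrivial T.isPGroup'
  obtain ⟨⟨⟨z, hzT⟩, hzc⟩, hz1'⟩ := exists_ne (1 : center (T : Subgroup G))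
  have hz1 : z ≠ 1 := fun e => hz1' (Subtype.ext (Subtype.ext e))
  have hzcomm : ∀ q ∈ (T : Subgroup G), q * z = z * q := fun q hq =>
    congrArg Subtype.val (mem_center_iff.1 hzc ⟨q, hq⟩)
  have hzV : z ∈ V := hCV (mem_centralizer_iff.2 fun v hv => hzcomm v (hVT hv))
  obtain ⟨x, hxV, hx1, hxz⟩ : ∃ x ∈ V, x ≠ 1 ∧ x ≠ z := by
    obtain ⟨y, hy, hy1, hyz⟩ := FourGroup.exists_two H.klein (a := z)
    exact ⟨y, hy, hy1, hyz⟩
  have hTC : (T : Subgroup G) ⊓ centralizer ({x} : Set G) = V := by
    refine le_antisymm (fun q hq => hCV (mem_centralizer_iff.2 fun v hv => ?_)) (le_inf hVT fun v hv =>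
      mem_cent_singleton.2 (klein_comm_mem H.klein v hv x hxV))
    rw [FourGroup.eq_four H.klein hzV hxV hz1 hx1 (Ne.symm hxz)] at hv
    have hqz := hzcomm q hq.1
    have hqx := mem_cent_singleton.1 hq.2
    rcases FourGroup.mem_four.1 hv with rfl | rfl | rfl | rfl
    · rw [one_mul, mul_one]
    · exact hqz.symm
    · exact hqx.symm
    · exact (Commute.mul_right (a := q) hqz hqx).symm.eq
  have htypes := two_group_types T.isPGroup' (hVT hxV)
    (orderOf_eq_prime (by rw [pow_two]; exact FourGroup.mul_self_of_mem H.klein hxV) hx1)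
    (by rw [hTC, H.klein.card_four])
    (fun q hq => FourGroup.mul_self_of_mem H.klein (hTC ▸ hq))
  -- simplicity
  haveI : IsSimpleGroup G := by
    haveI : Nontrivial G := ⟨⟨z, 1, hz1⟩⟩
    refine ⟨fun N hN => or_iff_not_imp_left.2 fun h => ?_⟩
    haveI := hN
    obtain ⟨y, hy, hy1, hc⟩ := exists_fix (P := V) (N := N) (IsPGroup.of_card (n := 2) hV4)
      (fun v _ => normalizer_eq_top (H := N) ▸ Subgroup.mem_top v) (P.two_dvd h)
    have hyV : y ∈ V := hCV (mem_centralizer_iff.2 fun v hv => hc v hv)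
    have hVN : V ≤ N := (H.uniq (N ⊓ A) inf_le_right
      (fun e => hy1 (mem_bot.1 (e ▸ Subgroup.mem_inf.2 ⟨hy, H.VA hyV⟩))) P.meet_normal).trans inf_le_left
    have hV'N : V' ≤ N := by
      rintro _ ⟨v, hv, rfl⟩
      exact hN.conj_mem v (hVN hv) g
    have hVV' : V ⊔ V' = S := by
      refine eq_of_le_of_card_ge (sup_le hVS hV'S) ?_
      have h := card_sup_mul (M := V) (B := V') (hV'S.trans hSn)
      rw [hV4, hV'4] at h
      have h2 : Nat.card (V ⊓ V' : Subgroup G) ≤ 2 := by
        obtain ⟨j, hj, hjc⟩ := (Nat.dvd_prime_pow Nat.prime_two).1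
          (hV4 ▸ card_dvd_of_le (inf_le_left : V ⊓ V' ≤ V))
        rw [hjc]
        refine (Nat.pow_le_pow_right two_pos (?_ : j ≤ 1)).trans (by norm_num)
        by_contra hcon
        refine hne (eq_of_le_of_card_ge ?_ (by rw [hV4, hV'4]))
        rw [← eq_of_le_of_card_ge (inf_le_right : V ⊓ V' ≤ V') (by
          rw [hV'4, hjc]; exact Nat.pow_le_pow_right two_pos (by omega))]
        exact inf_le_left
      rw [hS]
      by_contra hcon
      have := Nat.mul_le_mul (not_le.1 hcon).le h2
      have hlt : Nat.card (V ⊔ V' : Subgroup G) * Nat.card (V ⊓ V' : Subgroup G) ≤ 7 * 2 :=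
        Nat.mul_le_mul (by omega) h2
      rw [h] at hlt
      norm_num at hlt
    have hSN : S ≤ N := hVV' ▸ sup_le hVN hV'N
    refine P.top_of_le h ?_
    have h8 : 8 ∣ Nat.card (N ⊓ A : Subgroup G) := hS ▸ card_dvd_of_le (le_inf hSN inf_le_left)
    have hd : Nat.card (N ⊓ A : Subgroup G) ∣ 24 := H.card ▸ card_dvd_of_le inf_le_right
    have hne8 := fun h => H.not8 (N ⊓ A) inf_le_right h P.meet_normal
    obtain ⟨k, hk⟩ := h8
    have := Nat.le_of_dvd (by norm_num) hd
    rw [hk] at hd hne8 this
    have hk3 : k = 3 := by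
      have : k ≤ 3 := by omega
      interval_cases k <;> simp_all
    exact (eq_of_le_of_card_ge inf_le_right (by rw [H.card, hk, hk3]) : N ⊓ A = A).ge.trans inf_le_left
  rcases htypes with hd | hq
  · -- linear groups
    obtain ⟨F, _, _, hodd, h3, ⟨e⟩⟩ := linear_of_target (target_of_dihedral T hd) fun h => by
      have := h16T.trans (Subgroup.card_subgroup_dvd_card _)
      rw [h] at this
      norm_num at this
    have hze : e z * e z = 1 := by rw [← map_mul, FourGroup.mul_self_of_mem H.klein hzV, map_one]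
    obtain ⟨-, hq⟩ := card_cent_invol hodd hze (fun h => hz1 (e.map_eq_one_iff.1 h))
    have h16C : 16 ∣ Nat.card (centralizer ({e z} : Set (Matrix.ProjectiveSpecialLinearGroup (Fin 2) F))) := by
      refine h16T.trans ?_
      rw [← card_map_of_injective (K := (T : Subgroup G)) (f := e.toMonoidHom) e.injective]
      refine card_dvd_of_le ?_
      rintro _ ⟨q, hq, rfl⟩
      exact mem_cent_singleton.2 (by
        show e q * e z = e z * e q
        rw [← map_mul, ← map_mul, hzcomm q hq])
    have hmod : Fintype.card F % 16 = 1 ∨ Fintype.card F % 16 = 15 := by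
      obtain ⟨k, hk⟩ := h16C
      rw [hk] at hq
      omega
    obtain ⟨r, hr, s, hs, hr3, hsr⟩ := H.inverter
    set f := e.toMonoidHom with hf
    have hfm : ∀ {K : Subgroup G} {y : G}, y ∈ K → f y ∈ K.map f := fun hy => ⟨_, hy, rfl⟩
    have hprime := prime_of_s4 hodd hmod (A := A.map f) (V := V.map f)
      ((OrderIso.isCoatom_iff e.mapSubgroup A).2 P.max) (FourGroup.isKleinFour_map e H.klein)
      (map_mono H.VA) ((map_mono H.norm).trans (le_normalizer_map f))
      (by
        intro y hy
        obtain ⟨w, rfl⟩ := e.surjective y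
        refine hfm (hCV (mem_centralizer_iff.2 fun v hv => e.injective ?_))
        rw [map_mul, map_mul]
        exact mem_centralizer_iff.1 hy (e v) (hfm hv))
      (by rw [card_map_of_injective e.injective, H.card]) (hfm hr)
      ((orderOf_injective f e.injective r).trans hr3) (hfm hs)
      (by rw [← map_inv, ← map_mul, ← map_mul, hsr, map_inv])
    haveI := Fact.mk hprime
    obtain ⟨e'⟩ := psl_zmod (p := Fintype.card F) (F := F) rfl
    exact Or.inr (Or.inr (Or.inr (Or.inr (Or.inr (Or.inl
      ⟨Fintype.card F, hprime, hmod, ⟨e.trans e'⟩⟩)))))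
  · -- quasi-dihedral
    obtain ⟨t, u, ρ, ht, hu, hρ, hto, huo, htu, hrt, hru⟩ := H.frame
    have hmemV : ∀ v, v ∈ V ↔ v = 1 ∨ v = t ∨ v = u ∨ v = t * u := by
      intro v
      have ht1 : t ≠ 1 := fun e => by rw [e, orderOf_one] at hto; omega
      have hu1 : u ≠ 1 := fun e => by rw [e, orderOf_one] at huo; omega
      rw [FourGroup.eq_four H.klein ht hu ht1 hu1 htu, FourGroup.mem_four]
    have F : Frame t u ρ :=
      { ht := hto
        hu := huo
        ne := htu
        comm := klein_comm_mem H.klein t ht u hu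
        rot_t := hrt
        rot_u := hru
        selfCent := fun y h1 h2 => (hmemV y).1 (hCV (mem_centralizer_iff.2 fun v hv => by
          rcases (hmemV v).1 hv with rfl | rfl | rfl | rfl
          · rw [one_mul, mul_one]
          · exact h1.symm
          · exact h2.symm
          · exact (Commute.mul_right (a := y) h1 h2).symm.eq)) }
    have hFull : Full t u ρ A (1 : MulAut G) :=
      { toSetup := setup_of_simple T hq F
        simple := inferInstance
        noncomm := fun hall => P.insol (Group.isSolvable_of_comm hall)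
        permA := fun a ha v hv => by
          have h1 : a * v * a⁻¹ ∈ V := conj_mem_normalizer (H.norm ha)
            ((hmemV v).2 (Or.inr hv))
          refine ((hmemV _).1 h1).resolve_left fun e => ?_
          rw [conj_eq_one_iff] at e
          subst e
          rcases hv with h | h | h
          · rw [← h, orderOf_one] at hto; omega
          · rw [← h, orderOf_one] at huo; omega
          · refine htu (eq_of_mul_eq_one_right' h hto)
        phi_t := rfl
        phi_u := rfl
        phi_core := fun v _ y _ => mem_zpowers y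
        maxA := fun W hW _ => by
          rcases P.max.le_iff.1 hW with h | h
          · haveI : W.Normal := normalizer_eq_top_iff.1 h
            rcases IsSimpleGroup.eq_bot_or_eq_top_of_normal W inferInstance with e | e
            · exact Or.inl (e ▸ bot_le)
            · exact Or.inr e
          · exact Or.inl (h ▸ le_normalizer) }
    obtain ⟨-, ⟨h, -⟩ | ⟨-, hcard⟩⟩ := psl_or_M11 T hq hFull
    · exact Or.inr (Or.inr (Or.inr (Or.inr (Or.inr (Or.inr (Or.inl h))))))
    · exact (no_maximal_24 hcard P.max H.card).elim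
where
  eq_of_mul_eq_one_right' {t u : G} (h : 1 = t * u) (hto : orderOf t = 2) : t = u := by
    have htt : t * t = 1 := by rw [← pow_two, ← hto, pow_orderOf_eq_one]
    exact mul_left_cancel (htt.trans h)

end Cfsg.Agent.SubThree
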