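import Cfsg.Agent.Lib.SubThree.Prim
import Cfsg.Agent.Lib.SubThree.Goal
import Cfsg.Agent.Lib.SelfThree.Main
import Cfsg.Agent.Lib.Classical.DicksonProper
import Cfsg.Agent.S1007

/-!
The stabilisers of order three and six.
-/

set_option autoImplicit false
set_option linter.style.haveILetI false
set_option linter.unusedSectionVars false

namespace Cfsg.Agent.SubThree

open Subgroup

universe u

theorem perm_four_inverter : ∃ r s : Equiv.Perm (Fin 4),
    r ^ 3 = 1 ∧ r ≠ 1 ∧ s * s = 1 ∧ s ≠ 1 ∧ s * r * s⁻¹ = r⁻¹ := by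
  refine ⟨Equiv.swap 0 1 * Equiv.swap 1 2, Equiv.swap 0 1, ?_⟩
  decide +kernel

variable {G : Type u} [Group G] [Finite G] {A : Subgroup G}

theorem case_three (P : Prim A) {x : G} (hx : x ∈ A) (hxo : orderOf x = 3)
    (hn : A ≤ normalizer (zpowers x : Set G))
    (hC : ∀ a ∈ A, a * x = x * a → a ∈ zpowers x) (hle : Nat.card A ≤ 6) : Listed G := by
  classical
  haveI : Fact (Nat.Prime 3) := ⟨Nat.prime_three⟩
  have hx1 : x ≠ 1 := fun e => by rw [e, orderOf_one] at hxo; omega
  have hN : normalizer (zpowers x : Set G) = A :=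
    P.norm_eq (zpowers_le.2 hx) (fun e => hx1 (zpowers_eq_bot.1 e)) hn
  have hCx : centralizer ({x} : Set G) = zpowers x := by
    refine le_antisymm (fun y hy => hC y (hN ▸ mem_normalizer_of fun z hz => ?_)
      (mem_cent_singleton.1 hy)) (zpowers_le.2 (mem_cent_singleton.2 rfl))
    obtain ⟨i, rfl⟩ := mem_zpowers_iff.1 hz
    rw [(Commute.zpow_right (mem_cent_singleton.1 hy) i).eq, mul_inv_cancel_right]
    exact zpow_mem (mem_zpowers x) i
  rcases SelfThree.main (Nat.card G) G rfl x hxo hCx with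
    ⟨N, hN', hnil, -, hq⟩ | ⟨N, hN', hcomm, -, ⟨e⟩⟩ | ⟨⟨e⟩⟩
  · haveI := hnil
    refine absurd (MinNonCA.solvable_ext N inferInstance ?_) P.insol
    refine MinNonCA.solvable_of_dvd_six ?_
    rcases hq with h | ⟨⟨f⟩⟩
    · rw [h]; norm_num
    · rw [Nat.card_congr f.toEquiv, Nat.card_perm, Nat.card_fin]; rfl
  · by_cases hb : N = ⊥
    · subst hb
      exact Or.inl ⟨(QuotientGroup.quotientBot (G := G)).symm.trans e⟩
    · exact absurd (Group.isSolvable_of_comm fun a b => mul_comm' a b) (P.insol_normal hb)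
  · exfalso
    haveI : Fact (Nat.Prime 7) := ⟨by norm_num⟩
    haveI := SelfThree.psl7_simple
    haveI : IsSimpleGroup G := MulEquiv.isSimpleGroup e
    have hcard : Nat.card G = 168 := by
      have h1 := Dickson.gcd_mul_card_psl (K := ZMod 7)
      rw [← Nat.card_congr e.toEquiv, Nat.card_zmod, show Nat.gcd 2 (7 - 1) = 2 from rfl] at h1
      omega
    obtain ⟨T⟩ : Nonempty (Sylow 2 G) := inferInstance
    obtain ⟨hU, -, hperm⟩ := S1007.result hcard T
    obtain ⟨⟨U, -, hUK⟩⟩ : Nonempty {U : Subgroup G // U ≤ (T : Subgroup G) ∧ IsKleinFour U} :=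
      (Nat.card_pos_iff.1 (by rw [hU]; exact two_pos)).1
    obtain ⟨f⟩ := hperm U hUK
    set H := normalizer (U : Set G) with hH
    obtain ⟨r₀, s₀, hr3, hr1, hs2, hs1, hsr⟩ := perm_four_inverter
    set r : G := ((f.symm r₀ : H) : G) with hr
    set s : G := ((f.symm s₀ : H) : G) with hs
    have hinj : ∀ {y : Equiv.Perm (Fin 4)}, y ≠ 1 → ((f.symm y : H) : G) ≠ 1 := fun hy e =>
      hy (f.symm.map_eq_one_iff.1 (Subtype.ext e))
    have hro : orderOf r = 3 := orderOf_eq_prime (by
      rw [hr, ← Subgroup.coe_pow, ← map_pow, hr3, map_one]; rfl) (hinj hr1)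
    have hso : orderOf s = 2 := by
      haveI : Fact (Nat.Prime 2) := ⟨Nat.prime_two⟩
      exact orderOf_eq_prime (by
        rw [hs, ← Subgroup.coe_pow, ← map_pow, pow_two, hs2, map_one]; rfl) (hinj hs1)
    have hsr' : s * r * s⁻¹ = r⁻¹ := by
      rw [hr, hs, ← Subgroup.coe_inv, ← Subgroup.coe_inv, ← Subgroup.coe_mul, ← Subgroup.coe_mul,
        ← map_inv, ← map_inv, ← map_mul, ← map_mul, hsr]
    -- a conjugate of the normaliser of the subgroup of order three
    have hS : ∀ y : G, orderOf y = 3 → ∀ S : Sylow 3 G, y ∈ (S : Subgroup G) →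
        (S : Subgroup G) = zpowers y := by
      intro y hy S hyS
      refine (eq_of_le_of_card_ge (zpowers_le.2 hyS) ?_).symm
      obtain ⟨k, hk⟩ := IsPGroup.iff_card.1 S.isPGroup'
      have hd := Subgroup.card_subgroup_dvd_card (S : Subgroup G)
      rw [hk, hcard] at hd
      rw [Nat.card_zpowers, hy, hk]
      have hk1 : k ≤ 1 := by
        by_contra hk1
        have : 3 ^ 2 ∣ 168 := (pow_dvd_pow 3 (by omega : 2 ≤ k)).trans hd
        norm_num at this
      calc 3 ^ k ≤ 3 ^ 1 := Nat.pow_le_pow_right (by norm_num) hk1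
        _ = 3 := pow_one 3
    have hp : ∀ y : G, orderOf y = 3 → IsPGroup 3 (zpowers y) := fun y hy =>
      IsPGroup.of_card (n := 1) (by rw [Nat.card_zpowers, hy, pow_one])
    obtain ⟨Sx, hSx⟩ := (hp x hxo).exists_le_sylow
    obtain ⟨Sr, hSr⟩ := (hp r hro).exists_le_sylow
    obtain ⟨c, hc⟩ := MulAction.exists_smul_eq G Sx Sr
    have hcx : cj c (zpowers x) = zpowers r := by
      rw [← hS x hxo Sx (zpowers_le.1 hSx), ← hS r hro Sr (zpowers_le.1 hSr), ← hc,
        Sylow.smul_def, Sylow.pointwise_smul_def]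
      rfl
    have hNr : normalizer (zpowers r : Set G) = cj c A := by
      rw [← hcx, ← hN]
      exact (map_equiv_normalizer_eq _ _).symm
    have hsup : zpowers r ⊔ zpowers s ≤ cj c A := by
      rw [← hNr, sup_le_iff, zpowers_le, zpowers_le]
      refine ⟨le_normalizer (mem_zpowers r), mem_normalizer_of fun z hz => ?_⟩
      obtain ⟨i, rfl⟩ := mem_zpowers_iff.1 hz
      rw [← _root_.conj_zpow, hsr']
      exact zpow_mem (inv_mem (mem_zpowers r)) i
    have h6 : 6 ≤ Nat.card (zpowers r ⊔ zpowers s : Subgroup G) := by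
      refine Nat.le_of_dvd Nat.card_pos (Nat.Coprime.mul_dvd_of_dvd_of_dvd
        (by norm_num : Nat.Coprime 3 2) ?_ ?_)
      · exact hro ▸ Subgroup.orderOf_dvd_natCard _ (mem_sup_left (mem_zpowers r))
      · exact hso ▸ Subgroup.orderOf_dvd_natCard _ (mem_sup_right (mem_zpowers s))
    have heq : zpowers r ⊔ zpowers s = cj c A :=
      eq_of_le_of_card_ge hsup (by rw [card_cj]; omega)
    have hH24 : Nat.card H = 24 := by
      rw [Nat.card_congr f.toEquiv, Nat.card_perm, Nat.card_fin]; rfl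
    rcases (P.cj_prim c).le_iff.1 (show cj c A ≤ H from heq ▸ sup_le
      (zpowers_le.2 (f.symm r₀).2) (zpowers_le.2 (f.symm s₀).2)) with h | h
    · rw [h, Subgroup.card_top, hcard] at hH24
      omega
    · rw [h, card_cj] at hH24
      omega

end Cfsg.Agent.SubThree
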