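import Cfsg.Agent.Lib.SubThree.SDBlock
import Cfsg.Agent.Lib.GLTwoThree.Main
import Cfsg.Agent.Lib.Char.GlaubermanMod

/-!
The order of a simple group with an involution centraliser having quotient `GL(2,3)` modulo its
core, in terms of the order of the core.
-/

set_option autoImplicit false
set_option linter.style.haveILetI false
set_option linter.unusedSectionVars false
set_option linter.unusedVariables false
set_option synthInstance.maxSize 4000
set_option maxRecDepth 100000
set_option maxHeartbeats 1000000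

namespace Cfsg.Agent.SubThree

open Cfsg Cfsg.Agent.Char Cfsg.Agent.CharX Cfsg.Agent.GLTwoThree
open scoped ComplexConjugate

universe u

variable {G : Type u} [Group G] [Finite G] {t : G}
variable (ht : orderOf t = 2) (O : Subgroup (cen t)) [O.Normal] (hO : Odd (Nat.card O))
  (e : (cen t) ⧸ O ≃* Matrix.GeneralLinearGroup (Fin 2) (ZMod 3))

include ht hO in
/-- Special elements are fused only by the centraliser. -/
theorem mem_cen_of_inD {x : G} {h h' : cen t} (hxh : x⁻¹ * (h : G) * x = h')
    (hD : inD (im O e h)) (hD' : inD (im O e h')) : x ∈ cen t := by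
  obtain ⟨k, hk⟩ : ∃ k, pw (im O e h) k = negOne := by
    rcases inD_pow _ (im_mem O e h) hD with h1 | h1 | h1 | h1 <;> exact ⟨_, h1⟩
  have h0 : (tc : cen t)⁻¹ * h ^ k ∈ O :=
    (im_eq_iff O e).1 ((im_tc ht O hO e).trans (by rw [im_pow, hk]))
  have hpow : h ^ (k * Nat.card O) = tc := by
    have hc : Commute ((tc : cen t)⁻¹) (h ^ k) :=
      Commute.inv_left (Subtype.ext (Subgroup.mem_centralizer_singleton_iff.1 (h ^ k).2).symm :
          Commute (tc : cen t) (h ^ k))
    have h1 : ((tc : cen t)⁻¹ * h ^ k) ^ Nat.card O = 1 :=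
      orderOf_dvd_iff_pow_eq_one.1 (O.orderOf_dvd_natCard h0)
    rw [hc.mul_pow, ← pow_mul] at h1
    obtain ⟨r, hr⟩ := hO
    have h2 : ((tc : cen t)⁻¹) ^ Nat.card O = tc := by
      rw [inv_eq_of_mul_eq_one_right (tc_sq ht), hr, pow_succ, pow_mul, pow_two, tc_sq ht, one_pow,
        one_mul]
    rw [h2] at h1
    calc h ^ (k * Nat.card O) = tc * (tc * h ^ (k * Nat.card O)) := by
          rw [← mul_assoc, tc_sq ht, one_mul]
      _ = tc := by rw [h1, mul_one]
  set K := k * Nat.card O with hK
  have hpow' : ((h' ^ K : cen t) : G) = x⁻¹ * t * x := by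
    rw [Subgroup.coe_pow, ← hxh]
    have h9 := conj_pow (a := x⁻¹) (b := (h : G)) (i := K)
    rw [inv_inv] at h9
    rw [h9, ← Subgroup.coe_pow, hpow]
    rfl
  have hord : orderOf (h' ^ K : cen t) = 2 := by
    rw [← Subgroup.orderOf_coe, hpow', show x⁻¹ * t * x = MulAut.conj x⁻¹ t by simp,
      MulEquiv.orderOf_eq, ht]
  have hne : pw (im O e h') K ≠ one := by
    rw [← im_pow, Ne, im_eq_one]
    intro hm
    have h1 := O.orderOf_dvd_natCard hm
    rw [hord] at h1
    exact (Nat.not_even_iff_odd.2 hO) (even_iff_two_dvd.2 h1)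
  have hsq : mul (pw (im O e h') K) (pw (im O e h') K) = one := by
    rw [← im_pow, ← im_mul, ← pow_two,
      show (h' ^ K) ^ 2 = 1 by rw [← hord, pow_orderOf_eq_one], im_one]
  have hmod : pw (im O e h') K = pw (im O e h') (K % 24) := by
    have h24 : h' ^ (24 * (K / 24)) ∈ O := by
      rw [pow_mul]
      refine pow_mem ((im_eq_one O e).1 ?_) _
      rw [im_pow]; exact pw_mod_check _ (im_mem O e h')
    rw [← im_pow, ← im_pow]
    symm
    rw [im_eq_iff]
    have e1 : h' ^ K = h' ^ (K % 24) * h' ^ (24 * (K / 24)) := by rw [← pow_add, Nat.mod_add_div]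
    rw [e1, inv_mul_cancel_left]
    exact h24
  have h3 := inD_pw_check _ (im_mem O e h') hD' (K % 24) (List.mem_range.2 (Nat.mod_lt _ (by norm_num)))
    (by rw [← hmod]; exact hsq) (by rw [← hmod]; exact hne)
  have h4 : h' ^ K = tc := eq_t_of_im ht O hO e ⟨1, by rw [hord, pow_one]⟩
    (by rw [im_pow, hmod, h3])
  rw [h4] at hpow'
  refine Subgroup.mem_centralizer_singleton_iff.2 ?_
  calc x * t = x * (x⁻¹ * t * x) := by rw [← hpow']; rfl
    _ = t * x := by group

variable [Fintype G]

include ht hO in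
theorem indFun_theta' (k : Fin 5) (h : cen t) (hD : inD (im O e h)) :
    indFun (cen t) (theta' O e k) h = theta' O e k h := by
  classical
  have key : ∀ x : G, extendByZero (cen t) (theta' O e k) (x⁻¹ * h * x) =
      if x ∈ cen t then theta' O e k h else 0 := by
    intro x
    split_ifs with hx
    · rw [extendByZero_mem (cen t) _ (Subgroup.mul_mem _ (Subgroup.mul_mem _
        (Subgroup.inv_mem _ hx) h.2) hx)]
      exact (isClassFunction_iff.mp (theta_class e k) _ _ (isConj_iff.mpr
        ⟨QuotientGroup.mk' O ⟨x⁻¹, Subgroup.inv_mem _ hx⟩, by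
          rw [← map_inv, ← map_mul, ← map_mul]
          exact congrArg _ (Subtype.ext (by simp))⟩)).symm
    · by_cases hc : x⁻¹ * (h : G) * x ∈ cen t
      · rw [extendByZero_mem (cen t) _ hc]
        exact theta'_off O e k _ fun hD' => hx (mem_cen_of_inD ht O hO e (h' := ⟨_, hc⟩) rfl hD hD')
      · exact extendByZero_not_mem (cen t) _ hc
  rw [indFun_apply, Finset.sum_congr rfl fun x _ => key x, Finset.sum_ite, Finset.sum_const_zero,
    add_zero, Finset.sum_const, nsmul_eq_mul, ← Fintype.card_subtype, ← Nat.card_eq_fintype_card,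
    ← mul_assoc, inv_mul_cancel₀ (Nat.cast_ne_zero.mpr Nat.card_pos.ne'), one_mul]

include ht hO e in
theorem theta'_inner [Fintype (cen t)] [Fintype (cen t ⧸ O)] (F F' : cen t ⧸ O → ℂ) :
    classInner (fun c : cen t => F (QuotientGroup.mk' O c)) (fun c => F' (QuotientGroup.mk' O c)) =
      classInner F F' := by
  have hne : (Nat.card O : ℂ) ≠ 0 := Nat.cast_ne_zero.2 Nat.card_pos.ne'
  simp only [Cfsg.classInner]
  rw [sum_im O (fun a => F a * conj (F' a)), card_eq_mul O e, card_X e, nsmul_eq_mul]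
  push_cast
  field_simp

include ht hO in
theorem inner_ind' [Fintype (cen t)] (k l : Fin 5) :
    classInner (indFun (cen t) (theta' O e k)) (indFun (cen t) (theta' O e l)) =
      (gram k l : ℂ) / 48 := by
  haveI : Fintype (cen t ⧸ O) := Fintype.ofFinite _
  rw [classInner_indFun_left (cen t) _ (isClassFunction_indFun (cen t) _), ← inner_theta e k l,
    ← theta'_inner ht O hO e (theta e k) (theta e l)]
  simp only [Cfsg.classInner]
  refine congrArg _ (Finset.sum_congr rfl fun h _ => ?_)
  by_cases hD : inD (im O e h)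
  · rw [indFun_theta' ht O hO e l h hD]; rfl
  · rw [theta'_off O e k h hD, zero_mul,
      show theta e k (QuotientGroup.mk' O h) = 0 from theta'_off O e k h hD, zero_mul]

include ht hO e in
/-- The two equations. -/
theorem order_equations [IsSimpleGroup G] (hone : ∀ u : G, orderOf u = 2 → IsConj t u)
    (hrefl : ∀ c : cen t, mul (im O e c) (im O e c) = one → im O e c ≠ one →
      im O e c ≠ negOne → c * c = 1) :
    ∃ A B : ℤ, A ≠ 0 ∧ A + 1 ≠ 0 ∧ B ≠ 0 ∧ B + 1 ≠ 0 ∧
      4608 * (Nat.card O : ℤ) ^ 3 * (A * (A + 1)) = (Nat.card G : ℤ) * (A - 2) ^ 2 ∧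
      9216 * (Nat.card O : ℤ) ^ 3 * (B * (B + 1)) = (Nat.card G : ℤ) * (B - 3) ^ 2 := by
  classical
  haveI : Fintype (cen t) := Fintype.ofFinite _
  haveI : Fintype (cen t ⧸ O) := Fintype.ofFinite _
  haveI : Fact (Nat.Prime 2) := ⟨Nat.prime_two⟩
  obtain ⟨M, hM⟩ := Cfsg.Agent.GlaubermanMod.exists_isPModular 2
  haveI : M.IsPrime := hM.2.1.isPrime
  set o : ℕ := Nat.card O with ho
  have ho0 : (o : ℂ) ≠ 0 := Nat.cast_ne_zero.2 Nat.card_pos.ne'
  have hC : Nat.card (cen t) = 48 * o := card_eq_mul O e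
  have hgen : ∀ k, IsGeneralizedCharacter (cen t) (theta' O e k) := fun k =>
    IsGeneralizedCharacter.comp (theta_gen e k) (QuotientGroup.mk' O)
  choose a ha using fun (k : Fin 5) (ψ : IrrCharacter G) =>
    IsGeneralizedCharacter.exists_classInner_int
      (IsGeneralizedCharacter.indFun (cen t) (hgen k))
      (IsGeneralizedCharacter.of_isCharacter (IsIrrCharacter.isCharacter ψ.2))
  have hexp : ∀ k, indFun (cen t) (theta' O e k) = ∑ ψ, (a k ψ : ℂ) • (ψ : G → ℂ) := by
    intro k
    conv_lhs => rw [classFunction_eq_sum (isClassFunction_indFun (cen t) _)]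
    exact Finset.sum_congr rfl fun ψ _ => by rw [ha]
  have hres : ∀ k (ψ : IrrCharacter G),
      classInner (theta' O e k) (fun h : cen t => (ψ : G → ℂ) h) = a k ψ := by
    intro k ψ
    rw [← classInner_indFun_left (cen t) _ (IsCharacter.isClassFunction (IsIrrCharacter.isCharacter ψ.2)),
      ha]
  have hna : ¬ ∀ x y : G, x * y = y * x := by
    intro h
    have hc : ∀ v ∈ U, ∀ w' ∈ U, mul v w' = mul w' v := fun v hv w' hw' => by
      obtain ⟨x, rfl⟩ := im_surj O e hv
      obtain ⟨y, rfl⟩ := im_surj O e hw'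
      rw [← im_mul, ← im_mul, show x * y = y * x from Subtype.ext (h x y)]
    exact absurd (hc (0, 2, 1, 0) (by decide +kernel) (1, 1, 0, 1) (by decide +kernel))
      (by decide +kernel)
  have hone' : ∀ k, classInner (theta' O e k) (fun _ : cen t => (1 : ℂ)) =
      (![1, 1, 0, 0, 0] k : ℤ) := fun k => by
    rw [← inner_theta_one e k, ← theta'_inner ht O hO e (theta e k) fun _ => 1]
    rfl
  have D : Extract.Data (principal G) (fun ψ : IrrCharacter G => charDegree (ψ : G → ℂ)) a := by
    refine ⟨charDegree_one, irr_deg_pos, fun ψ hψ => ?_, fun k => ?_, fun k => ?_, fun k l => ?_⟩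
    · obtain ⟨f, hf⟩ := exists_hom_of_degree_one (IsIrrCharacter.isCharacter ψ.2)
        (by rw [irr_deg, hψ, Nat.cast_one])
      rcases IsSimpleGroup.eq_bot_or_eq_top_of_normal f.ker inferInstance with hb | hb
      · exfalso
        refine hna fun x y => (MonoidHom.ker_eq_bot_iff f).mp hb ?_
        rw [map_mul, map_mul, mul_comm]
      · refine Subtype.ext (funext fun g => ?_)
        rw [hf]
        change ((f g : ℂˣ) : ℂ) = 1
        rw [MonoidHom.mem_ker.mp (hb ▸ Subgroup.mem_top g), Units.val_one]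
    · have h := hres k (principal G)
      rw [show (fun h : cen t => (principal G : G → ℂ) h) = fun _ => 1 from rfl, hone' k] at h
      exact_mod_cast h.symm
    · have h := congrFun (hexp k) 1
      rw [indFun_one_apply, Finset.sum_apply] at h
      simp only [Pi.smul_apply, smul_eq_mul, irr_deg] at h
      have h0 : theta' O e k 1 = 0 := theta'_off O e k 1 (by rw [im_one]; decide +kernel)
      rw [h0, mul_zero] at h
      exact_mod_cast h.symm
    · have h := inner_ind' ht O hO e k l
      rw [hexp k, hexp l, classInner_combination₂] at h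
      simp only [map_intCast] at h
      have hg : ∀ k l, (gram k l : ℤ) = 48 * ![![3, 1, 0, 1, -1], ![1, 3, 0, 0, 1], ![0, 0, 2, -1, 0],
          ![1, 0, -1, 2, 0], ![-1, 1, 0, 0, 3]] k l := by decide
      rw [hg k l, Int.cast_mul] at h
      refine (Int.cast_injective (α := ℂ)) ?_
      push_cast
      rw [h]
      push_cast
      ring
  obtain ⟨A, B, hA0, hA1, hB0, hB1, sA, sB⟩ := Extract.extract D
  -- the values at the involution
  have hT : ∀ (k : Fin 5) (ψ : IrrCharacter G), a k ψ ≠ 0 →
      conj ((ψ : G → ℂ) t) = (Extract.T a ψ : ℂ) := by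
    intro k ψ hne
    have hB' : ψ ∈ principalBlock M G := mem_block ht O hO e hM k
      (by rw [hres]; exact_mod_cast hne)
    have h1 : ∑ k, (comb k : ℂ) * classInner (theta' O e k) (fun h : cen t => (ψ : G → ℂ) h) =
        conj ((ψ : G → ℂ) t) := by
      have hcard : (Finset.univ.filter fun h : cen t => im O e h = negOne).card = o := by
        rw [← Fintype.card_subtype, ← Nat.card_eq_fintype_card, card_im O e fun v => v = negOne,
          show (U.filter fun v => v = negOne).card = 1 by decide +kernel, mul_one]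
      simp only [Cfsg.classInner, Finset.mul_sum]
      rw [Finset.sum_comm]
      calc ∑ h : cen t, ∑ k, (comb k : ℂ) * ((Nat.card (cen t) : ℂ)⁻¹ *
            (theta' O e k h * conj ((ψ : G → ℂ) h)))
          = ∑ h : cen t, if im O e h = negOne then
              (Nat.card (cen t) : ℂ)⁻¹ * 48 * conj ((ψ : G → ℂ) t) else 0 := by
            refine Finset.sum_congr rfl fun h _ => ?_
            have hcb := comb_theta e (QuotientGroup.mk' O h)
            change ∑ k, (comb k : ℂ) * theta' O e k h = if im O e h = negOne then 48 else 0 at hcb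
            calc _ = (Nat.card (cen t) : ℂ)⁻¹ * (∑ k, (comb k : ℂ) * theta' O e k h) *
                    conj ((ψ : G → ℂ) h) := by
                  rw [Finset.mul_sum, Finset.sum_mul]
                  exact Finset.sum_congr rfl fun k _ => by ring
              _ = _ := by
                rw [hcb]
                split_ifs with hh
                · rw [value_coset ht O hO e hM hB' hh]
                · ring
        _ = conj ((ψ : G → ℂ) t) := by
            rw [← Finset.sum_filter, Finset.sum_const, hcard, nsmul_eq_mul, hC]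
            push_cast
            field_simp
    simp only [hres, comb, Fin.sum_univ_five] at h1
    rw [← h1, Extract.T]
    simp
  -- the structure constants
  set idx' : ℂ := ((cen t).index : ℂ) with hidx
  set N : G → ℂ := fun x => (((classFinset t).filter fun i => IsConj t (i * x)).card : ℂ) with hN
  have hdelta : ∀ y : G, ∑ ψ : IrrCharacter G, conj ((ψ : G → ℂ) t) * (ψ : G → ℂ) y =
      if IsConj t y then (Nat.card (cen t) : ℂ) else 0 := by
    intro y
    rw [Finset.sum_congr rfl fun ψ _ => mul_comm _ _]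
    split_ifs with h
    · exact column_orth_of_isConj h.symm |>.trans (by
        obtain ⟨g, rfl⟩ := isConj_iff.1 h
        exact congrArg Nat.cast (Cfsg.Agent.Blocks.card_centralizer_conj t g))
    · exact column_orth_of_not_isConj fun h' => h h'.symm
  have hNsum : ∀ x, (Nat.card (cen t) : ℂ) * N x = idx' *
      ∑ ψ : IrrCharacter G, (ψ : G → ℂ) t * conj ((ψ : G → ℂ) t) * (ψ : G → ℂ) x / (ψ : G → ℂ) 1 := by
    intro x
    have h1 : (Nat.card (cen t) : ℂ) * N x = ∑ i ∈ classFinset t,
        ∑ ψ : IrrCharacter G, conj ((ψ : G → ℂ) t) * (ψ : G → ℂ) (i * x) := by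
      simp only [hN, Finset.natCast_card_filter, Finset.mul_sum]
      refine Finset.sum_congr rfl fun i _ => ?_
      rw [hdelta]
      split_ifs <;> simp
    rw [h1, Finset.sum_comm, Finset.mul_sum]
    refine Finset.sum_congr rfl fun ψ _ => ?_
    rw [← Finset.mul_sum]
    obtain ⟨n, ρ, hρ, hχ⟩ := id ψ.2
    haveI := hρ
    have h2 : ∑ i ∈ classFinset t, (ψ : G → ℂ) (i * x) =
        idx' * (ψ : G → ℂ) t / (ψ : G → ℂ) 1 * (ψ : G → ℂ) x := by
      rw [← hχ]
      simp only [Representation.character, map_mul]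
      rw [← map_sum, ← Finset.sum_mul, classSum_scalar, smul_mul_assoc, Module.End.mul_eq_comp,
        LinearMap.id_comp, map_smul, smul_eq_mul, map_one, LinearMap.trace_one]
      rfl
    rw [h2]
    ring
  have hloc : ∀ h : cen t, inD (im O e h) → N h = (o : ℂ) * (nloc (im O e h) : ℂ) := by
    intro h hD
    obtain ⟨k, hkt⟩ : ∃ k, pw (im O e h) k = negOne := by
      rcases inD_pow _ (im_mem O e h) hD with h1 | h1 | h1 | h1 <;> exact ⟨_, h1⟩
    have hordconj : ∀ {z : G}, IsConj t z → z * z = 1 ∧ z ≠ 1 := by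
      intro z hz
      obtain ⟨c, rfl⟩ := isConj_iff.mp hz
      have hord : orderOf (c * t * c⁻¹) = 2 := by
        rw [show c * t * c⁻¹ = MulAut.conj c t from rfl, MulEquiv.orderOf_eq, ht]
      exact ⟨by rw [← pow_two, ← hord, pow_orderOf_eq_one],
        fun h1 => by rw [h1, orderOf_one] at hord; omega⟩
    have hconv : ∀ {z : G}, z * z = 1 → z ≠ 1 → IsConj t z := fun {z} h1 h2 =>
      hone z (orderOf_eq_prime (by rw [pow_two, h1]) h2)
    have himne : ∀ c : cen t, (c : G) * c = 1 → (c : G) ≠ 1 → im O e c ≠ one := by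
      intro c h1 h2 h3
      have hd := O.orderOf_dvd_natCard ((im_eq_one O e).1 h3)
      rw [← Subgroup.orderOf_coe, orderOf_eq_prime (by rw [pow_two, h1]) h2] at hd
      exact (Nat.not_even_iff_odd.2 hO) (even_iff_two_dvd.2 hd)
    have hcent : ∀ {i : G}, i * i = 1 → i * h * (i * h) = 1 → i ∈ cen t := by
      intro i h1 h2
      have hi : i⁻¹ = i := inv_eq_of_mul_eq_one_right h1
      have h3 : i⁻¹ * (h : G) * i = ((h⁻¹ : cen t) : G) := by
        rw [hi, Subgroup.coe_inv]
        refine eq_inv_of_mul_eq_one_left ?_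
        rw [← h2]; group
      refine mem_cen_of_inD ht O hO e (h := h) (h' := h⁻¹) h3 hD ?_
      have hinv : ∀ v ∈ U, ∀ w ∈ U, inD v → mul v w = one → inD w := by decide +kernel
      exact hinv _ (im_mem O e h) _ (im_mem O e _) hD (by rw [← im_mul, mul_inv_cancel, im_one])
    have hcount : Nat.card {c : cen t // LocCond (im O e h) (im O e c)} = o * nloc (im O e h) :=
      card_im O e fun v => LocCond (im O e h) v
    simp only [hN]
    rw [← Nat.cast_mul, Nat.cast_inj, ← hcount, ← Fintype.card_coe, ← Nat.card_eq_fintype_card]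
    have hto : ∀ {i : G}, i ∈ (classFinset t).filter (fun i => IsConj t (i * (h : G))) →
        ∃ hi : i ∈ cen t, LocCond (im O e h) (im O e ⟨i, hi⟩) := by
      intro i hi
      obtain ⟨hi1, hi2⟩ := Finset.mem_filter.mp hi
      obtain ⟨a1, a2⟩ := hordconj (mem_classFinset.mp hi1)
      obtain ⟨b1, b2⟩ := hordconj hi2
      have hiH := hcent a1 b1
      refine ⟨hiH, himne ⟨i, hiH⟩ a1 a2, ?_, ?_, ?_⟩
      · rw [← im_mul, show (⟨i, hiH⟩ : cen t) * ⟨i, hiH⟩ = 1 from Subtype.ext a1, im_one]
      · rw [← im_mul]; exact himne (⟨i, hiH⟩ * h) b1 b2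
      · rw [← im_mul, ← im_mul,
          show (⟨i, hiH⟩ : cen t) * h * (⟨i, hiH⟩ * h) = 1 from Subtype.ext b1, im_one]
    have hfrom : ∀ c : cen t, LocCond (im O e h) (im O e c) →
        (c : G) ∈ (classFinset t).filter (fun i => IsConj t (i * (h : G))) := by
      rintro c ⟨z1, z2, z3, z4⟩
      obtain ⟨w1, w2⟩ := loc_check _ (im_mem O e h) hD _ (im_mem O e c) ⟨z1, z2, z3, z4⟩
      rw [← im_mul] at z3 z4 w2
      have r1 := hrefl c z2 z1 w1
      have r2 := hrefl (c * h) z4 z3 w2
      refine Finset.mem_filter.mpr ⟨mem_classFinset.mpr (hconv (congrArg Subtype.val r1) fun h1 => ?_),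
        hconv (congrArg Subtype.val r2) fun h1 => ?_⟩
      · exact z1 (by rw [show c = 1 from Subtype.ext h1, im_one])
      · exact z3 (by rw [show c * h = 1 from Subtype.ext h1, im_one])
    exact Nat.card_congr
      { toFun := fun i => ⟨⟨i.1, (hto i.2).1⟩, (hto i.2).2⟩
        invFun := fun z => ⟨z.1, hfrom z.1 z.2⟩
        left_inv := fun _ => rfl
        right_inv := fun _ => rfl }
  have hstar : ∀ (k : Fin 5) (S : ℚ),
      ∑ ψ, (a k ψ : ℚ) * (Extract.T a ψ : ℚ) ^ 2 / (charDegree ((ψ : IrrCharacter G) : G → ℂ) : ℚ) = S →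
      (o : ℂ) * ((o : ℂ) * ∑ x : cen t ⧸ O, theta e k x * (nloc (co' e x) : ℂ)) = idx' * (S : ℂ) := by
    intro k S hS
    have hlhs : (o : ℂ) * ((o : ℂ) * ∑ x : cen t ⧸ O, theta e k x * (nloc (co' e x) : ℂ)) =
        ∑ h : cen t, theta' O e k h * N h := by
      rw [Finset.sum_congr rfl (g := fun h : cen t => (o : ℂ) *
        (fun x => theta e k x * (nloc (co' e x) : ℂ)) (QuotientGroup.mk' O h)) fun h _ => ?_,
        ← Finset.mul_sum, sum_im O (fun x => theta e k x * (nloc (co' e x) : ℂ)), nsmul_eq_mul]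
      by_cases hD : inD (im O e h)
      · rw [hloc h hD]; simp only [theta', im]; ring
      · rw [theta'_off O e k h hD, zero_mul]
        simp [show theta e k (QuotientGroup.mk' O h) = 0 from theta'_off O e k h hD,
          show theta e k (h : cen t ⧸ O) = 0 from theta'_off O e k h hD]
    have hN' : ∀ h : cen t, (Nat.card (cen t) : ℂ) * N h = idx' * ∑ ψ : IrrCharacter G,
        (ψ : G → ℂ) t * conj ((ψ : G → ℂ) t) * conj ((ψ : G → ℂ) h) / (ψ : G → ℂ) 1 := by
      intro h
      have h1 := congrArg conj (hNsum h)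
      simp only [hN, map_mul, map_natCast, map_sum, map_div₀, hidx, irr_deg, Complex.conj_conj] at h1 ⊢
      rw [h1]
      refine congrArg _ (Finset.sum_congr rfl fun ψ _ => ?_)
      ring
    rw [hlhs]
    have hC0 : (Nat.card (cen t) : ℂ) ≠ 0 := Nat.cast_ne_zero.2 Nat.card_pos.ne'
    refine mul_left_cancel₀ hC0 ?_
    calc (Nat.card (cen t) : ℂ) * ∑ h : cen t, theta' O e k h * N h
        = ∑ h : cen t, theta' O e k h * ((Nat.card (cen t) : ℂ) * N h) := by
          rw [Finset.mul_sum]
          exact Finset.sum_congr rfl fun h _ => by ring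
      _ = idx' * ∑ ψ : IrrCharacter G, (ψ : G → ℂ) t * conj ((ψ : G → ℂ) t) / (ψ : G → ℂ) 1 *
            ((Nat.card (cen t) : ℂ) *
              classInner (theta' O e k) (fun h : cen t => (ψ : G → ℂ) h)) := by
          simp only [hN', Cfsg.classInner, Finset.mul_sum]
          rw [Finset.sum_comm]
          refine Finset.sum_congr rfl fun ψ _ => Finset.sum_congr rfl fun h _ => ?_
          field_simp
      _ = (Nat.card (cen t) : ℂ) * (idx' * (S : ℂ)) := by
          rw [← hS]
          simp only [hres, irr_deg, Rat.cast_sum, Finset.mul_sum]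
          refine Finset.sum_congr rfl fun ψ _ => ?_
          by_cases hne : a k ψ = 0
          · simp [hne]
          · have h1 := hT k ψ hne
            have h2 : (ψ : G → ℂ) t = (Extract.T a ψ : ℂ) := by
              rw [← Complex.conj_conj ((ψ : G → ℂ) t), h1, map_intCast]
            rw [h2, map_intCast]
            push_cast
            ring
  obtain ⟨n0, n1⟩ := sum_nloc e
  set I := (cen t).index with hIdef
  have e0 : (I : ℚ) * (1 + 4 / (A : ℚ) - 9 / ((A + 1 : ℤ) : ℚ)) = 96 * (o : ℚ) ^ 2 := by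
    have h := hstar 0 _ sA
    rw [n0] at h
    refine (Rat.cast_injective (α := ℂ)) ?_
    push_cast at h ⊢
    rw [← h]
    ring
  have e1 : (I : ℚ) * (1 + 9 / (B : ℚ) - 16 / ((B + 1 : ℤ) : ℚ)) = 192 * (o : ℚ) ^ 2 := by
    have h := hstar 1 _ sB
    rw [n1] at h
    refine (Rat.cast_injective (α := ℂ)) ?_
    push_cast at h ⊢
    rw [← h]
    ring
  have hI : Nat.card G = 48 * o * I := by rw [← hC, Subgroup.card_mul_index]
  have qA : (A : ℚ) ≠ 0 := Int.cast_ne_zero.mpr hA0
  have qA1 : (A : ℚ) + 1 ≠ 0 := by exact_mod_cast hA1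
  have qB : (B : ℚ) ≠ 0 := Int.cast_ne_zero.mpr hB0
  have qB1 : (B : ℚ) + 1 ≠ 0 := by exact_mod_cast hB1
  push_cast at e0 e1
  field_simp at e0 e1
  refine ⟨A, B, hA0, hA1, hB0, hB1, ?_, ?_⟩
  · rw [hI]
    have : (4608 : ℚ) * (o : ℚ) ^ 3 * ((A : ℚ) * ((A : ℚ) + 1)) =
        ((48 * o * I : ℕ) : ℚ) * ((A : ℚ) - 2) ^ 2 := by
      push_cast
      linear_combination (-48 * (o : ℚ)) * e0
    exact_mod_cast this
  · rw [hI]
    have : (9216 : ℚ) * (o : ℚ) ^ 3 * ((B : ℚ) * ((B : ℚ) + 1)) =
        ((48 * o * I : ℕ) : ℚ) * ((B : ℚ) - 3) ^ 2 := by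
      push_cast
      linear_combination (-48 * (o : ℚ)) * e1
    exact_mod_cast this

end Cfsg.Agent.SubThree
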