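import Cfsg.Agent.Lib.Transfer.Basic
import Mathlib.GroupTheory.Sylow
import Mathlib.GroupTheory.Transfer
import Mathlib.GroupTheory.IsPerfect
import Mathlib.GroupTheory.GroupAction.Quotient
import Mathlib.GroupTheory.SpecificGroups.Cyclic

/-!
No simple group of order `213840` has involution centralisers of order `144`.
-/

set_option autoImplicit false
set_option linter.style.haveILetI false
set_option linter.unusedSectionVars false
set_option maxRecDepth 100000
set_option synthInstance.maxSize 4000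

namespace Cfsg.Agent.SubThree

open Subgroup

universe u

theorem eleven_check : ∀ c ∈ Finset.range 1216, c ∣ 1215 → ∀ d ∈ Finset.range 11, d ∣ 10 → d ≠ 1 →
    c * d ∣ 19440 → 19440 / (c * d) % 11 = 1 → c = 27 ∧ d = 5 := by decide +kernel

theorem five_check : ∀ i ∈ Finset.range 6, 3 ≤ i → ∀ d ∈ Finset.range 5, d ∣ 4 → d ≠ 1 →
    3 ^ i * d ∣ 42768 → 42768 / (3 ^ i * d) % 5 = 1 → i = 3 ∧ d = 4 := by decide +kernel

variable {G : Type u} [Group G] [Finite G]

/-- A subgroup of prime order whose normaliser centralises it gives a normal complement. -/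
theorem index_cent_ne_one [IsSimpleGroup G] {p : ℕ} [Fact p.Prime] {P : Sylow p G}
    (hcard : Nat.card (P : Subgroup G) = p) (hlt : p < Nat.card G) :
    (centralizer (P : Set G)).relIndex (normalizer ((P : Subgroup G) : Set G)) ≠ 1 := by
  intro h
  have hle : normalizer ((P : Subgroup G) : Set G) ≤ centralizer (P : Set G) :=
    Subgroup.relIndex_eq_one.1 h
  have hc := MonoidHom.ker_transferSylow_isComplement' P hle
  have hm := hc.card_mul
  rw [hcard] at hm
  rcases IsSimpleGroup.eq_bot_or_eq_top_of_normal (MonoidHom.transferSylow P hle).ker inferInstance with e | e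
  · rw [e, card_bot, one_mul] at hm
    omega
  · rw [e, card_top] at hm
    have hp := (Fact.out : p.Prime).two_le
    nlinarith [Nat.card_pos (α := G)]

theorem no_group_213840 [IsSimpleGroup G] (hG : Nat.card G = 213840)
    (hinv : ∀ s : G, orderOf s = 2 → Nat.card (centralizer ({s} : Set G)) = 144) : False := by
  classical
  haveI : Fact (Nat.Prime 11) := ⟨by norm_num⟩
  haveI : Fact (Nat.Prime 5) := ⟨by norm_num⟩
  haveI : Fact (Nat.Prime 3) := ⟨Nat.prime_three⟩
  haveI : Fact (Nat.Prime 2) := ⟨Nat.prime_two⟩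
  -- a group centralised by elements of order not dividing 144 has odd order
  have hodd : ∀ (H : Subgroup G) (n : ℕ), n ∣ Nat.card H → ¬ n ∣ 144 →
      ¬ 2 ∣ Nat.card (centralizer (H : Set G)) := by
    intro H n hn hn' h2
    obtain ⟨⟨s, hs⟩, hso⟩ := exists_prime_orderOf_dvd_card' 2 h2
    rw [Subgroup.orderOf_mk] at hso
    refine hn' (hn.trans (hinv s hso ▸ Subgroup.card_dvd_of_le fun x hx => ?_))
    exact mem_centralizer_singleton_iff.2 (mem_centralizer_iff.1 hs x hx)
  have hfac : (213840 : ℕ) = 2 ^ 4 * 3 ^ 5 * 5 * 11 := by norm_num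
  have h11 : ∀ P : Sylow 11 G, Nat.card (P : Subgroup G) = 11 := by
    intro P
    obtain ⟨i, hi⟩ := P.isPGroup'.exists_card_eq
    have hd : 11 ^ i ∣ 213840 := hG ▸ hi ▸ card_subgroup_dvd_card _
    have hi2 : i ≤ 1 := by
      by_contra h
      have := (pow_dvd_pow 11 (by omega : 2 ≤ i)).trans hd
      norm_num at this
    have hi1 : i ≠ 0 := fun e => by
      have := P.dvd_card_of_dvd_card (hG ▸ by norm_num : 11 ∣ Nat.card G)
      rw [hi, e, pow_zero] at this
      norm_num at this
    rw [hi, show i = 1 by omega, pow_one]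
  have h5 : ∀ P : Sylow 5 G, Nat.card (P : Subgroup G) = 5 := by
    intro P
    obtain ⟨i, hi⟩ := P.isPGroup'.exists_card_eq
    have hd : 5 ^ i ∣ 213840 := hG ▸ hi ▸ card_subgroup_dvd_card _
    have hi2 : i ≤ 1 := by
      by_contra h
      have := (pow_dvd_pow 5 (by omega : 2 ≤ i)).trans hd
      norm_num at this
    have hi1 : i ≠ 0 := fun e => by
      have := P.dvd_card_of_dvd_card (hG ▸ by norm_num : 5 ∣ Nat.card G)
      rw [hi, e, pow_zero] at this
      norm_num at this
    rw [hi, show i = 1 by omega, pow_one]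
  -- the normaliser of a Sylow 11-subgroup
  have hN11 : ∀ P : Sylow 11 G, Nat.card (centralizer (P : Set G)) = 297 ∧
      Nat.card (normalizer ((P : Subgroup G) : Set G)) = 1485 := by
    intro P
    set C := centralizer (P : Set G)
    set N := normalizer ((P : Subgroup G) : Set G)
    haveI : IsCyclic (P : Subgroup G) := isCyclic_of_prime_card (h11 P)
    have hCN : C ≤ N := (centralizer_le_normalizer _)
    set d := C.relIndex N
    have hd1 : d ≠ 1 := index_cent_ne_one (h11 P) (by rw [hG]; norm_num)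
    have hd : d ∣ 10 := by
      have := Cfsg.Agent.PBasic.card_mul_relIndex hCN
      have h2 := Subgroup.relIndex_dvd_card C N
      let f := (P : Subgroup G).normalizerMonoidHom
      have hk : f.ker = C.subgroupOf N := Subgroup.normalizerMonoidHom_ker _
      have h3 : C.relIndex N ∣ Nat.card (MulAut (P : Subgroup G)) := by
        rw [Subgroup.relIndex, ← hk, Subgroup.index_ker]
        exact card_subgroup_dvd_card _
      rwa [IsCyclic.card_mulAut, h11 P, Nat.totient_prime (by norm_num)] at h3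
    have hPC : (P : Subgroup G) ≤ C := fun x hx => mem_centralizer_iff.2 fun y hy =>
      congrArg Subtype.val (mul_comm' (⟨y, hy⟩ : (P : Subgroup G)) ⟨x, hx⟩ :)
    obtain ⟨c, hc⟩ : 11 ∣ Nat.card C := h11 P ▸ card_dvd_of_le hPC
    have hcd : Nat.card N = 11 * (c * d) := by
      rw [← Cfsg.Agent.PBasic.card_mul_relIndex hCN, hc]; ring
    have hidx : 11 * (c * d) * N.index = 213840 := by rw [← hcd, card_mul_index, hG]
    have hmod : N.index % 11 = 1 := by
      have := card_sylow_modEq_one 11 G
      rwa [Nat.card_congr (Sylow.equivQuotientNormalizer P), ← Subgroup.index_eq_card] at this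
    have hcd2 : c * d * N.index = 19440 := by nlinarith
    have hcd1 : c * d ∣ 19440 := ⟨_, hcd2.symm⟩
    have hc2 : c ∣ 1215 := by
      have h1 : Nat.card C ∣ 16 * 13365 := by
        have := card_subgroup_dvd_card C
        rw [hG] at this
        exact this
      have h2 : (Nat.card C).Coprime 16 := by
        rw [show 16 = 2 ^ 4 by norm_num]
        exact (Nat.Coprime.pow_right 4 ((Nat.prime_two.coprime_iff_not_dvd).2
          (hodd (P : Subgroup G) 11 (h11 P).symm.dvd (by norm_num))).symm)
      have h3 := h2.dvd_of_dvd_mul_left h1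
      rw [hc, show 13365 = 11 * 1215 by norm_num] at h3
      exact Nat.dvd_of_mul_dvd_mul_left (by norm_num) h3
    have hpos : 0 < c * d := by
      rcases Nat.eq_zero_or_pos (c * d) with e | e
      · rw [e, zero_mul] at hcd2; norm_num at hcd2
      · exact e
    obtain ⟨rfl, hd5⟩ := eleven_check c (Finset.mem_range.2 (Nat.lt_succ_of_le (Nat.le_of_dvd (by norm_num) hc2)))
      hc2 d (Finset.mem_range.2 (Nat.lt_succ_of_le (Nat.le_of_dvd (by norm_num) hd))) hd hd1 hcd1 (by
        rw [← hcd2, Nat.mul_div_cancel_left _ hpos]; exact hmod)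
    exact ⟨hc, by rw [hcd, hd5]⟩
  obtain ⟨P⟩ : Nonempty (Sylow 11 G) := inferInstance
  obtain ⟨hC, hN⟩ := hN11 P
  set C := centralizer (P : Set G) with hCdef
  set N := normalizer ((P : Subgroup G) : Set G) with hNdef
  obtain ⟨Q₀⟩ : Nonempty (Sylow 3 C) := inferInstance
  have hQc : Nat.card (Q₀ : Subgroup C) = 27 := by
    obtain ⟨i, hi⟩ := Q₀.isPGroup'.exists_card_eq
    have h1 : 3 ^ i ∣ 297 := hC ▸ hi ▸ card_subgroup_dvd_card _
    have h2 : 3 ^ 3 ∣ Nat.card (Q₀ : Subgroup C) :=
      Q₀.pow_dvd_card_of_pow_dvd_card (by rw [hC]; norm_num)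
    have h3 : i ≤ 3 := by
      by_contra h
      have := (pow_dvd_pow 3 (by omega : 4 ≤ i)).trans h1
      norm_num at this
    have h4 : 3 ≤ i := by
      rw [hi] at h2
      exact (Nat.pow_dvd_pow_iff_le_right (by norm_num)).1 h2
    rw [hi, show i = 3 by omega]
    norm_num
  have hQn : ∀ {H : Subgroup G}, ∀ R : Sylow 3 H, Nat.card (R : Subgroup H) = 27 →
      (Nat.card H = 297 ∨ Nat.card H = 135) → (R : Subgroup H).Normal := by
    intro H R hR hH
    have h1 : (R : Subgroup H).index = 11 ∨ (R : Subgroup H).index = 5 := by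
      have := (R : Subgroup H).card_mul_index
      rw [hR] at this
      omega
    have h2 : Nat.card (Sylow 3 H) = 1 := by
      have hmod := card_sylow_modEq_one 3 H
      have hd := R.card_dvd_index
      rcases h1 with e | e <;> rw [e] at hd <;>
        rcases (Nat.dvd_prime (by norm_num)).1 hd with e' | e' <;>
        first
          | exact e'
          | (rw [e'] at hmod; exact absurd hmod (by decide))
    haveI := (Nat.card_eq_one_iff_unique.1 h2).1
    exact Sylow.normal_of_subsingleton R
  haveI := hQn Q₀ hQc (Or.inl hC)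
  set Q : Subgroup G := (Q₀ : Subgroup C).map C.subtype with hQdef
  have hQ27 : Nat.card Q = 27 := by
    rw [hQdef, card_map_of_injective C.subtype_injective, hQc]
  have hQC : Q ≤ C := map_subtype_le _
  -- the element of order five
  obtain ⟨⟨f, hfN⟩, hf⟩ := exists_prime_orderOf_dvd_card' 5 (G := N) (hN ▸ by norm_num)
  rw [Subgroup.orderOf_mk] at hf
  have hconjC : ∀ g ∈ N, ∀ x ∈ C, g * x * g⁻¹ ∈ C := by
    intro g hg x hx
    refine mem_centralizer_iff.2 fun p hp => ?_
    have h1 : g⁻¹ * p * g ∈ (P : Subgroup G) := by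
      have := (mem_normalizer_iff.1 (inv_mem hg) p).1 hp
      rwa [inv_inv] at this
    have h2 := mem_centralizer_iff.1 hx _ h1
    calc p * (g * x * g⁻¹) = g * ((g⁻¹ * p * g) * x) * g⁻¹ := by group
      _ = g * x * g⁻¹ * p := by rw [h2]; group
  have hchar : ∀ (H : Subgroup G) (R : Sylow 3 H), (R : Subgroup H).Normal → ∀ g : G,
      (∀ x ∈ H, g * x * g⁻¹ ∈ H) → ∀ q ∈ (R : Subgroup H).map H.subtype,
        g * q * g⁻¹ ∈ (R : Subgroup H).map H.subtype := by
    rintro H R hR g hg _ ⟨⟨q, hq⟩, hqR, rfl⟩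
    haveI := hR
    obtain ⟨i, hi⟩ := IsPGroup.iff_orderOf.1 R.isPGroup' ⟨⟨q, hq⟩, hqR⟩
    rw [Subgroup.orderOf_mk, Subgroup.orderOf_mk] at hi
    refine ⟨⟨g * q * g⁻¹, hg q hq⟩, ?_, rfl⟩
    have hp : IsPGroup 3 (zpowers (⟨g * q * g⁻¹, hg q hq⟩ : H)) :=
      IsPGroup.of_card (n := i) (by
        rw [Nat.card_zpowers, Subgroup.orderOf_mk, show g * q * g⁻¹ = MulAut.conj g q from rfl,
          MulEquiv.orderOf_eq, hi])
    obtain ⟨R', hR'⟩ := hp.exists_le_sylow
    haveI := Sylow.unique_of_normal R hR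
    rw [Subsingleton.elim R R']
    exact hR' (mem_zpowers _)
  have hfQ : ∀ q ∈ Q, f * q = q * f := by
    let F : Equiv.Perm Q :=
      { toFun := fun q => ⟨f * q * f⁻¹, hchar C Q₀ inferInstance f (hconjC f hfN) q q.2⟩
        invFun := fun q => ⟨f⁻¹ * q * f, by
          have := hchar C Q₀ inferInstance f⁻¹ (hconjC f⁻¹ (inv_mem hfN)) q q.2
          rwa [inv_inv] at this⟩
        left_inv := fun q => Subtype.ext (by simp [mul_assoc])
        right_inv := fun q => Subtype.ext (by simp [mul_assoc]) }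
    have hF : F ^ 5 = 1 := by
      have hp : ∀ (n : ℕ) (q : Q), (((F ^ n) q : Q) : G) = f ^ n * q * (f ^ n)⁻¹ := by
        intro n
        induction n with
        | zero => intro q; simp
        | succ n ih =>
          intro q
          rw [pow_succ', Equiv.Perm.mul_apply]
          show f * ((F ^ n) q : Q) * f⁻¹ = _
          rw [ih, pow_succ']
          group
      refine Equiv.ext fun q => Subtype.ext ?_
      rw [hp, ← hf, pow_orderOf_eq_one]
      simp
    haveI : Fintype Q := Fintype.ofFinite Q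
    have hmod := Equiv.Perm.card_compl_support_modEq (p := 5) (n := 1) (σ := F) (by rwa [pow_one])
    rw [← Nat.card_eq_fintype_card, hQ27] at hmod
    set R : Subgroup Q := (centralizer ({f} : Set G)).subgroupOf Q with hR
    have hRc : Nat.card R = (F.support)ᶜ.card := by
      rw [Nat.card_eq_fintype_card, ← Fintype.card_coe]
      refine Fintype.card_congr (Equiv.subtypeEquivRight fun q => ?_)
      rw [Finset.mem_compl, Equiv.Perm.mem_support, not_not, hR, mem_subgroupOf,
        mem_centralizer_singleton_iff, Subtype.ext_iff]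
      show (q : G) * f = f * q ↔ f * (q : G) * f⁻¹ = q
      rw [mul_inv_eq_iff_eq_mul]
      exact eq_comm
    have hd : Nat.card R ∣ 3 ^ 3 := by
      have := card_subgroup_dvd_card R
      rwa [hQ27] at this
    obtain ⟨i, hi3, hi⟩ := (Nat.dvd_prime_pow Nat.prime_three).1 hd
    rw [← hRc, hi] at hmod
    have hi' : i = 3 := by
      interval_cases i <;> first | rfl | exact absurd hmod (by decide)
    have htop : R = ⊤ := eq_top_of_card_eq R (by rw [hi, hi', hQ27]; norm_num)
    intro q hq
    exact (mem_centralizer_singleton_iff.1 (mem_subgroupOf.1 (htop ▸ mem_top (⟨q, hq⟩ : Q)))).symm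
  obtain ⟨P5, hP5⟩ := (IsPGroup.of_card (p := 5) (n := 1) (G := zpowers f)
    (by rw [Nat.card_zpowers, hf, pow_one])).exists_le_sylow
  have hP5eq : (P5 : Subgroup G) = zpowers f :=
    (eq_of_le_of_card_ge hP5 (by rw [Nat.card_zpowers, hf, h5])).symm
  set C5 := centralizer (P5 : Set G) with hC5def
  set N5 := normalizer ((P5 : Subgroup G) : Set G) with hN5def
  haveI : IsCyclic (P5 : Subgroup G) := isCyclic_of_prime_card (h5 P5)
  have hCN5 : C5 ≤ N5 := (centralizer_le_normalizer _)
  have hmemC5 : ∀ x : G, x * f = f * x → x ∈ C5 := by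
    intro x hx
    show x ∈ centralizer ((P5 : Subgroup G) : Set G)
    rw [hP5eq]
    refine mem_centralizer_iff.2 fun y hy => ?_
    obtain ⟨j, rfl⟩ := mem_zpowers_iff.1 hy
    exact ((show Commute f x from hx.symm).zpow_left j).eq
  have hQC5 : Q ≤ C5 := fun q hq => hmemC5 q (hfQ q hq).symm
  have hfC5 : f ∈ C5 := hmemC5 f rfl
  have hC5odd := hodd (P5 : Subgroup G) 5 (h5 P5).symm.dvd (by norm_num)
  have h11C5 : ¬ 11 ∣ Nat.card C5 := by
    intro h
    obtain ⟨⟨x, hx⟩, hxo⟩ := exists_prime_orderOf_dvd_card' 11 h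
    rw [Subgroup.orderOf_mk] at hxo
    obtain ⟨P', hP'⟩ := (IsPGroup.of_card (p := 11) (n := 1) (G := zpowers x)
      (by rw [Nat.card_zpowers, hxo, pow_one])).exists_le_sylow
    have hP'eq : (P' : Subgroup G) = zpowers x :=
      (eq_of_le_of_card_ge hP' (by rw [Nat.card_zpowers, hxo, h11])).symm
    have hfx : f ∈ centralizer (P' : Set G) := by
      show f ∈ centralizer ((P' : Subgroup G) : Set G)
      rw [hP'eq]
      refine mem_centralizer_iff.2 fun y hy => ?_
      obtain ⟨j, rfl⟩ := mem_zpowers_iff.1 hy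
      have hfx' : Commute x f :=
        (mem_centralizer_iff.1 hx f (show f ∈ (P5 : Subgroup G) from hP5 (mem_zpowers f))).symm
      exact (hfx'.zpow_left j).eq
    have h5d : orderOf f ∣ Nat.card (centralizer (P' : Set G)) := orderOf_dvd_natCard _ hfx
    rw [hf, (hN11 P').1] at h5d
    norm_num at h5d
  obtain ⟨c, hc⟩ : 135 ∣ Nat.card C5 := Nat.Coprime.mul_dvd_of_dvd_of_dvd (m := 27) (n := 5)
    (by norm_num) (hQ27 ▸ card_dvd_of_le hQC5) (hf ▸ orderOf_dvd_natCard C5 hfC5) |> fun h => h
  have hc9 : c ∣ 9 := by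
    have h1 : Nat.card C5 ∣ 16 * 11 * 1215 := by
      have := card_subgroup_dvd_card C5
      rw [hG] at this
      exact this
    have h2 : (Nat.card C5).Coprime (16 * 11) := by
      refine Nat.Coprime.mul_right ?_ ((Nat.Prime.coprime_iff_not_dvd (by norm_num)).2 h11C5).symm
      rw [show 16 = 2 ^ 4 by norm_num]
      exact Nat.Coprime.pow_right 4 ((Nat.prime_two.coprime_iff_not_dvd).2 hC5odd).symm
    have h3 := h2.dvd_of_dvd_mul_left h1
    rw [hc, show 1215 = 135 * 9 by norm_num] at h3
    exact Nat.dvd_of_mul_dvd_mul_left (by norm_num) h3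
  obtain ⟨j, hj2, rfl⟩ := (Nat.dvd_prime_pow Nat.prime_three).1 (show c ∣ 3 ^ 2 from hc9)
  set d := C5.relIndex N5 with hddef
  have hd1 : d ≠ 1 := index_cent_ne_one (h5 P5) (by rw [hG]; norm_num)
  have hd : d ∣ 4 := by
    let g := (P5 : Subgroup G).normalizerMonoidHom
    have hk : g.ker = C5.subgroupOf N5 := Subgroup.normalizerMonoidHom_ker _
    have h3 : C5.relIndex N5 ∣ Nat.card (MulAut (P5 : Subgroup G)) := by
      rw [Subgroup.relIndex, ← hk, Subgroup.index_ker]
      exact card_subgroup_dvd_card _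
    rwa [IsCyclic.card_mulAut, h5 P5, Nat.totient_prime (by norm_num)] at h3
  have hcd : Nat.card N5 = 5 * (3 ^ (j + 3) * d) := by
    rw [← Cfsg.Agent.PBasic.card_mul_relIndex hCN5, hc, pow_add]; ring
  have hidx : 5 * (3 ^ (j + 3) * d) * N5.index = 213840 := by rw [← hcd, card_mul_index, hG]
  have hmod : N5.index % 5 = 1 := by
    have := card_sylow_modEq_one 5 G
    rwa [Nat.card_congr (Sylow.equivQuotientNormalizer P5), ← Subgroup.index_eq_card] at this
  have hcd2 : 3 ^ (j + 3) * d * N5.index = 42768 := by nlinarith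
  have hpos : 0 < 3 ^ (j + 3) * d := by
    rcases Nat.eq_zero_or_pos (3 ^ (j + 3) * d) with e | e
    · rw [e, zero_mul] at hcd2; norm_num at hcd2
    · exact e
  obtain ⟨hj, hd4⟩ := five_check (j + 3) (Finset.mem_range.2 (by omega)) (by omega) d
    (Finset.mem_range.2 (Nat.lt_succ_of_le (Nat.le_of_dvd (by norm_num) hd))) hd hd1 ⟨_, hcd2.symm⟩
    (by rw [← hcd2, Nat.mul_div_cancel_left _ hpos]; exact hmod)
  have hC5c : Nat.card C5 = 135 := by rw [hc, show j = 0 by omega, pow_zero, mul_one]
  obtain ⟨⟨s, hsN⟩, hs⟩ := exists_prime_orderOf_dvd_card' 2 (G := N5) (by rw [hcd, hd4]; omega)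
  rw [Subgroup.orderOf_mk] at hs
  -- the involution normalises the group of order 27
  have hconjC5 : ∀ x ∈ C5, s * x * s⁻¹ ∈ C5 := by
    intro x hx
    refine mem_centralizer_iff.2 fun p hp => ?_
    have h1 : s⁻¹ * p * s ∈ (P5 : Subgroup G) := by
      have := (mem_normalizer_iff.1 (inv_mem hsN) p).1 hp
      rwa [inv_inv] at this
    have h2 := mem_centralizer_iff.1 hx _ h1
    calc p * (s * x * s⁻¹) = s * ((s⁻¹ * p * s) * x) * s⁻¹ := by group
      _ = s * x * s⁻¹ * p := by rw [h2]; group
  have hQp : IsPGroup 3 (Q.subgroupOf C5) :=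
    IsPGroup.of_card (n := 3) (by rw [Nat.card_congr (subgroupOfEquivOfLe hQC5).toEquiv, hQ27]; norm_num)
  obtain ⟨R5, hR5⟩ := hQp.exists_le_sylow
  have hR27 : Nat.card (R5 : Subgroup C5) = 27 := by
    obtain ⟨i, hi⟩ := R5.isPGroup'.exists_card_eq
    have h1 : 3 ^ i ∣ 135 := hC5c ▸ hi ▸ card_subgroup_dvd_card _
    have h2 : 3 ^ 3 ∣ Nat.card (R5 : Subgroup C5) :=
      R5.pow_dvd_card_of_pow_dvd_card (by rw [hC5c]; norm_num)
    have h3 : i ≤ 3 := by
      by_contra h
      have := (pow_dvd_pow 3 (by omega : 4 ≤ i)).trans h1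
      norm_num at this
    have h4 : 3 ≤ i := by
      rw [hi] at h2
      exact (Nat.pow_dvd_pow_iff_le_right (by norm_num)).1 h2
    rw [hi, show i = 3 by omega]
    norm_num
  have hRQ : (R5 : Subgroup C5).map C5.subtype = Q := by
    rw [← eq_of_le_of_card_ge hR5 (by
      rw [hR27, Nat.card_congr (subgroupOfEquivOfLe hQC5).toEquiv, hQ27]),
      map_subgroupOf_eq_of_le hQC5]
  have hsQ : ∀ q ∈ Q, s * q * s⁻¹ ∈ Q := by
    intro q hq
    have := hchar C5 R5 (hQn R5 hR27 (Or.inr hC5c)) s hconjC5 q (hRQ.symm ▸ hq)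
    rwa [hRQ] at this
  set D := centralizer (Q : Set G) with hD
  have hDodd := hodd Q 27 hQ27.symm.dvd (by norm_num)
  have hPD : (P : Subgroup G) ≤ D := fun p hp => mem_centralizer_iff.2 fun q hq =>
    (mem_centralizer_iff.1 (hQC hq) p hp).symm
  have hss : s * s = 1 := by rw [← pow_two, ← hs, pow_orderOf_eq_one]
  have hsi : s⁻¹ = s := inv_eq_of_mul_eq_one_right hss
  have hsD : ∀ x ∈ D, s * x * s⁻¹ ∈ D := by
    intro x hx
    refine mem_centralizer_iff.2 fun q hq => ?_
    have h1 : s * q * s ∈ Q := by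
      have := hsQ q hq
      rwa [hsi] at this
    have h2 := mem_centralizer_iff.1 hx _ h1
    rw [hsi]
    calc q * (s * x * s) = (s * s) * q * s * x * s := by rw [hss, one_mul, ← mul_assoc, ← mul_assoc]
      _ = s * ((s * q * s) * x) * s := by simp only [mul_assoc]
      _ = s * (x * (s * q * s)) * s := by rw [h2]
      _ = s * x * s * q * (s * s) := by simp only [mul_assoc]
      _ = s * x * s * q := by rw [hss, mul_one]
  let α : MulAut D :=
    { toFun := fun x => ⟨s * x * s⁻¹, hsD x x.2⟩
      invFun := fun x => ⟨s * x * s⁻¹, hsD x x.2⟩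
      left_inv := fun x => Subtype.ext (by
        show s * (s * (x : G) * s⁻¹) * s⁻¹ = x
        rw [hsi, show s * (s * (x : G) * s) * s = (s * s) * x * (s * s) by simp only [mul_assoc],
          hss, one_mul, mul_one])
      right_inv := fun x => Subtype.ext (by
        show s * (s * (x : G) * s⁻¹) * s⁻¹ = x
        rw [hsi, show s * (s * (x : G) * s) * s = (s * s) * x * (s * s) by simp only [mul_assoc],
          hss, one_mul, mul_one])
      map_mul' := fun x y => Subtype.ext (by
        show s * ((x : G) * y) * s⁻¹ = s * x * s⁻¹ * (s * y * s⁻¹)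
        group) }
  haveI : Fintype (Sylow 11 D) := Fintype.ofFinite _
  have hoddS : ¬ 2 ∣ Fintype.card (Sylow 11 D) := by
    obtain ⟨R⟩ : Nonempty (Sylow 11 D) := inferInstance
    intro h
    rw [← Nat.card_eq_fintype_card] at h
    exact hDodd ((h.trans R.card_dvd_index).trans (Subgroup.index_dvd_card _))
  let σ : Equiv.Perm (Sylow 11 D) :=
    { toFun := fun R => α • R, invFun := fun R => α⁻¹ • R,
      left_inv := fun R => inv_smul_smul α R, right_inv := fun R => smul_inv_smul α R }
  have hσ : σ ^ 2 ^ 1 = 1 := by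
    refine Equiv.ext fun R => ?_
    rw [pow_one, pow_two, Equiv.Perm.mul_apply]
    show α • α • R = R
    rw [← mul_smul, show α * α = 1 from MulEquiv.ext fun x => α.left_inv x, one_smul]
  haveI : DecidableEq (Sylow 11 D) := Classical.decEq _
  obtain ⟨R, hR⟩ := Equiv.Perm.exists_fixed_point_of_prime hoddS hσ
  have hRc : Nat.card (R : Subgroup D) = 11 := by
    have h1 : (Nat.card (R : Subgroup D)) = 11 ^ _ := R.card_eq_multiplicity
    have h2 : 11 ∣ Nat.card (R : Subgroup D) :=
      R.dvd_card_of_dvd_card (h11 P ▸ card_dvd_of_le hPD)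
    obtain ⟨i, hi⟩ := R.isPGroup'.exists_card_eq
    have h3 : 11 ^ i ∣ 213840 := by
      rw [← hG, ← hi, ← card_map_of_injective (K := (R : Subgroup D)) D.subtype_injective]
      exact card_subgroup_dvd_card _
    have hi2 : i ≤ 1 := by
      by_contra h
      have := (pow_dvd_pow 11 (by omega : 2 ≤ i)).trans h3
      norm_num at this
    have hi1 : i ≠ 0 := fun e => by rw [hi, e, pow_zero] at h2; norm_num at h2
    rw [hi, show i = 1 by omega, pow_one]
  obtain ⟨P', hP'⟩ := ((IsPGroup.of_card (n := 1) (by rw [hRc, pow_one]) :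
    IsPGroup 11 (R : Subgroup D)).map D.subtype).exists_le_sylow
  have hP'eq : (P' : Subgroup G) = (R : Subgroup D).map D.subtype :=
    (eq_of_le_of_card_ge hP' (by rw [card_map_of_injective D.subtype_injective, hRc, h11])).symm
  have hsN' : s ∈ normalizer ((P' : Subgroup G) : Set G) := by
    have key : ∀ p ∈ (P' : Subgroup G), s * p * s⁻¹ ∈ (P' : Subgroup G) := by
      rw [hP'eq]
      rintro _ ⟨x, hx, rfl⟩
      have h1 : α x ∈ (α • R : Sylow 11 D) := Subgroup.smul_mem_pointwise_smul x α _ hx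
      rw [show α • R = R from hR] at h1
      exact ⟨α x, h1, rfl⟩
    refine mem_normalizer_iff.2 fun p => ⟨key p, fun hp => ?_⟩
    have := key _ hp
    rw [hsi, show s * (s * p * s) * s = (s * s) * p * (s * s) by simp only [mul_assoc], hss,
      one_mul, mul_one] at this
    exact this
  have := orderOf_dvd_natCard _ hsN'
  rw [hs, (hN11 P').2] at this
  norm_num at this

end Cfsg.Agent.SubThree
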