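import Cfsg.Agent.Lib.SubThree.SDLocal
import Cfsg.Agent.Lib.SubThree.SDChar
import Cfsg.Agent.Lib.SubThree.SDArith
import Cfsg.Agent.Lib.SubThree.SDExclude

/-!
The core of the involution centraliser is trivial and the order of the group is determined.
-/

set_option autoImplicit false
set_option linter.style.haveILetI false
set_option linter.unusedSectionVars false
set_option synthInstance.maxSize 4000
set_option maxRecDepth 100000

namespace Cfsg.Agent.SubThree

open Cfsg Cfsg.Agent.GLTwoThree Cfsg.Agent.DGroup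

universe u

theorem cube_det_check : ∀ v ∈ U, pw v 3 = one → det v = 1 := by decide +kernel

theorem odd_pair_check : ∀ v ∈ U, ∀ w ∈ U, pw v 3 = one → v ≠ one → pw w 3 = one →
    pw (mul v w) 3 = one → pw (mul v (inv w)) 3 = one → w = one ∨ w = v ∨ w = mul v v := by
  decide +kernel

theorem six_check : ∀ v ∈ U, pw v 3 = one → v ≠ one →
    (U.filter fun w => mul w v = mul v w).card ≤ 6 := by decide +kernel

/-- The element `negOne` as a word in conjugates. -/
theorem negOne_word_check : ∀ v ∈ U, det v = 1 → v ≠ one → v = negOne ∨ mul v v = negOne ∨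
    pw v 3 = negOne ∨ ∃ x ∈ U, mul (mul v (cj x v)) (mul v (cj x v)) = negOne := by decide +kernel

theorem flip_check : ∀ s ∈ U, pw s 3 = one → s ≠ one → ∃ x ∈ U, mul x x = one ∧ x ≠ one ∧
    x ≠ negOne ∧ mul x s = mul (inv s) x ∧ mul (mul negOne x) (mul negOne x) = one ∧
    mul negOne x ≠ one ∧ mul negOne x ≠ negOne := by decide +kernel

variable {G : Type u} [Group G] [Finite G]

theorem card_sup_mul {M B : Subgroup G} (h : B ≤ Subgroup.normalizer (M : Set G)) :
    Nat.card (M ⊔ B : Subgroup G) * Nat.card (M ⊓ B : Subgroup G) = Nat.card M * Nat.card B := by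
  have h1 := Cfsg.Agent.PBasic.card_mul_relIndex (le_sup_left : M ≤ M ⊔ B)
  rw [relIndex_sup_of_norm h] at h1
  have h2 : Nat.card (M ⊓ B : Subgroup G) * M.relIndex B = Nat.card B := by
    rw [← Subgroup.inf_relIndex_right]
    exact Cfsg.Agent.PBasic.card_mul_relIndex inf_le_right
  rw [← h1, ← h2]
  ring

/-- A proper subgroup of a `p`-group is not self-normalising. -/
theorem exists_norm_not_mem {p : ℕ} [Fact p.Prime] {H P : Subgroup G} (hP : IsPGroup p P)
    (hH : H ≤ P) (hne : H ≠ P) : ∃ g ∈ P, g ∉ H ∧ g ∈ Subgroup.normalizer (H : Set G) := by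
  haveI : Group.IsNilpotent P := hP.isNilpotent
  have hlt : H.subgroupOf P < ⊤ := by
    rw [lt_top_iff_ne_top, Ne, Subgroup.subgroupOf_eq_top]
    exact fun h => hne (le_antisymm hH h)
  obtain ⟨y, hy, hyH⟩ := SetLike.exists_of_lt
    (Group.normalizerCondition_of_isNilpotent (H.subgroupOf P) hlt)
  refine ⟨y, y.2, fun h => hyH (Subgroup.mem_subgroupOf.2 h),
    Subgroup.mem_normalizer_iff.2 fun z => ⟨fun hz => ?_, fun hz => ?_⟩⟩
  · exact Subgroup.mem_subgroupOf.1 ((Subgroup.mem_normalizer_iff.1 hy ⟨z, hH hz⟩).1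
      (Subgroup.mem_subgroupOf.2 hz))
  · have hzP : z ∈ P := by
      have := mul_mem (mul_mem (inv_mem y.2) (hH hz)) y.2
      simpa [mul_assoc] using this
    exact Subgroup.mem_subgroupOf.1 ((Subgroup.mem_normalizer_iff.1 hy ⟨z, hzP⟩).2
      (Subgroup.mem_subgroupOf.2 hz))

/-- An element of odd order normalising a subgroup of order three centralises it. -/
theorem fix_of_odd {s r : G} (hr : r ^ 3 = 1) (ho : Odd (orderOf s))
    (h : s * r * s⁻¹ ∈ Subgroup.zpowers r) : Commute s r := by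
  have hsq : Commute (s ^ 2) r := by
    obtain ⟨j, hj⟩ := Subgroup.mem_zpowers_iff.1 h
    refine mul_inv_eq_iff_eq_mul.1 ?_
    calc s ^ 2 * r * (s ^ 2)⁻¹ = s * (s * r * s⁻¹) * s⁻¹ := by
          simp only [pow_two, mul_inv_rev, mul_assoc]
      _ = (s * r * s⁻¹) ^ j := by rw [← hj, ← conj_zpow, hj]
      _ = r ^ (j * j) := by rw [← hj, ← zpow_mul]
      _ = r := by
        by_cases h1 : r = 1
        · rw [h1, one_zpow]
        have ho3 : orderOf r = 3 := orderOf_eq_prime hr h1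
        have hj3 : ¬ (3 : ℤ) ∣ j := fun ⟨q, hq⟩ => h1 (by
          rw [hq, zpow_mul, show (3 : ℤ) = ((3 : ℕ) : ℤ) from rfl, zpow_natCast, hr, one_zpow,
            eq_comm, conj_eq_one_iff] at hj
          exact hj)
        rw [← zpow_mod_orderOf r (j * j), ho3]
        have hm : j % 3 = 1 ∨ j % 3 = 2 := by omega
        have : (j * j) % ((3 : ℕ) : ℤ) = 1 := by
          rcases hm with e | e <;> simp [Int.mul_emod, e]
        rw [this, zpow_one]
  obtain ⟨k, hk⟩ := ho
  have e : s = (s ^ 2) ^ (k + 1) := by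
    rw [← pow_mul, show 2 * (k + 1) = orderOf s + 1 by omega, pow_succ, pow_orderOf_eq_one, one_mul]
  rw [e]
  exact hsq.pow_left _

namespace Setup

variable {t u ρ : G} (S : Setup t u ρ)
include S

theorem cube_of_odd' {c : cen t} (h : Odd (orderOf (c : G))) : pw (S.ι c) 3 = one := by
  refine cube_of_odd _ _ ?_
  rw [← Subgroup.orderOf_coe]
  exact fun h2 => (Nat.not_even_iff_odd.2 h) (even_iff_two_dvd.2 h2)

theorem odd_comm {c : cen t} (h : Odd (orderOf (c : G))) {y : G} (hy : y ∈ Ov t) :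
    Commute (c : G) y := by
  refine mul_inv_eq_iff_eq_mul.1 ((S.act c hy).trans (if_pos ?_))
  exact cube_det_check _ (S.ι_mem c) (S.cube_of_odd' h)

/-- A subgroup with images in a given set. -/
theorem card_le_of_images {W : Subgroup G} (hW : W ≤ cen t) (s : Finset V)
    (hs : ∀ w : W, S.ι ⟨(w : G), hW w.2⟩ ∈ s) :
    Nat.card W ≤ Nat.card (Ov t) * s.card := by
  classical
  have h1 : Nat.card W ≤ Nat.card {c : cen t // im (Cfsg.oddCore (cen t)) S.iso c ∈ s} :=
    Nat.card_le_card_of_injective (fun w => ⟨⟨(w : G), hW w.2⟩, hs w⟩) fun a b h => by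
      exact Subtype.ext (congrArg (fun x => ((x.1 : cen t) : G)) h)
  rw [card_im (Cfsg.oddCore (cen t)) S.iso (fun v => v ∈ s)] at h1
  refine h1.trans ?_
  rw [Ov, Subgroup.card_map_of_injective (cen t).subtype_injective]
  exact Nat.mul_le_mul_left _ (Finset.card_le_card fun v hv => (Finset.mem_filter.1 hv).2)

/-- A subgroup of odd order in the centraliser. -/
theorem odd_images {W : Subgroup G} (hW : W ≤ cen t) (ho : Odd (Nat.card W)) :
    ∃ s : Finset V, s.card ≤ 3 ∧ ∀ w : W, S.ι ⟨(w : G), hW w.2⟩ ∈ s := by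
  classical
  let f : W → V := fun w => S.ι ⟨(w : G), hW w.2⟩
  have hodd : ∀ w : W, pw (f w) 3 = one := fun w =>
    S.cube_of_odd' (c := ⟨(w : G), hW w.2⟩) (ho.of_dvd_nat (W.orderOf_dvd_natCard w.2))
  by_cases hall : ∀ w, f w = one
  · exact ⟨{one}, by simp, fun w => by simp [show S.ι ⟨(w : G), hW w.2⟩ = one from hall w]⟩
  push Not at hall
  obtain ⟨v, hv⟩ := hall
  refine ⟨{one, f v, mul (f v) (f v)}, Finset.card_le_three, fun w => ?_⟩
  have hinv : f w⁻¹ = inv (f w) := by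
    refine Eq.trans ?_ (co'_inv _ _)
    exact congrArg (co' S.iso) (map_inv (QuotientGroup.mk' (Cfsg.oddCore (cen t))) ⟨(w : G), hW w.2⟩)
  rcases odd_pair_check (f v) (S.ι_mem _) (f w) (S.ι_mem _) (hodd v) hv (hodd w)
    (by rw [← S.ι_mul]; exact hodd (v * w))
    (by rw [← hinv, ← S.ι_mul]; exact hodd (v * w⁻¹)) with h | h | h <;>
    simp [show S.ι ⟨(w : G), hW w.2⟩ = _ from h]

theorem card_odd_le {W : Subgroup G} (hW : W ≤ cen t) (ho : Odd (Nat.card W)) :
    Nat.card W ≤ Nat.card (Ov t) * 3 := by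
  obtain ⟨s, hs3, hs⟩ := S.odd_images hW ho
  exact (S.card_le_of_images hW s hs).trans (Nat.mul_le_mul_left _ hs3)

end Setup

namespace Full

variable {t u ρ : G} {A : Subgroup G} {φ : MulAut G} (S : Full t u ρ A φ)
include S

theorem card_Ov_u : Nat.card (Ov u) = Nat.card (Ov t) := by
  have h : ∀ g v : G, Nat.card (Ov v) ≤ Nat.card (Ov (g * v * g⁻¹)) := fun g v =>
    Nat.card_le_card_of_injective (fun y : Ov v => (⟨g * y * g⁻¹, conj_Ov g y.2⟩ : Ov (g * v * g⁻¹)))
      fun a b e => Subtype.ext ((MulAut.conj g).injective (congrArg Subtype.val e :))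
  refine le_antisymm ?_ ?_
  · have := h ρ⁻¹ u
    rwa [show ρ⁻¹ * u * ρ⁻¹⁻¹ = t by rw [← S.rot_t]; group] at this
  · have := h ρ t
    rwa [S.rot_t] at this

theorem card_cen : Nat.card (cen t) = 48 * Nat.card (Ov t) := by
  haveI := core_normal t
  rw [Ov, Subgroup.card_map_of_injective (cen t).subtype_injective]
  exact card_eq_mul _ S.iso

/-- The order of the group. -/
theorem card_group (h32 : ¬ 32 ∣ Nat.card G) :
    Nat.card G = 5616 * Nat.card (Ov t) ^ 3 ∨ Nat.card G = 7920 * Nat.card (Ov t) ^ 3 := by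
  haveI := core_normal t
  haveI := S.simple
  haveI : Fintype G := Fintype.ofFinite G
  have h16 : 16 ∣ Nat.card G := by
    refine Dvd.dvd.trans ?_ (Subgroup.card_subgroup_dvd_card (cen t))
    rw [S.card_cen]
    exact dvd_mul_of_dvd_left (by norm_num) _
  obtain ⟨X, Y, h1, h2, h3, h4, h5, h6⟩ := order_equations S.ht (Cfsg.oddCore (cen t)) (core_odd t)
    S.iso S.oneClass fun c a b d => Subtype.ext (S.refl_lift (c := c) a b d).1
  have hO : Nat.card (Cfsg.oddCore (cen t)) = Nat.card (Ov t) := by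
    rw [Ov, Subgroup.card_map_of_injective (cen t).subtype_injective]
  rw [hO] at h5 h6
  exact order_of_equations (Ov_odd t) h16 h32 h1 h2 h3 h4 h5 h6

/-- The order of the core is a power of three. -/
theorem core_three (h32 : ¬ 32 ∣ Nat.card G) : ∃ e, Nat.card (Ov t) = 3 ^ e := by
  set o := Nat.card (Ov t) with ho
  have ho0 : o ≠ 0 := Nat.card_pos.ne'
  refine ⟨o.primeFactorsList.length, Nat.eq_prime_pow_of_unique_prime_dvd ho0 fun {r} hr hd => ?_⟩
  by_contra h3
  have h2 : r ≠ 2 := fun e =>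
    Nat.not_even_iff_odd.2 (Ov_odd t) (even_iff_two_dvd.2 (e ▸ hd))
  have hle := S.core_part_sylow hr h2 h3 hd
  have hpos := hr.factorization_pos_of_dvd ho0 hd
  obtain ⟨c, hc0, hc⟩ : ∃ c, c ≠ 0 ∧ Nat.card G = c * o ^ 3 := by
    rcases S.card_group h32 with e | e <;> exact ⟨_, by norm_num, e⟩
  rw [hc, Nat.factorization_mul hc0 (pow_ne_zero _ ho0), Nat.factorization_pow,
    Finsupp.coe_add, Pi.add_apply, Finsupp.coe_smul, Pi.smul_apply, smul_eq_mul, ← ho] at hle
  omega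

/-- Three-subgroups centralising an element of the core. -/
theorem three_bound {e : ℕ} (he : Nat.card (Ov t) = 3 ^ e) {x : G} (hx : x ∈ Ov t) (hx1 : x ≠ 1)
    {W : Subgroup G} (hW : IsPGroup 3 W) (hWx : ∀ w ∈ W, Commute w x) :
    Nat.card W ≤ 3 ^ (e + 3) := by
  haveI : Fact (Nat.Prime 3) := ⟨Nat.prime_three⟩
  obtain ⟨M, hMX, hModd, hDM, hCM, hMC, hN, hdec, hk, hkk, hcard⟩ :=
    S.cent_structure (X := Subgroup.zpowers x) (Subgroup.zpowers_le.2 hx)
      (Subgroup.zpowers_ne_bot.2 hx1)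
  have hle : W ≤ M ⊔ cen t := by
    intro w hw
    obtain ⟨m, hm, c, -, rfl⟩ := hdec w (Subgroup.mem_centralizer_iff.2 fun z hz => by
      obtain ⟨j, rfl⟩ := Subgroup.mem_zpowers_iff.1 hz
      exact ((hWx w hw).zpow_right j).eq.symm)
    exact mul_mem (Subgroup.mem_sup_left hm) (Subgroup.mem_sup_right c.2)
  have hc := card_sup_mul hCM
  rw [hMC, hcard, hkk, S.card_cen, he] at hc
  have hdvd : Nat.card W ∣ 432 * 3 ^ e := by
    refine (Subgroup.card_dvd_of_le hle).trans ?_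
    have hpos : 0 < 3 ^ e := by positivity
    rcases hk with h | h <;> rw [h] at hc
    · rw [Nat.eq_of_mul_eq_mul_right hpos (hc.trans (by ring : _ = (48 * 3 ^ e) * 3 ^ e))]
      exact Nat.mul_dvd_mul_right (by norm_num) _
    · rw [Nat.eq_of_mul_eq_mul_right hpos (hc.trans (by ring : _ = (432 * 3 ^ e) * 3 ^ e))]
  obtain ⟨i, hi⟩ := hW.exists_card_eq
  rw [hi] at hdvd ⊢
  rw [show 432 * 3 ^ e = 16 * 3 ^ (e + 3) by rw [pow_add]; ring] at hdvd
  exact Nat.le_of_dvd (by positivity)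
    ((Nat.Coprime.pow_left i (by norm_num : Nat.Coprime 3 16)).dvd_of_dvd_mul_left hdvd)

/-- The centraliser of an element acting trivially on two cores and non-trivially on the third. -/
theorem cent_bound {y : G} (hy1 : y ≠ 1) (hyodd : Odd (orderOf y)) (hyu : Commute y u)
    (hty : t * y * t = y⁻¹) (hne : ⟨y, Subgroup.mem_centralizer_singleton_iff.2 hyu.eq⟩ ∉
      (Cfsg.oddCore (cen u) : Subgroup (cen u))) (hyO : ∀ x ∈ Ov t, Commute y x) :
    Nat.card (cen y) ≤ 54 * Nat.card (Ov t) ^ 2 := by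
  classical
  set D := cen y with hD
  have hmem : ∀ {g : G}, g ∈ D ↔ Commute g y := Subgroup.mem_centralizer_singleton_iff
  have hyD : y ∈ D := hmem.2 (Commute.refl y)
  have huD : u ∈ D := hmem.2 hyu.symm
  have hR : Cfsg.Agent.BrauerSuzuki.RankOne D := by
    intro a b ha hb hab
    by_contra hne'
    have h := S.pair_cent (a := (a : G)) (b := (b : G)) (by rwa [Subgroup.orderOf_coe])
      (by rwa [Subgroup.orderOf_coe]) (hab.map D.subtype) (fun e => hne' (Subtype.ext e))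
      (hmem.1 a.2).symm (hmem.1 b.2).symm
    exact hy1 (eq_one_of_sq (X := Subgroup.zpowers y) (by rwa [Nat.card_zpowers])
      (Subgroup.mem_zpowers y) h)
  set uD : D := ⟨u, huD⟩ with huDdef
  have hZ := Cfsg.Agent.BrauerSuzuki.inZStar D hR uD (by rw [huDdef, Subgroup.orderOf_mk]; exact S.hu)
  haveI : (Cfsg.pPrimeCore 2 D).Normal := Cfsg.Agent.FittingCores.pPrimeCore_normal 2
  set K : Subgroup G := (Cfsg.pPrimeCore 2 D).map D.subtype with hKdef
  have hKD : K ≤ D := Subgroup.map_subtype_le _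
  have hKodd : Odd (Nat.card K) := by
    rw [hKdef, Subgroup.card_map_of_injective D.subtype_injective]
    exact Nat.coprime_two_right.1 (Cfsg.Agent.FittingCores.pPrimeCore_coprime 2)
  have hDK : ∀ d ∈ D, ∀ m ∈ K, d * m * d⁻¹ ∈ K := by
    rintro d hd _ ⟨m, hm, rfl⟩
    exact ⟨⟨d, hd⟩ * m * ⟨d, hd⟩⁻¹, Subgroup.Normal.conj_mem inferInstance m hm _, rfl⟩
  have hti : t⁻¹ = t := inv_eq_of_mul_eq_one_right S.tt
  have hui : u⁻¹ = u := inv_eq_of_mul_eq_one_right S.uu
  have htD : ∀ d ∈ D, t * d * t ∈ D := by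
    intro d hd
    refine hmem.2 ?_
    have h := (hmem.1 hd).map (MulAut.conj t).toMonoidHom
    simp only [MulEquiv.coe_toMonoidHom, MulAut.conj_apply, hti, hty] at h
    exact Commute.inv_right_iff.1 h
  have htK : ∀ x ∈ K, t * x * t ∈ K := by
    rintro _ ⟨m, hm, rfl⟩
    let f : D ≃* D :=
      { toFun := fun d => ⟨t * d * t, htD d d.2⟩
        invFun := fun d => ⟨t * d * t, htD d d.2⟩
        left_inv := fun d => Subtype.ext (invol_conj_conj S.tt _)
        right_inv := fun d => Subtype.ext (invol_conj_conj S.tt _)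
        map_mul' := fun a b => Subtype.ext (invol_conj_mul S.tt _ _) }
    refine ⟨f m, ?_, rfl⟩
    rw [← Cfsg.Agent.FittingCores.pPrimeCore_map_equiv 2 f]
    exact ⟨m, hm, rfl⟩
  have hF : Fpf t u (t * u) K := S.fpf_of hKodd htK fun x hx => by
    have := hDK u huD x hx
    rwa [hui] at this
  set B : Subgroup G := D ⊓ cen u with hB
  have hBK : B ≤ Subgroup.normalizer (K : Set G) := fun g hg =>
    Subgroup.mem_normalizer_iff.2 fun m => ⟨hDK g hg.1 m, fun h => by
      simpa [mul_assoc] using hDK g⁻¹ (inv_mem hg.1) _ h⟩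
  have hsup : K ⊔ B = D := by
    refine le_antisymm (sup_le hKD inf_le_left) fun g hg => ?_
    have h0 : g⁻¹ * (u * g * u) ∈ K := by
      refine ⟨_, hZ ((⟨g, hg⟩ : D)⁻¹), ?_⟩
      simp only [Subgroup.subtype_apply, Subgroup.coe_mul, Subgroup.coe_inv, huDdef, inv_inv, hui,
        mul_assoc]
    obtain ⟨k, hk, hkc⟩ := Cfsg.Agent.GW.exists_cent_mul hKodd S.uu h0
    have h2 : g * k ∈ B :=
      ⟨mul_mem hg (hKD hk), Subgroup.mem_centralizer_singleton_iff.2 hkc.symm⟩
    rw [← mul_inv_cancel_right g k]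
    exact mul_mem (Subgroup.mem_sup_right h2) (Subgroup.mem_sup_left (inv_mem hk))
  have hcardD : Nat.card D = Nat.card (ax K t) * Nat.card (ax K (t * u)) * Nat.card B := by
    have h := card_sup_mul hBK
    rw [hsup, show (K ⊓ B : Subgroup G) = ax K u by
      rw [hB, ← inf_assoc, inf_eq_left.2 hKD]; rfl, hF.card_eq] at h
    refine Nat.eq_of_mul_eq_mul_right (Nat.card_pos (α := ax K u)) (h.trans ?_)
    ring
  have haodd : ∀ v, Odd (Nat.card (ax K v)) := fun v =>
    hKodd.of_dvd_nat (Subgroup.card_dvd_of_le (ax_le K v))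
  -- the axis of `t`
  have h1 : Nat.card (ax K t) ≤ Nat.card (Ov t) * 3 :=
    S.card_odd_le inf_le_right (haodd t)
  -- the centraliser in `cen u`
  have hyu' : y ∈ cen u := Subgroup.mem_centralizer_singleton_iff.2 hyu.eq
  have hy3 : pw (S.rot.ι ⟨y, hyu'⟩) 3 = one := S.rot.cube_of_odd' (c := ⟨y, hyu'⟩) hyodd
  have hyne : S.rot.ι ⟨y, hyu'⟩ ≠ one := fun h => hne ((im_eq_one _ _).1 h)
  have h2 : Nat.card B ≤ Nat.card (Ov u) * 6 := by
    refine (S.rot.card_le_of_images (W := B) inf_le_right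
      (U.filter fun w => mul w (S.rot.ι ⟨y, hyu'⟩) = mul (S.rot.ι ⟨y, hyu'⟩) w) fun w =>
        Finset.mem_filter.2 ⟨S.rot.ι_mem _, ?_⟩).trans
      (Nat.mul_le_mul_left _ (six_check _ (S.rot.ι_mem _) hy3 hyne))
    rw [← S.rot.ι_mul, ← S.rot.ι_mul]
    exact congrArg _ (Subtype.ext (hmem.1 w.2.1).eq)
  -- the axis of `t * u`
  have h3 : Nat.card (ax K (t * u)) ≤ 3 := by
    have T := S.rot.rot
    have hle : ax K (t * u) ≤ cen (t * u) := inf_le_right
    obtain ⟨s, hs3, hs⟩ := T.odd_images hle (haodd _)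
    refine le_trans ?_ hs3
    rw [← Nat.card_eq_finsetCard s]
    refine Nat.card_le_card_of_injective (fun w => ⟨_, hs w⟩) fun a b hab => ?_
    have hab' : T.ι ⟨(a : G), hle a.2⟩ = T.ι ⟨(b : G), hle b.2⟩ := congrArg Subtype.val hab
    have hq : (a : G)⁻¹ * b ∈ Ov (t * u) := T.ι_eq_iff.1 hab'
    by_contra hne'
    have hq1 : (a : G)⁻¹ * b ≠ 1 := fun e => hne' (Subtype.ext (inv_mul_eq_one.1 e))
    refine hy1 (T0 hq hq1 ?_)
    exact ((hmem.1 (hKD (ax_le _ _ a.2))).inv_left.mul_left (hmem.1 (hKD (ax_le _ _ b.2)))).symm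
  rw [hcardD]
  calc Nat.card (ax K t) * Nat.card (ax K (t * u)) * Nat.card B
      ≤ (Nat.card (Ov t) * 3) * 3 * (Nat.card (Ov t) * 6) := by
        rw [S.card_Ov_u] at h2
        exact Nat.mul_le_mul (Nat.mul_le_mul h1 h3) h2
    _ = 54 * Nat.card (Ov t) ^ 2 := by ring
where
  T0 {q : G} (hq : q ∈ Ov (t * u)) (hq1 : q ≠ 1) (hcq : Commute y q) : y = 1 := by
    have h2 : ρ * q * ρ⁻¹ ∈ Ov t := by
      have := conj_Ov ρ hq
      rwa [S.rot_w] at this
    have h3 : ρ * (ρ * q * ρ⁻¹) * ρ⁻¹ ∈ Ov u := by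
      have := conj_Ov ρ h2
      rwa [S.rot_t] at this
    refine S.rot.gen_eq_one hq hq1 hcq (hyO _ h2) ?_
    exact S.rot.toSetup.odd_comm (c := ⟨y, Subgroup.mem_centralizer_singleton_iff.2 hyu.eq⟩) hyodd h3

/-- The trivial core when the two other axes are trivial. -/
theorem no_core_one (h32 : ¬ 32 ∣ Nat.card G) {e : ℕ} (he : Nat.card (Ov t) = 3 ^ e) (he1 : e ≠ 0)
    {M : Subgroup G} (hMle : M ≤ cen t)
    (hN : ∀ g ∈ Subgroup.centralizer ((Ov t : Subgroup G) : Set G), ∃ m ∈ M, ∃ c : cen t,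
      det (S.ι c) = 1 ∧ g = m * c) : False := by
  haveI : Fact (Nat.Prime 3) := ⟨Nat.prime_three⟩
  set X := Ov t with hX
  obtain ⟨T₀⟩ : Nonempty (Sylow 3 (cen t)) := inferInstance
  have hXT₀ : X.subgroupOf (cen t) ≤ (T₀ : Subgroup (cen t)) := by
    haveI : (X.subgroupOf (cen t)).Normal := ⟨fun n hn c => Ov_conj c.2 hn⟩
    have hp : IsPGroup 3 (X.subgroupOf (cen t)) := IsPGroup.of_card (n := e) (by
      rw [Nat.card_congr (Subgroup.subgroupOfEquivOfLe (Ov_le t)).toEquiv, he])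
    exact hp.le_sylow_of_normal T₀
  set T : Subgroup G := (T₀ : Subgroup (cen t)).map (cen t).subtype with hT
  have hXT : X ≤ T := fun x hx => ⟨⟨x, Ov_le t hx⟩, hXT₀ hx, rfl⟩
  have hTle : T ≤ cen t := Subgroup.map_subtype_le _
  have hTp : IsPGroup 3 T := T₀.isPGroup'.map _
  obtain ⟨P, hP⟩ := hTp.exists_le_sylow
  have hPT : (P : Subgroup G) = T := by
    by_contra hne
    obtain ⟨g, hgP, hgT, hgN⟩ := exists_norm_not_mem P.isPGroup' hP (Ne.symm hne)
    have hgt : g * t * g⁻¹ ∈ Subgroup.centralizer (X : Set G) := by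
      refine Subgroup.mem_centralizer_iff.2 fun x hx => ?_
      have h1 : g⁻¹ * x * g ∈ T := by
        have := (Subgroup.mem_normalizer_iff.1 (inv_mem hgN) x).1 (hXT hx)
        rwa [inv_inv] at this
      have h2 : Commute (g⁻¹ * x * g) t := Subgroup.mem_centralizer_singleton_iff.1 (hTle h1)
      calc x * (g * t * g⁻¹) = g * ((g⁻¹ * x * g) * t) * g⁻¹ := by group
        _ = g * t * g⁻¹ * x := by rw [h2.eq]; group
    obtain ⟨m, hm, c, hc, hmc⟩ := hN _ hgt
    have hin : g * t * g⁻¹ ∈ cen t := hmc ▸ mul_mem (hMle hm) c.2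
    have ho : orderOf (g * t * g⁻¹) = 2 := by
      rw [show g * t * g⁻¹ = MulAut.conj g t from rfl, MulEquiv.orderOf_eq, S.ht]
    rcases S.invol_cases ho (Subgroup.mem_centralizer_singleton_iff.1 hin) with h | ⟨h, hh, hu'⟩
    · have hgc : g ∈ cen t := Subgroup.mem_centralizer_singleton_iff.2 (mul_inv_eq_iff_eq_mul.1 h)
      have hp : IsPGroup 3 ((T ⊔ Subgroup.zpowers g).subgroupOf (cen t)) :=
        (P.isPGroup'.to_le (sup_le hP (Subgroup.zpowers_le.2 hgP))).comap_of_injective _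
          (cen t).subtype_injective
      have := T₀.is_maximal' hp fun c hc => Subgroup.mem_subgroupOf.2
        (Subgroup.mem_sup_left ⟨c, hc, rfl⟩)
      exact hgT ⟨⟨g, hgc⟩, this ▸ Subgroup.mem_subgroupOf.2
        (Subgroup.mem_sup_right (Subgroup.mem_zpowers g) : g ∈ T ⊔ Subgroup.zpowers g), rfl⟩
    · obtain ⟨x₀, hx₀, hx1⟩ : ∃ x ∈ X, x ≠ 1 := by
        by_contra hcon
        push Not at hcon
        have : Nat.card X = 1 := Nat.card_eq_one_iff_unique.2
          ⟨⟨fun a b => Subtype.ext ((hcon a a.2).trans (hcon b b.2).symm)⟩, ⟨1⟩⟩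
        rw [hX, he, Nat.pow_eq_one] at this
        simp [he1] at this
      have hx2 : h⁻¹ * x₀ * h ∈ X := by
        have := Ov_conj (inv_mem hh) hx₀
        rwa [inv_inv] at this
      have h3 := S.inverts hx2
      have h4 : g * t * g⁻¹ * x₀ * (g * t * g⁻¹) = x₀⁻¹ := by
        rw [← hu']
        calc h * u * h⁻¹ * x₀ * (h * u * h⁻¹) = h * (u * (h⁻¹ * x₀ * h) * u) * h⁻¹ := by group
          _ = _ := by rw [h3]; group
      rw [← Subgroup.mem_centralizer_iff.1 hgt x₀ hx₀, mul_assoc, ← pow_two,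
        show (g * t * g⁻¹) ^ 2 = 1 by rw [← ho, pow_orderOf_eq_one], mul_one] at h4
      exact hx1 (eq_one_of_sq (Ov_odd t) hx₀ (eq_inv_iff_mul_eq_one.1 h4))
  -- compare the orders
  have hle : Nat.card T ≤ 3 ^ (e + 1) := by
    have h := S.card_odd_le (W := T) hTle (by
      obtain ⟨i, hi⟩ := hTp.exists_card_eq
      rw [hi]; exact Odd.pow ⟨1, rfl⟩)
    rwa [he, ← pow_succ] at h
  have hd : 3 ^ (3 * e + 2) ∣ Nat.card G := by
    rw [pow_add, pow_mul' 3 3 e]
    rcases S.card_group h32 with h | h <;> rw [h, he, mul_comm]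
    · exact Nat.mul_dvd_mul_right (by norm_num) _
    · exact Nat.mul_dvd_mul_right (by norm_num) _
  have h2 := Nat.le_of_dvd Nat.card_pos (P.pow_dvd_card_of_pow_dvd_card hd)
  rw [hPT] at h2
  have h3 := h2.trans hle
  rw [Nat.pow_le_pow_iff_right (by norm_num)] at h3
  omega

/-- The core is trivial. -/
theorem no_core (h32 : ¬ 32 ∣ Nat.card G) {e : ℕ} (he : Nat.card (Ov t) = 3 ^ e) (he1 : e ≠ 0) :
    False := by
  haveI : Fact (Nat.Prime 3) := ⟨Nat.prime_three⟩
  haveI := S.simple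
  classical
  set X := Ov t with hX
  have hXbot : X ≠ ⊥ := by
    intro h
    rw [h, Subgroup.card_bot, eq_comm, Nat.pow_eq_one] at he
    simp [he1] at he
  obtain ⟨x₀, hx₀, hx1⟩ := (Subgroup.ne_bot_iff_exists_ne_one).1 hXbot |> fun ⟨a, ha⟩ =>
    (⟨(a : G), a.2, fun h => ha (Subtype.ext h)⟩ : ∃ x, x ∈ X ∧ x ≠ 1)
  obtain ⟨M, hMX, hModd, hDM, hCM, hMC, -, hdec, hk, hkk, hcard⟩ := S.cent_structure le_rfl hXbot
  rcases hk with hk | hk
  · -- the first case
    refine S.no_core_one h32 he he1 (M := M) ?_ hdec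
    have hMX' : M = X := (Subgroup.eq_of_le_of_card_ge (hMC.ge.trans inf_le_left : X ≤ M)
      (by rw [hcard, hkk, hk, mul_one, mul_one])).symm
    exact hMX' ▸ Ov_le t
  rw [hkk, hk, he] at hcard
  have hMcard : Nat.card M = 3 ^ (e + 2) := by rw [hcard, pow_add]; ring
  have hMp : IsPGroup 3 M := IsPGroup.of_card hMcard
  have hXM : X ≤ M := hMC.ge.trans inf_le_left
  have hXcentral : ∀ m ∈ M, ∀ x ∈ X, Commute m x := fun m hm x hx =>
    (Subgroup.mem_centralizer_iff.1 (hMX hm) x hx).symm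
  have hconjM : ∀ {c : G}, c ∈ cen t → ∀ m ∈ M, c * m * c⁻¹ ∈ M := fun hc m hm =>
    (Subgroup.mem_normalizer_iff.1 (hCM hc) m).1 hm
  have htc : t ∈ cen t := Subgroup.mem_centralizer_singleton_iff.2 rfl
  have hti : t⁻¹ = t := inv_eq_of_mul_eq_one_right S.tt
  have hui : u⁻¹ = u := inv_eq_of_mul_eq_one_right S.uu
  have htM : ∀ x ∈ M, t * x * t ∈ M := fun x hx => by
    have := hconjM htc x hx
    rwa [hti] at this
  have huM : ∀ x ∈ M, u * x * u ∈ M := fun x hx => by
    have := hconjM S.mem_u x hx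
    rwa [hui] at this
  have hF : Fpf t u (t * u) M := S.fpf_of hModd htM huM
  have hodd_of : ∀ {p : G}, p ∈ M → Odd (orderOf p) := fun hp =>
    hModd.of_dvd_nat (M.orderOf_dvd_natCard hp)
  obtain ⟨a₁, ha₁, ha₁1⟩ : ∃ a ∈ ax M u, a ≠ 1 := by
    by_contra hcon
    push Not at hcon
    have : Nat.card (ax M u) = 1 := Nat.card_eq_one_iff_unique.2
      ⟨⟨fun a b => Subtype.ext ((hcon a a.2).trans (hcon b b.2).symm)⟩, ⟨1⟩⟩
    omega
  -- commutators of `M` lie in the core
  have hMab : ∀ m ∈ M, ∀ m' ∈ M, m * m' * m⁻¹ * m'⁻¹ ∈ X := by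
    intro m hm m' hm'
    haveI : (X.subgroupOf M).Normal := ⟨fun n hn g => by
      have h : Commute (g : G) (n : G) := hXcentral g g.2 n hn
      refine Subgroup.mem_subgroupOf.2 ?_
      show (g : G) * n * (g : G)⁻¹ ∈ X
      rw [h.eq, mul_inv_cancel_right]
      exact hn⟩
    have hq : Nat.card (M ⧸ X.subgroupOf M) = 3 ^ 2 := by
      have h := Subgroup.card_eq_card_quotient_mul_card_subgroup (X.subgroupOf M)
      rw [hMcard, Nat.card_congr (Subgroup.subgroupOfEquivOfLe hXM).toEquiv, he, pow_add,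
        mul_comm (3 ^ e)] at h
      exact (Nat.eq_of_mul_eq_mul_right (by positivity) h).symm
    set q := QuotientGroup.mk' (X.subgroupOf M) with hq'
    have h3 : (⟨m, hm⟩ * ⟨m', hm'⟩ * (⟨m, hm⟩ : M)⁻¹ * (⟨m', hm'⟩ : M)⁻¹ : M) ∈ X.subgroupOf M := by
      refine (QuotientGroup.eq_one_iff _).1 ?_
      show q _ = 1
      rw [map_mul, map_mul, map_mul, map_inv, map_inv,
        IsPGroup.commutative_of_card_eq_prime_sq hq (q ⟨m, hm⟩) (q ⟨m', hm'⟩)]
      group
    exact Subgroup.mem_subgroupOf.1 h3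
  -- only the core acts trivially modulo the core
  let triv : G → Prop := fun c => ∀ m ∈ M, c * m * c⁻¹ * m⁻¹ ∈ X
  have hnot : ∀ c : cen t, triv c → det (S.ι c) = 1 → (c : G) ∈ X := by
    intro c hc hdet
    by_contra hcX
    have hmul : ∀ a b : G, a ∈ cen t → b ∈ cen t → triv a → triv b → triv (a * b) := by
      intro a b ha hb hta htb m hm
      have h1 := mul_mem (Ov_conj ha (htb m hm)) (hta m hm)
      rwa [show a * (b * m * b⁻¹ * m⁻¹) * a⁻¹ * (a * m * a⁻¹ * m⁻¹) =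
        a * b * m * (a * b)⁻¹ * m⁻¹ by group] at h1
    have hconj : ∀ x a : G, x ∈ cen t → a ∈ cen t → triv a → triv (x * a * x⁻¹) := by
      intro x a hx ha hta m hm
      have hm' : x⁻¹ * m * x ∈ M := by
        have := hconjM (inv_mem hx) m hm
        rwa [inv_inv] at this
      have h1 := Ov_conj hx (hta _ hm')
      rwa [show x * (a * (x⁻¹ * m * x) * a⁻¹ * (x⁻¹ * m * x)⁻¹) * x⁻¹ =
        x * a * x⁻¹ * m * (x * a * x⁻¹)⁻¹ * m⁻¹ by group] at h1
    obtain ⟨d, hd, htd⟩ : ∃ d : cen t, S.ι d = negOne ∧ triv d := by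
      have hne : S.ι c ≠ one := fun h => hcX (S.ι_one_iff.1 h)
      rcases negOne_word_check _ (S.ι_mem c) hdet hne with h | h | h | ⟨x, hx, h⟩
      · exact ⟨c, h, hc⟩
      · exact ⟨c * c, by rw [S.ι_mul]; exact h, hmul _ _ c.2 c.2 hc hc⟩
      · refine ⟨c * c * c, ?_, hmul _ _ (c * c).2 c.2 (hmul _ _ c.2 c.2 hc hc) hc⟩
        rw [← h, show c * c * c = c ^ 3 by rw [pow_succ, pow_two]]
        exact im_pow _ _ c 3
      · obtain ⟨x', rfl⟩ := im_surj (Cfsg.oddCore (cen t)) S.iso hx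
        refine ⟨(c * (x'⁻¹ * (c * x'))) * (c * (x'⁻¹ * (c * x'))), ?_, ?_⟩
        · rw [← h, S.ι_mul, S.ι_mul, S.ι_mul, S.ι_mul]
          have e : S.ι x'⁻¹ = inv (S.ι x') := by
            refine Eq.trans ?_ (co'_inv _ _)
            exact congrArg (co' S.iso) (map_inv (QuotientGroup.mk' (Cfsg.oddCore (cen t))) x')
          rw [e]
          rfl
        · have hw : triv ((x'⁻¹ * (c * x') : cen t) : G) := by
            have := hconj _ _ (inv_mem x'.2) c.2 hc
            simpa [mul_assoc] using this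
          have h1 : triv ((c * (x'⁻¹ * (c * x')) : cen t) : G) :=
            hmul _ _ c.2 (x'⁻¹ * (c * x')).2 hc hw
          exact hmul _ _ (c * (x'⁻¹ * (c * x'))).2 (c * (x'⁻¹ * (c * x'))).2 h1 h1
    have hx : ((d⁻¹ * tc : cen t) : G) ∈ X :=
      S.ι_eq_iff.1 (hd.trans (im_tc S.ht _ (core_odd t) S.iso).symm)
    have htr : triv t := by
      have h1 : triv ((d⁻¹ * tc : cen t) : G) := fun m hm => by
        rw [(hXcentral m hm _ hx).symm.eq, mul_inv_cancel_right, mul_inv_cancel]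
        exact one_mem X
      have h2 := hmul _ _ d.2 (d⁻¹ * tc : cen t).2 htd h1
      rwa [show (d : G) * ((d⁻¹ * tc : cen t) : G) = t by
        rw [Subgroup.coe_mul, Subgroup.coe_inv, mul_inv_cancel_left]; rfl] at h2
    have h4 := htr a₁ (ax_le _ _ ha₁)
    rw [hti, hF.swap.inverts ha₁] at h4
    have h5 : Commute (a₁⁻¹ * a₁⁻¹) t := Ov_comm h4
    have h6 : a₁⁻¹ * a₁⁻¹ = a₁ * a₁ := by
      have e : t * (a₁⁻¹ * a₁⁻¹) * t = a₁⁻¹ * a₁⁻¹ := by
        rw [← h5.eq, mul_assoc, S.tt, mul_one]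
      rw [invol_conj_mul S.tt, invol_conj_inv S.tt, hF.swap.inverts ha₁, inv_inv] at e
      exact e.symm
    have h7 : (a₁ * a₁) * (a₁ * a₁) = 1 := by
      nth_rewrite 1 [← h6]
      group
    exact ha₁1 (eq_one_of_sq hModd (ax_le _ _ ha₁)
      (eq_one_of_sq hModd (mul_mem (ax_le _ _ ha₁) (ax_le _ _ ha₁)) h7))
  -- the Sylow subgroup of the centraliser
  obtain ⟨T₀⟩ : Nonempty (Sylow 3 (cen t)) := inferInstance
  set T : Subgroup G := (T₀ : Subgroup (cen t)).map (cen t).subtype with hT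
  have hTle : T ≤ cen t := Subgroup.map_subtype_le _
  have hTp : IsPGroup 3 T := T₀.isPGroup'.map _
  have hTcard : Nat.card T = 3 ^ (e + 1) := by
    obtain ⟨i, hi⟩ := hTp.exists_card_eq
    have hTc : Nat.card T = Nat.card (T₀ : Subgroup (cen t)) := by
      rw [hT, Subgroup.card_map_of_injective (cen t).subtype_injective]
    have h1 : 3 ^ i ∣ 48 * 3 ^ e := hi ▸ he ▸ S.card_cen ▸ Subgroup.card_dvd_of_le hTle
    have h2 : 3 ^ (e + 1) ∣ 3 ^ i := by
      rw [← hi, hTc]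
      refine T₀.pow_dvd_card_of_pow_dvd_card ?_
      rw [S.card_cen, he, pow_succ']
      exact Nat.mul_dvd_mul_right (by norm_num) _
    rw [show 48 * 3 ^ e = 16 * 3 ^ (e + 1) by rw [pow_succ]; ring] at h1
    have h3 := (Nat.Coprime.pow_left i (by norm_num : Nat.Coprime 3 16)).dvd_of_dvd_mul_left h1
    rw [hi, Nat.dvd_antisymm h3 h2]
  have hTodd : ∀ {σ : G}, σ ∈ T → Odd (orderOf σ) := fun hσ => by
    refine Odd.of_dvd_nat ?_ (T.orderOf_dvd_natCard hσ)
    rw [hTcard]; exact Odd.pow ⟨1, rfl⟩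
  have hTX : ∀ σ ∈ T, ∀ x ∈ X, Commute σ x := fun σ hσ x hx =>
    S.odd_comm (c := ⟨σ, hTle hσ⟩) (hTodd hσ) hx
  have hXT : X ≤ T := by
    haveI : (X.subgroupOf (cen t)).Normal := ⟨fun n hn c => Ov_conj c.2 hn⟩
    have hp : IsPGroup 3 (X.subgroupOf (cen t)) := IsPGroup.of_card (n := e) (by
      rw [Nat.card_congr (Subgroup.subgroupOfEquivOfLe (Ov_le t)).toEquiv, he])
    exact fun x hx => ⟨⟨x, Ov_le t hx⟩, hp.le_sylow_of_normal T₀
      (show (⟨x, Ov_le t hx⟩ : cen t) ∈ X.subgroupOf (cen t) from hx), rfl⟩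
  have hTN : T ≤ Subgroup.normalizer (M : Set G) := hTle.trans hCM
  set P1 : Subgroup G := M ⊔ T with hP1
  have hMT : M ⊓ T = X := le_antisymm
    (fun x hx => hMC.le ⟨hx.1, hTle hx.2⟩) (le_inf hXM hXT)
  have hP1card : Nat.card P1 = 3 ^ (e + 3) := by
    have h := card_sup_mul hTN
    rw [hMT, he, hMcard, hTcard] at h
    refine Nat.eq_of_mul_eq_mul_right (by positivity : 0 < 3 ^ e) (h.trans ?_)
    rw [← pow_add, ← pow_add]; congr 1; omega
  have hP1p : IsPGroup 3 P1 := IsPGroup.of_card hP1card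
  have hP1X : ∀ g ∈ P1, ∀ x ∈ X, Commute g x := by
    intro g hg x hx
    have hle : P1 ≤ cen x := sup_le
      (fun m hm => Subgroup.mem_centralizer_singleton_iff.2 (hXcentral m hm x hx).eq)
      (fun σ hσ => Subgroup.mem_centralizer_singleton_iff.2 (hTX σ hσ x hx).eq)
    exact Subgroup.mem_centralizer_singleton_iff.1 (hle hg)
  obtain ⟨P, hP⟩ := hP1p.exists_le_sylow
  have hPbig : 3 ^ (3 * e + 2) ≤ Nat.card (P : Subgroup G) := by
    refine Nat.le_of_dvd Nat.card_pos (P.pow_dvd_card_of_pow_dvd_card ?_)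
    rw [pow_add, pow_mul' 3 3 e]
    rcases S.card_group h32 with h | h <;> rw [h, he, mul_comm]
    · exact Nat.mul_dvd_mul_right (by norm_num) _
    · exact Nat.mul_dvd_mul_right (by norm_num) _
  have hsmall : ∀ {x : G}, x ∈ X → x ≠ 1 → ∀ g ∈ (P : Subgroup G), Commute g x → g ∈ P1 := by
    intro x hx hx1 g hg hgx
    by_contra hgn
    have hle : P1 ⊔ Subgroup.zpowers g ≤ (P : Subgroup G) := sup_le hP (Subgroup.zpowers_le.2 hg)
    have hc : ∀ w ∈ P1 ⊔ Subgroup.zpowers g, Commute w x := fun w hw =>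
      Subgroup.mem_centralizer_singleton_iff.1 ((sup_le
        (fun p hp => Subgroup.mem_centralizer_singleton_iff.2 (hP1X p hp x hx).eq)
        (Subgroup.zpowers_le.2 (Subgroup.mem_centralizer_singleton_iff.2 hgx.eq)) :
          P1 ⊔ Subgroup.zpowers g ≤ cen x) hw)
    have h := S.three_bound he hx hx1 (P.isPGroup'.to_le hle) hc
    rw [← hP1card] at h
    exact hgn ((Subgroup.eq_of_le_of_card_ge le_sup_left h).symm ▸
      Subgroup.mem_sup_right (Subgroup.mem_zpowers g))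
  obtain ⟨⟨z, hzP⟩, hzZ, hz1⟩ : ∃ z : (P : Subgroup G), z ∈ Subgroup.center _ ∧ z ≠ 1 := by
    haveI : Nontrivial (P : Subgroup G) := by
      rw [← Finite.one_lt_card_iff_nontrivial]
      exact lt_of_lt_of_le (Nat.one_lt_pow (by omega) (by norm_num)) hPbig
    haveI := P.isPGroup'.center_nontrivial
    obtain ⟨⟨w, hw⟩, hw1⟩ := exists_ne (1 : Subgroup.center (P : Subgroup G))
    exact ⟨w, hw, fun h => hw1 (Subtype.ext h)⟩
  have hz1' : z ≠ 1 := fun h => hz1 (Subtype.ext h)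
  have hzc : ∀ g ∈ (P : Subgroup G), Commute g z := fun g hg =>
    congrArg Subtype.val (Subgroup.mem_center_iff.1 hzZ ⟨g, hg⟩)
  have hzP1 : z ∈ P1 := hsmall hx₀ hx1 z hzP (hzc x₀ (hP (Subgroup.mem_sup_left (hXM hx₀)))).symm
  -- the central element lies in `M`
  have hzM : z ∈ M := by
    obtain ⟨m, hm, c, hc, hmc⟩ := hdec z (Subgroup.mem_centralizer_iff.2 fun x hx =>
      (hP1X z hzP1 x hx).eq.symm)
    have hcX : (c : G) ∈ X := by
      refine hnot c (fun m' hm' => ?_) hc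
      have e : (c : G) = m⁻¹ * z := by rw [hmc, inv_mul_cancel_left]
      have hz' := (hzc m' (hP (Subgroup.mem_sup_left hm'))).eq
      rw [e, show m⁻¹ * z * m' * (m⁻¹ * z)⁻¹ * m'⁻¹ = m⁻¹ * (z * m') * z⁻¹ * m * m'⁻¹ by group,
        ← hz', show m⁻¹ * (m' * z) * z⁻¹ * m * m'⁻¹ = m⁻¹ * m' * (m⁻¹)⁻¹ * m'⁻¹ by group]
      exact hMab _ (inv_mem hm) _ hm'
    exact hmc ▸ mul_mem hm (hXM hcX)
  by_cases hzX : z ∈ X
  · have h := hPbig.trans (S.three_bound he hzX hz1' P.isPGroup' hzc)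
    rw [Nat.pow_le_pow_iff_right (by norm_num)] at h
    omega
  -- `M` is abelian
  have hMcomm : ∀ m ∈ M, ∀ m' ∈ M, Commute m m' := by
    set Z : Subgroup G := X ⊔ Subgroup.zpowers z with hZ
    have hZM : Z ≤ M := sup_le hXM (Subgroup.zpowers_le.2 hzM)
    have hZc : ∀ w ∈ Z, ∀ m ∈ M, Commute m w := fun w hw m hm =>
      ((Subgroup.mem_centralizer_singleton_iff.1 ((sup_le
        (fun x hx => Subgroup.mem_centralizer_singleton_iff.2 (hXcentral m hm x hx).eq.symm)
        (Subgroup.zpowers_le.2 (Subgroup.mem_centralizer_singleton_iff.2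
          (hzc m (hP (Subgroup.mem_sup_left hm))).eq.symm)) : Z ≤ cen m) hw) : Commute w m)).symm
    intro m hm m' hm'
    by_cases hmZ : m ∈ Z
    · exact (hZc m hmZ m' hm').symm
    have hle : Z ⊔ Subgroup.zpowers m ≤ M := sup_le hZM (Subgroup.zpowers_le.2 hm)
    have hall : Z ⊔ Subgroup.zpowers m = M := by
      refine Subgroup.eq_of_le_of_card_ge hle ?_
      obtain ⟨i, hi⟩ := (hMp.to_le hle).exists_card_eq
      obtain ⟨j, hj⟩ := (hMp.to_le hZM).exists_card_eq
      have h1 : 3 ^ e < Nat.card Z := by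
        rw [← he]
        by_contra hcon
        exact hzX ((Subgroup.eq_of_le_of_card_ge (le_sup_left : X ≤ Z) (not_lt.1 hcon)).symm ▸
          Subgroup.mem_sup_right (Subgroup.mem_zpowers z))
      have h2 : Nat.card Z < Nat.card (Z ⊔ Subgroup.zpowers m : Subgroup G) := by
        by_contra hcon
        exact hmZ ((Subgroup.eq_of_le_of_card_ge (le_sup_left : Z ≤ Z ⊔ Subgroup.zpowers m)
          (not_lt.1 hcon)).symm ▸ Subgroup.mem_sup_right (Subgroup.mem_zpowers m))
      rw [hj] at h1 h2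
      rw [hi] at h2
      rw [hMcard, hi]
      rw [Nat.pow_lt_pow_iff_right (by norm_num)] at h1 h2
      exact Nat.pow_le_pow_right (by norm_num) (by omega)
    have hle2 : M ≤ cen m := hall.symm.trans_le (sup_le
      (fun w hw => Subgroup.mem_centralizer_singleton_iff.2 (hZc w hw m hm).eq.symm)
      (Subgroup.zpowers_le.2 (Subgroup.mem_centralizer_singleton_iff.2 rfl)))
    exact (Subgroup.mem_centralizer_singleton_iff.1 (hle2 hm') : Commute m' m).symm
  -- the inverted part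
  let I : Subgroup G :=
    { carrier := {i | i ∈ M ∧ t * i * t = i⁻¹}
      one_mem' := ⟨one_mem M, by rw [mul_one, S.tt, inv_one]⟩
      mul_mem' := fun {a b} ha hb => ⟨mul_mem ha.1 hb.1, by
        rw [invol_conj_mul S.tt, ha.2, hb.2, ← mul_inv_rev, (hMcomm a ha.1 b hb.1).eq]⟩
      inv_mem' := fun {a} ha => ⟨inv_mem ha.1, by rw [invol_conj_inv S.tt, ha.2]⟩ }
  have hIM : I ≤ M := fun i hi => hi.1
  have hIX : ∀ i ∈ I, i ∈ X → i = 1 := fun i hi hiX => by
    refine eq_one_of_sq (Ov_odd t) hiX (eq_inv_iff_mul_eq_one.1 ?_)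
    rw [← hi.2, ← (Ov_comm hiX).eq, mul_assoc, S.tt, mul_one]
  have hI3 : ∀ i ∈ I, i ^ 3 = 1 := by
    intro i hi
    have hcube : ∀ v : G, Nat.card (ax M v) = 3 → ∀ p ∈ ax M v, p ^ 3 = 1 := fun v hv p hp =>
      orderOf_dvd_iff_pow_eq_one.1 (hv ▸ (ax M v).orderOf_dvd_natCard hp)
    set j := u * i * u with hj
    have hjM : j ∈ M := huM i hi.1
    have hju : u * j * u = i := invol_conj_conj S.uu i
    have hjt : t * j * t = j⁻¹ := by
      calc t * (u * i * u) * t = (t * u) * i * (u * t) := by group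
        _ = (u * t) * i * (t * u) := by rw [S.comm]
        _ = u * (t * i * t) * u := by group
        _ = (u * i * u)⁻¹ := by rw [hi.2, invol_conj_inv S.uu]
    have hp : i * j ∈ ax M u := (mem_ax' S.uu).2 ⟨mul_mem hi.1 hjM, by
      rw [invol_conj_mul S.uu, ← hj, hju]; exact (hMcomm j hjM i hi.1).eq⟩
    have hq : i * j⁻¹ ∈ ax M (t * u) := (mem_ax' S.four.ww).2 ⟨mul_mem hi.1 (inv_mem hjM), by
      have e : ∀ x : G, t * u * x * (t * u) = t * (u * x * u) * t := fun x => by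
        rw [show t * u * x * (t * u) = t * u * x * (u * t) by rw [S.comm]]; group
      rw [e, invol_conj_mul S.uu, invol_conj_inv S.uu, ← hj, hju, invol_conj_mul S.tt,
        invol_conj_inv S.tt, hjt, hi.2, inv_inv]
      exact (hMcomm _ (inv_mem hjM) i hi.1).eq⟩
    have h1 := hcube u hk _ hp
    have h2 := hcube (t * u) (hkk.trans hk) _ hq
    have h6 : (i * i) ^ 3 = 1 := by
      have e : i * i = (i * j) * (i * j⁻¹) := by
        calc i * i = i * (j * j⁻¹ * i) := by group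
          _ = i * (j * (j⁻¹ * i)) := by group
          _ = i * (j * (i * j⁻¹)) := by rw [(hMcomm _ (inv_mem hjM) i hi.1).eq]
          _ = _ := by group
      rw [e, (hMcomm _ (mul_mem hi.1 hjM) _ (mul_mem hi.1 (inv_mem hjM))).mul_pow, h1, h2, one_mul]
    refine eq_one_of_sq hModd (pow_mem hi.1 3) ?_
    rw [← (Commute.refl i).mul_pow]; exact h6
  have hIcard : Nat.card I ≤ 9 := by
    have hdisj : I ⊓ X = ⊥ := (Subgroup.eq_bot_iff_forall _).2 fun i hi => hIX i hi.1 hi.2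
    have h := card_sup_mul (M := I) (B := X) (fun x hx => Subgroup.mem_normalizer_iff.2 fun i => by
      have key : ∀ i ∈ I, x * i * x⁻¹ = i := fun i hi => by
        rw [← (hXcentral i hi.1 x hx).eq, mul_inv_cancel_right]
      exact ⟨fun hi => by rwa [key i hi], fun hi => by
        have := key _ hi
        rwa [mul_left_cancel (mul_right_cancel this)] at hi⟩)
    rw [hdisj, Subgroup.card_bot, mul_one, he] at h
    have h2 := Subgroup.card_le_of_le (sup_le hIM hXM : I ⊔ X ≤ M)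
    rw [h, hMcard, pow_add, mul_comm (3 ^ e)] at h2
    exact Nat.le_of_mul_le_mul_right h2 (by positivity)
  -- split the central element
  set o := rt M (z * (t * z * t)) with ho
  have hzz : z * (t * z * t) ∈ M := mul_mem hzM (htM z hzM)
  have ho2 : o * o = z * (t * z * t) := rt_sq hModd hzz
  have hoM : o ∈ M := rt_mem hzz
  have hofix : t * o * t = o := by
    rw [ho, invol_conj_rt S.tt, invol_conj_mul S.tt, invol_conj_conj S.tt,
      (hMcomm _ (htM z hzM) z hzM).eq]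
  have hoX : o ∈ X := hMC.le ⟨hoM, Subgroup.mem_centralizer_singleton_iff.2
    ((invol_conj_eq_iff S.tt).1 hofix).symm⟩
  set a := z * o⁻¹ with ha
  have haI : a ∈ I := ⟨mul_mem hzM (inv_mem hoM), eq_inv_iff_mul_eq_one.2 (by
    rw [ha, invol_conj_mul S.tt, invol_conj_inv S.tt, hofix]
    have h1 : Commute (z * o⁻¹) z := hMcomm _ (mul_mem hzM (inv_mem hoM)) z hzM
    calc t * z * t * o⁻¹ * (z * o⁻¹) = (z * o⁻¹) * (t * z * t * o⁻¹) :=
          (hMcomm _ (mul_mem (htM z hzM) (inv_mem hoM)) _ (mul_mem hzM (inv_mem hoM))).eq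
      _ = z * (t * z * t) * (o⁻¹ * o⁻¹) := by
          rw [mul_assoc z, ← mul_assoc o⁻¹, (hMcomm _ (inv_mem hoM) _ (htM z hzM)).eq]; group
      _ = 1 := by rw [← ho2]; group)⟩
  have ha1 : a ≠ 1 := fun h => hzX (by rw [mul_inv_eq_one.1 h]; exact hoX)
  have ha3 : orderOf a = 3 := orderOf_eq_prime (hI3 a haI) ha1
  have hP1z : ∀ g ∈ P1, Commute g a := fun g hg =>
    (hzc g (hP hg)).mul_right ((hP1X g hg o hoX).inv_right)
  have hTI : ∀ σ ∈ T, ∀ i ∈ I, σ * i * σ⁻¹ ∈ I := by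
    intro σ hσ i hi
    refine ⟨hconjM (hTle hσ) i hi.1, ?_⟩
    have hσt : Commute σ t := Subgroup.mem_centralizer_singleton_iff.1 (hTle hσ)
    calc t * (σ * i * σ⁻¹) * t = (t * σ) * i * (σ⁻¹ * t) := by group
      _ = (σ * t) * i * (t * σ⁻¹) := by rw [hσt.eq, hσt.inv_left.eq]
      _ = σ * (t * i * t) * σ⁻¹ := by group
      _ = (σ * i * σ⁻¹)⁻¹ := by rw [hi.2]; group
  -- the fixed points of an element of `T` outside the core
  have hfix : ∀ σ ∈ T, σ ∉ X → ∀ i ∈ I, Commute σ i → i ∈ Subgroup.zpowers a := by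
    intro σ hσ hσX i hi hcomm
    by_contra hia
    set E : Subgroup G := I ⊓ cen σ with hE
    have hEI : E = I := by
      refine Subgroup.eq_of_le_of_card_ge inf_le_left (hIcard.trans ?_)
      have haE : a ∈ E := ⟨haI, Subgroup.mem_centralizer_singleton_iff.2
        (hP1z σ (Subgroup.mem_sup_right hσ)).eq.symm⟩
      have hiE : i ∈ E := ⟨hi, Subgroup.mem_centralizer_singleton_iff.2 hcomm.eq.symm⟩
      have hle : Subgroup.zpowers a ⊔ Subgroup.zpowers i ≤ E :=
        sup_le (Subgroup.zpowers_le.2 haE) (Subgroup.zpowers_le.2 hiE)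
      obtain ⟨j, hj⟩ := (hMp.to_le (inf_le_left.trans hIM : E ≤ M)).exists_card_eq
      have h1 : 3 < Nat.card E := by
        refine lt_of_lt_of_le ?_ (Subgroup.card_le_of_le hle)
        by_contra hcon
        refine hia ((Subgroup.eq_of_le_of_card_ge (le_sup_left :
          Subgroup.zpowers a ≤ Subgroup.zpowers a ⊔ Subgroup.zpowers i) ?_).symm ▸
            Subgroup.mem_sup_right (Subgroup.mem_zpowers i))
        rw [Nat.card_zpowers, ha3]; omega
      rw [hj] at h1 ⊢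
      have h2 : 1 < j := (Nat.pow_lt_pow_iff_right (a := 3) (m := j) (n := 1) (by norm_num)).1 (by rw [pow_one]; exact h1)
      exact le_trans (by norm_num : 9 ≤ 3 ^ 2) (Nat.pow_le_pow_right (by norm_num) h2)
    refine hσX (hnot ⟨σ, hTle hσ⟩ (fun m hm => ?_) (cube_det_check _ (S.ι_mem _)
      (S.cube_of_odd' (c := ⟨σ, hTle hσ⟩) (hTodd hσ))))
    -- write `m` as a fixed part and an inverted part
    set o' := rt M (m * (t * m * t)) with ho'
    have hmm : m * (t * m * t) ∈ M := mul_mem hm (htM m hm)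
    have ho'M : o' ∈ M := rt_mem hmm
    have ho'2 : o' * o' = m * (t * m * t) := rt_sq hModd hmm
    have ho'fix : t * o' * t = o' := by
      rw [ho', invol_conj_rt S.tt, invol_conj_mul S.tt, invol_conj_conj S.tt,
        (hMcomm _ (htM m hm) m hm).eq]
    have ho'X : o' ∈ X := hMC.le ⟨ho'M, Subgroup.mem_centralizer_singleton_iff.2
      ((invol_conj_eq_iff S.tt).1 ho'fix).symm⟩
    have hiI : m * o'⁻¹ ∈ I := ⟨mul_mem hm (inv_mem ho'M), eq_inv_iff_mul_eq_one.2 (by
      rw [invol_conj_mul S.tt, invol_conj_inv S.tt, ho'fix]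
      calc t * m * t * o'⁻¹ * (m * o'⁻¹) = (m * o'⁻¹) * (t * m * t * o'⁻¹) :=
            (hMcomm _ (mul_mem (htM m hm) (inv_mem ho'M)) _ (mul_mem hm (inv_mem ho'M))).eq
        _ = m * (t * m * t) * (o'⁻¹ * o'⁻¹) := by
            rw [mul_assoc m, ← mul_assoc o'⁻¹, (hMcomm _ (inv_mem ho'M) _ (htM m hm)).eq]; group
        _ = 1 := by rw [← ho'2]; group)⟩
    have h1 : Commute σ m := by
      have h2 : Commute σ (m * o'⁻¹) :=
        (Subgroup.mem_centralizer_singleton_iff.1 (hEI.symm ▸ hiI : m * o'⁻¹ ∈ E).2 :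
          Commute (m * o'⁻¹) σ).symm
      simpa using h2.mul_right (hTX σ hσ o' ho'X)
    show σ * m * σ⁻¹ * m⁻¹ ∈ X
    rw [h1.eq, mul_inv_cancel_right, mul_inv_cancel]
    exact one_mem X
  obtain ⟨s, hs, hsX⟩ : ∃ s ∈ T, s ∉ X := by
    by_contra hcon
    push Not at hcon
    have h := Subgroup.card_le_of_le (hcon : T ≤ X)
    rw [hTcard, he, Nat.pow_le_pow_iff_right (by norm_num)] at h
    omega
  have hscube : s ^ 3 ∈ X := by
    refine (S.ι_one_iff (c := (⟨s, hTle hs⟩ : cen t) ^ 3)).1 ?_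
    rw [show S.ι ((⟨s, hTle hs⟩ : cen t) ^ 3) = pw (S.ι ⟨s, hTle hs⟩) 3 from im_pow _ _ _ _]
    exact S.cube_of_odd' (c := ⟨s, hTle hs⟩) (hTodd hs)
  by_cases ho1 : o = 1
  · -- the central element is inverted
    have haz : a = z := by rw [ha, ho1, inv_one, mul_one]
    obtain ⟨b, hb, hbM⟩ : ∃ h ∈ cen t, h⁻¹ * a * h ∈ ax M u := by
      have hs3 := S.cube_of_odd' (c := ⟨s, hTle hs⟩) (hTodd hs)
      have hs1 : S.ι ⟨s, hTle hs⟩ ≠ one := fun h => hsX (S.ι_one_iff.1 h)
      obtain ⟨xv, hxU, x1, x2, x3, x4, x5, x6, x7⟩ := flip_check _ (S.ι_mem _) hs3 hs1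
      obtain ⟨x, rfl⟩ := im_surj (Cfsg.oddCore (cen t)) S.iso hxU
      have hx := S.refl_lift (c := x) x1 x2 x3
      have hneg : S.ι (tc * x) = mul negOne (S.ι x) := by
        rw [S.ι_mul, show S.ι tc = negOne from im_tc S.ht _ (core_odd t) S.iso]
      have hx' := S.refl_lift (c := tc * x) (by rw [hneg]; exact x5) (by rw [hneg]; exact x6)
        (by rw [hneg]; exact x7)
      set sc : cen t := ⟨s, hTle hs⟩ with hsc
      set d : G := s * ((x * sc * x⁻¹ : cen t) : G) with hd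
      have hdX : d ∈ X := by
        refine (S.ι_one_iff (c := sc * (x * sc * x⁻¹))).1 ?_
        have e1 : S.ι (x * sc) = S.ι (sc⁻¹ * x) := by
          rw [S.ι_mul, S.ι_mul]
          refine x4.trans (congrArg (fun v => mul v _) ?_)
          exact ((congrArg _ (map_inv _ sc)).trans (co'_inv _ _)).symm
        rw [show x * sc * x⁻¹ = (x * sc) * x⁻¹ from rfl, S.ι_mul, S.ι_mul, e1, ← S.ι_mul, ← S.ι_mul,
          show sc * (sc⁻¹ * x * x⁻¹) = 1 by group]
        exact im_one _ _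
      have hxi : (x : G)⁻¹ = x := inv_eq_of_mul_eq_one_right hx.1
      have hxt : Commute (x : G) t := Subgroup.mem_centralizer_singleton_iff.1 x.2
      set a' : G := (x : G) * a * x with ha'
      have ha'I : a' ∈ I := by
        refine ⟨?_, ?_⟩
        · have := hconjM x.2 a haI.1
          rwa [hxi] at this
        · calc t * ((x : G) * a * x) * t = (t * x) * a * (x * t) := by group
            _ = (x * t) * a * (t * x) := by rw [hxt.eq]
            _ = (x : G) * (t * a * t) * x := by group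
            _ = a'⁻¹ := by rw [haI.2, ha', invol_conj_inv hx.1]
      have hsa' : Commute s a' := by
        have h1 : Commute ((x : G) * s * x) a' := by
          have h := (hP1z s (Subgroup.mem_sup_right hs)).map (MulAut.conj (x : G)).toMonoidHom
          simp only [MulEquiv.coe_toMonoidHom, MulAut.conj_apply, hxi] at h
          exact h
        have h2 : s = d * ((x : G) * s * x)⁻¹ := by
          rw [hd]
          simp only [hsc, Subgroup.coe_mul, Subgroup.coe_inv, hxi]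
          group
        rw [h2]
        exact ((hXcentral a' ha'I.1 d hdX).symm).mul_left h1.inv_left
      obtain ⟨j, hj⟩ := Subgroup.mem_zpowers_iff.1 (hfix s hs hsX a' ha'I hsa')
      have hcases : a' = a ∨ a' = a⁻¹ := by
        have hmod : a ^ j = a ^ (j % 3) := by
          rw [← zpow_mod_orderOf a j, ha3]; rfl
        rw [← hj, hmod]
        have h3 : j % 3 = 0 ∨ j % 3 = 1 ∨ j % 3 = 2 := by omega
        rcases h3 with h | h | h <;> rw [h]
        · exfalso
          rw [h] at hmod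
          rw [zpow_zero] at hmod
          have : a' = 1 := hj.symm.trans hmod
          exact ha1 (invol_conj_eq_one hx.1 this)
        · exact Or.inl (zpow_one a)
        · exact Or.inr (eq_inv_iff_mul_eq_one.2 (by
            rw [show (2 : ℤ) = ((2 : ℕ) : ℤ) by rfl, zpow_natCast, ← pow_succ]; exact hI3 a haI))
      rcases hcases with h | h
      · obtain ⟨g, hg, hgu⟩ := hx.2.2
        refine ⟨g, hg, (mem_ax' S.uu).2 ⟨by simpa using hconjM (inv_mem hg) a haI.1, ?_⟩⟩
        have eu : u = g⁻¹ * x * g := by rw [← hgu]; group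
        calc u * (g⁻¹ * a * g) * u = g⁻¹ * ((x : G) * a * x) * g := by rw [eu]; group
          _ = g⁻¹ * a * g := by rw [← ha', h]
      · obtain ⟨g, hg, hgu⟩ := hx'.2.2
        refine ⟨g, hg, (mem_ax' S.uu).2 ⟨by simpa using hconjM (inv_mem hg) a haI.1, ?_⟩⟩
        have eu : u = g⁻¹ * (t * x) * g := by
          rw [show t * (x : G) = ((tc * x : cen t) : G) from rfl, ← hgu]; group
        calc u * (g⁻¹ * a * g) * u = g⁻¹ * (t * ((x : G) * a * (t * x))) * g := by rw [eu]; group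
          _ = g⁻¹ * (t * ((x : G) * a * x) * t) * g := by rw [← hxt.eq]; group
          _ = g⁻¹ * a * g := by rw [← ha', h, invol_conj_inv S.tt, haI.2, inv_inv]
    set y := b⁻¹ * a * b with hy
    have hy1 : y ≠ 1 := fun h => ha1 (by
      rw [show a = b * y * b⁻¹ by rw [hy]; group, h]; group)
    have hyM : y ∈ M := ax_le _ _ hbM
    have hyX : ∀ x ∈ X, Commute y x := fun x hx => hXcentral y hyM x hx
    have hyu : Commute y u := ((mem_ax.1 hbM).2).symm
    have hty : t * y * t = y⁻¹ := hF.swap.inverts hbM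
    have hne : (⟨y, Subgroup.mem_centralizer_singleton_iff.2 hyu.eq⟩ : cen u) ∉
        (Cfsg.oddCore (cen u) : Subgroup (cen u)) := fun h =>
      S.no_commute hx₀ (show y ∈ Ov u from ⟨_, h, rfl⟩) hx1 hy1 (hyX x₀ hx₀).eq.symm
    have hbound := S.cent_bound hy1 (hodd_of hyM) hyu hty hne hyX
    have hPy : Nat.card (P : Subgroup G) ≤ Nat.card (cen y) :=
      Nat.card_le_card_of_injective
        (fun g : (P : Subgroup G) => (⟨b⁻¹ * g * b, Subgroup.mem_centralizer_singleton_iff.2 (by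
          have h : Commute (g : G) a := haz.symm ▸ hzc g g.2
          rw [hy]
          calc b⁻¹ * g * b * (b⁻¹ * a * b) = b⁻¹ * ((g : G) * a) * b := by group
            _ = b⁻¹ * a * b * (b⁻¹ * g * b) := by rw [h.eq]; group)⟩ : cen y))
        fun g g' h => Subtype.ext (by simpa using congrArg Subtype.val h)
    have h := (hPbig.trans hPy).trans hbound
    rw [he] at h
    have he' : e = 1 := by
      by_contra hne'
      have h81 : 54 * (3 ^ e) ^ 2 < 3 ^ (3 * e + 2) := by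
        rw [← pow_mul, show 3 * e + 2 = (e * 2) + (e + 2) by omega, pow_add, mul_comm 54]
        refine Nat.mul_lt_mul_of_pos_left ?_ (by positivity)
        exact lt_of_lt_of_le (by norm_num : 54 < 3 ^ 4) (Nat.pow_le_pow_right (by norm_num) (by omega))
      omega
    subst he'
    rcases S.card_group h32 with hg | hg <;> rw [he] at hg
    · have hd : 3 ^ 6 ∣ Nat.card G := by rw [hg]; norm_num
      have h' := ((Nat.le_of_dvd Nat.card_pos (P.pow_dvd_card_of_pow_dvd_card hd)).trans hPy).trans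
        hbound
      rw [he] at h'
      norm_num at h'
    · refine no_group_213840 (by rw [hg]; norm_num) fun v hv => ?_
      obtain ⟨g, hg'⟩ := isConj_iff.1 (S.oneClass v hv)
      have hmap : (cen t).map (MulAut.conj g).toMonoidHom = cen v := by
        rw [map_cen, MulAut.conj_apply, hg']
      rw [show Subgroup.centralizer ({v} : Set G) = cen v from rfl, ← hmap,
        Subgroup.card_map_of_injective (MulAut.conj g).injective, S.card_cen, he]
      norm_num
  -- otherwise the Sylow subgroup is too small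
  have hdiff : ∀ σ ∈ T, ∀ i ∈ I, σ * i * σ⁻¹ * i⁻¹ ∈ Subgroup.zpowers a := by
    intro σ hσ i hi
    by_cases hσX : σ ∈ X
    · rw [(hXcentral i hi.1 σ hσX).symm.eq, mul_inv_cancel_right, mul_inv_cancel]
      exact one_mem _
    have hac : ∀ k ∈ I, Commute a k := fun k hk => hMcomm a haI.1 k hk.1
    let f : I →* I :=
      { toFun := fun k => ⟨σ * k * σ⁻¹ * (k : G)⁻¹, mul_mem (hTI σ hσ k k.2) (inv_mem k.2)⟩
        map_one' := Subtype.ext (by simp)
        map_mul' := fun k l => Subtype.ext (by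
          have h1 := (hMcomm _ (mul_mem (hconjM (hTle hσ) (l : G) l.2.1) (inv_mem l.2.1)) _
            (inv_mem k.2.1)).eq
          show σ * ((k : G) * l) * σ⁻¹ * ((k : G) * l)⁻¹ =
            σ * k * σ⁻¹ * (k : G)⁻¹ * (σ * l * σ⁻¹ * (l : G)⁻¹)
          calc σ * ((k : G) * l) * σ⁻¹ * ((k : G) * l)⁻¹
              = σ * k * σ⁻¹ * ((σ * l * σ⁻¹ * (l : G)⁻¹) * (k : G)⁻¹) := by group
            _ = _ := by rw [h1, ← mul_assoc]) }
    set r : G := σ * i * σ⁻¹ * i⁻¹ with hr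
    have hrI : r ∈ I := mul_mem (hTI σ hσ i hi) (inv_mem hi)
    refine hfix σ hσ hσX r hrI (fix_of_odd (hI3 r hrI) (hTodd hσ) ?_)
    -- the image of `f` has order at most three
    have hker : 3 ≤ Nat.card f.ker := by
      refine le_of_eq_of_le ha3.symm (Nat.le_of_dvd Nat.card_pos ?_)
      have hmem : (⟨a, haI⟩ : I) ∈ f.ker := Subtype.ext (by
        show σ * a * σ⁻¹ * a⁻¹ = 1
        rw [(hP1z σ (Subgroup.mem_sup_right hσ)).eq, mul_inv_cancel_right, mul_inv_cancel])
      have := f.ker.orderOf_dvd_natCard hmem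
      rwa [Subgroup.orderOf_mk] at this
    have hrange : Nat.card f.range ≤ 3 := by
      have h := Subgroup.card_mul_index f.ker
      rw [Subgroup.index_ker] at h
      nlinarith
    by_cases hr1 : r = 1
    · rw [hr1]; simp
    have hmemr : (⟨r, hrI⟩ : I) ∈ f.range := ⟨⟨i, hi⟩, rfl⟩
    have hle : Subgroup.zpowers (⟨r, hrI⟩ : I) ≤ f.range := Subgroup.zpowers_le.2 hmemr
    have hrr := Subgroup.eq_of_le_of_card_ge hle (by
      rw [Nat.card_zpowers, Subgroup.orderOf_mk, orderOf_eq_prime (hI3 r hrI) hr1]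
      exact hrange)
    have hin : (⟨σ * r * σ⁻¹, hTI σ hσ r hrI⟩ : I) ∈ f.range := by
      refine ⟨⟨σ * i * σ⁻¹, hTI σ hσ i hi⟩, Subtype.ext ?_⟩
      show σ * (σ * i * σ⁻¹) * σ⁻¹ * (σ * i * σ⁻¹)⁻¹ = σ * r * σ⁻¹
      rw [hr]; group
    rw [← hrr] at hin
    obtain ⟨j, hj⟩ := Subgroup.mem_zpowers_iff.1 hin
    exact ⟨j, by simpa using congrArg Subtype.val hj⟩
  have hdiffM : ∀ σ ∈ T, ∀ m ∈ M, σ * m * σ⁻¹ * m⁻¹ ∈ Subgroup.zpowers a := by
    intro σ hσ m hm
    set o' := rt M (m * (t * m * t)) with ho'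
    have hmm : m * (t * m * t) ∈ M := mul_mem hm (htM m hm)
    have ho'M : o' ∈ M := rt_mem hmm
    have ho'2 : o' * o' = m * (t * m * t) := rt_sq hModd hmm
    have ho'fix : t * o' * t = o' := by
      rw [ho', invol_conj_rt S.tt, invol_conj_mul S.tt, invol_conj_conj S.tt,
        (hMcomm _ (htM m hm) m hm).eq]
    have ho'X : o' ∈ X := hMC.le ⟨ho'M, Subgroup.mem_centralizer_singleton_iff.2
      ((invol_conj_eq_iff S.tt).1 ho'fix).symm⟩
    have hiI : m * o'⁻¹ ∈ I := ⟨mul_mem hm (inv_mem ho'M), eq_inv_iff_mul_eq_one.2 (by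
      rw [invol_conj_mul S.tt, invol_conj_inv S.tt, ho'fix]
      calc t * m * t * o'⁻¹ * (m * o'⁻¹) = (m * o'⁻¹) * (t * m * t * o'⁻¹) :=
            (hMcomm _ (mul_mem (htM m hm) (inv_mem ho'M)) _ (mul_mem hm (inv_mem ho'M))).eq
        _ = m * (t * m * t) * (o'⁻¹ * o'⁻¹) := by
            rw [mul_assoc m, ← mul_assoc o'⁻¹, (hMcomm _ (inv_mem ho'M) _ (htM m hm)).eq]; group
        _ = 1 := by rw [← ho'2]; group)⟩
    have h := hdiff σ hσ _ hiI
    have hc := (hTX σ hσ o' ho'X).inv_right.eq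
    rwa [show σ * (m * o'⁻¹) * σ⁻¹ * (m * o'⁻¹)⁻¹ = σ * m * (o'⁻¹ * σ⁻¹) * (o' * m⁻¹) by group,
      show o'⁻¹ * σ⁻¹ = σ⁻¹ * o'⁻¹ from ((hTX σ hσ o' ho'X).inv_left.inv_right.eq).symm,
      show σ * m * (σ⁻¹ * o'⁻¹) * (o' * m⁻¹) = σ * m * σ⁻¹ * m⁻¹ by group] at h
  -- `T` is abelian
  have hTcomm : ∀ σ ∈ T, ∀ σ' ∈ T, Commute σ σ' := by
    have hgen : X ⊔ Subgroup.zpowers s = T := by
      refine Subgroup.eq_of_le_of_card_ge (sup_le hXT (Subgroup.zpowers_le.2 hs)) ?_
      obtain ⟨i, hi⟩ := (hTp.to_le (sup_le hXT (Subgroup.zpowers_le.2 hs))).exists_card_eq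
      have h : Nat.card X < Nat.card (X ⊔ Subgroup.zpowers s : Subgroup G) := by
        by_contra hcon
        exact hsX ((Subgroup.eq_of_le_of_card_ge (le_sup_left : X ≤ X ⊔ Subgroup.zpowers s)
          (not_lt.1 hcon)).symm ▸ Subgroup.mem_sup_right (Subgroup.mem_zpowers s))
      rw [he, hi, Nat.pow_lt_pow_iff_right (by norm_num)] at h
      rw [hTcard, hi]
      exact Nat.pow_le_pow_right (by norm_num) h
    intro σ hσ σ' hσ'
    have h1 : ∀ g ∈ T, Commute g s := fun g hg =>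
      Subgroup.mem_centralizer_singleton_iff.1 ((hgen.symm.trans_le (sup_le
        (fun x hx => Subgroup.mem_centralizer_singleton_iff.2 (hTX s hs x hx).eq.symm)
        (Subgroup.zpowers_le.2 (Subgroup.mem_centralizer_singleton_iff.2 rfl))) : T ≤ cen s) hg)
    exact (Subgroup.mem_centralizer_singleton_iff.1 ((hgen.symm.trans_le (sup_le
        (fun x hx => Subgroup.mem_centralizer_singleton_iff.2 (hTX σ hσ x hx).eq.symm)
        (Subgroup.zpowers_le.2 (Subgroup.mem_centralizer_singleton_iff.2 (h1 σ hσ).eq.symm))) :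
          T ≤ cen σ) hσ') : Commute σ' σ).symm
  -- commutators of `P1` lie in `⟨a⟩`
  have hcommP1 : ∀ x ∈ P1, ∀ y ∈ P1, x * y * x⁻¹ * y⁻¹ ∈ Subgroup.zpowers a := by
    intro x hx y hy
    have hdecP : ∀ g ∈ P1, ∃ m ∈ M, ∃ σ ∈ T, g = m * σ := by
      intro g hg
      have h : g ∈ (↑(M ⊔ T) : Set G) := hg
      rw [Subgroup.coe_mul_of_right_le_normalizer_left _ _ hTN] at h
      obtain ⟨m, hm, σ, hσ, rfl⟩ := h
      exact ⟨m, hm, σ, hσ, rfl⟩
    obtain ⟨m, hm, σ, hσ, rfl⟩ := hdecP x hx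
    obtain ⟨m', hm', σ', hσ', rfl⟩ := hdecP y hy
    set c₁ := σ * m' * σ⁻¹ * m'⁻¹ with hc₁
    set c₂ := σ' * m * σ'⁻¹ * m⁻¹ with hc₂
    have h1 := hdiffM σ hσ m' hm'
    have h2 := hdiffM σ' hσ' m hm
    have hcM : ∀ c ∈ Subgroup.zpowers a, c ∈ M := fun c hc =>
      (Subgroup.zpowers_le.2 haI.1 : Subgroup.zpowers a ≤ M) hc
    have e1 : m * σ * (m' * σ') = m * (c₁ * m') * (σ * σ') := by rw [hc₁]; group
    have e2 : m' * σ' * (m * σ) = m' * (c₂ * m) * (σ' * σ) := by rw [hc₂]; group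
    have e3 : m * (c₁ * m') * (m' * (c₂ * m))⁻¹ = c₁ * c₂⁻¹ := by
      calc m * (c₁ * m') * (m' * (c₂ * m))⁻¹ = m * c₁ * (m' * m⁻¹) * c₂⁻¹ * m'⁻¹ := by group
        _ = c₁ * m * (m⁻¹ * m') * c₂⁻¹ * m'⁻¹ := by
          rw [(hMcomm m hm c₁ (hcM _ h1)).eq, (hMcomm m' hm' m⁻¹ (inv_mem hm)).eq]
        _ = c₁ * (m' * c₂⁻¹) * m'⁻¹ := by group
        _ = c₁ * c₂⁻¹ := by
          rw [(hMcomm m' hm' c₂⁻¹ (inv_mem (hcM _ h2))).eq]; group
    rw [show m * σ * (m' * σ') * (m * σ)⁻¹ * (m' * σ')⁻¹ =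
      (m * σ * (m' * σ')) * (m' * σ' * (m * σ))⁻¹ by group, e1, e2, (hTcomm σ hσ σ' hσ').eq,
      show m * (c₁ * m') * (σ' * σ) * (m' * (c₂ * m) * (σ' * σ))⁻¹ =
        m * (c₁ * m') * (m' * (c₂ * m))⁻¹ by group, e3]
    exact mul_mem h1 (inv_mem h2)
  obtain ⟨i, hi, hne⟩ : ∃ i ∈ I, i ∉ Subgroup.zpowers a := by
    by_contra hcon
    push Not at hcon
    -- both axes lie in the inverted part
    have hu1 : ax M u ≤ Subgroup.zpowers a := fun i hi =>
      hcon i ⟨ax_le _ _ hi, hF.swap.inverts hi⟩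
    have hw1 : ax M (t * u) ≤ Subgroup.zpowers a := fun i hi =>
      hcon i ⟨ax_le _ _ hi, hF.swap'.swap.inverts hi⟩
    have e1 := Subgroup.eq_of_le_of_card_ge hu1 (by rw [Nat.card_zpowers, ha3, hk])
    have e2 := Subgroup.eq_of_le_of_card_ge hw1 (by rw [Nat.card_zpowers, ha3, hkk, hk])
    have h1 : u * a₁ * u = a₁ := ((mem_ax' S.uu).1 ha₁).2
    have h2 : u * a₁ * u = a₁⁻¹ := by
      have := hF.swap'.swap
      exact hF.rot.rot.swap'.inverts (e2.symm ▸ e1 ▸ ha₁)
    exact ha₁1 (eq_one_of_sq hModd (ax_le _ _ ha₁) (eq_inv_iff_mul_eq_one.1 (h1.symm.trans h2)))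
  set r := s * i * s⁻¹ * i⁻¹ with hr
  have hrne : r ≠ 1 := fun h => hne (hfix s hs hsX i hi
    (mul_inv_eq_iff_eq_mul.1 (mul_inv_eq_one.1 h)))
  have hra : Subgroup.zpowers r = Subgroup.zpowers a := by
    refine Subgroup.eq_of_le_of_card_ge (Subgroup.zpowers_le.2 (hdiff s hs i hi)) ?_
    rw [Nat.card_zpowers, Nat.card_zpowers, ha3,
      orderOf_eq_prime (hI3 r (mul_mem (hTI s hs i hi) (inv_mem hi))) hrne]
  obtain ⟨g, hgP, hgn, hgN⟩ := exists_norm_not_mem P.isPGroup' hP (fun h => by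
    rw [← h, hP1card, Nat.pow_le_pow_iff_right (by norm_num)] at hPbig
    omega)
  have hga : g * a * g⁻¹ ∈ Subgroup.zpowers a := by
    have h1 : g * r * g⁻¹ ∈ Subgroup.zpowers a := by
      rw [show g * r * g⁻¹ = (g * s * g⁻¹) * (g * i * g⁻¹) * (g * s * g⁻¹)⁻¹ * (g * i * g⁻¹)⁻¹ by
        rw [hr]; group]
      exact hcommP1 _ ((Subgroup.mem_normalizer_iff.1 hgN s).1 (Subgroup.mem_sup_right hs)) _
        ((Subgroup.mem_normalizer_iff.1 hgN i).1 (Subgroup.mem_sup_left hi.1))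
    obtain ⟨j, hj⟩ := Subgroup.mem_zpowers_iff.1 (hra.symm ▸ Subgroup.mem_zpowers a :
      a ∈ Subgroup.zpowers r)
    rw [show g * a * g⁻¹ = (g * r * g⁻¹) ^ j by rw [conj_zpow, hj]]
    exact zpow_mem h1 j
  have hgza : Commute g a := fix_of_odd (hI3 a haI) (by
    obtain ⟨j, hj⟩ := IsPGroup.iff_orderOf.1 P.isPGroup' ⟨g, hgP⟩
    rw [Subgroup.orderOf_mk] at hj
    rw [hj]
    exact Odd.pow ⟨1, rfl⟩) hga
  refine hgn (hsmall hoX ho1 g hgP ?_)
  have e : o = a⁻¹ * z := by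
    rw [ha, mul_inv_rev, inv_inv, mul_assoc, inv_mul_cancel, mul_one]
  rw [e]
  exact hgza.inv_right.mul_right (hzc g hgP)

/-- The conclusion of the local analysis. -/
theorem main (h32 : ¬ 32 ∣ Nat.card G) :
    Ov t = ⊥ ∧ (Nat.card G = 5616 ∨ Nat.card G = 7920) := by
  obtain ⟨e, he⟩ := S.core_three h32
  rcases eq_or_ne e 0 with rfl | he0
  · rw [pow_zero] at he
    refine ⟨Subgroup.card_eq_one.1 he, ?_⟩
    simpa [he] using S.card_group h32
  · exact (S.no_core h32 he he0).elim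

end Full

end Cfsg.Agent.SubThree
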