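import Cfsg.Agent.Lib.SubThree.Prim
import Cfsg.Agent.Lib.SubThree.Goal
import Cfsg.Agent.Lib.SubThree.SylowTools
import Cfsg.Agent.Lib.SubThree.SDThree
import Cfsg.Agent.Lib.SubThree.PSLFacts
import Cfsg.Agent.Lib.SubThree.AutSmall
import Cfsg.Agent.Lib.TwoGroups.QuasiDihedral
import Cfsg.Agent.S1213

/-!
The dihedral stabiliser of order twelve.
-/

set_option autoImplicit false
set_option linter.style.haveILetI false
set_option linter.unusedSectionVars false

namespace Cfsg.Agent.SubThree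

open Subgroup

universe u

theorem dihedral_six_facts :
    ((DihedralGroup.r 3 : DihedralGroup 6) ^ 2 = 1 ∧ DihedralGroup.r 3 ≠ (1 : DihedralGroup 6)) ∧
    ((DihedralGroup.r 2 : DihedralGroup 6) ^ 3 = 1 ∧ DihedralGroup.r 2 ≠ (1 : DihedralGroup 6)) ∧
    ((DihedralGroup.sr 0 : DihedralGroup 6) ^ 2 = 1 ∧ DihedralGroup.sr 0 ≠ (1 : DihedralGroup 6) ∧
      DihedralGroup.sr 0 ≠ (DihedralGroup.r 3 : DihedralGroup 6)) ∧
    (∀ a : DihedralGroup 6, a * DihedralGroup.r 3 = DihedralGroup.r 3 * a) ∧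
    (∀ a : DihedralGroup 6, a * a = 1 → a = 1 ∨ a = DihedralGroup.r 3 ∨
      a * DihedralGroup.r 2 * a⁻¹ = (DihedralGroup.r 2)⁻¹) ∧
    (∀ a : DihedralGroup 6, a * DihedralGroup.r 2 * a⁻¹ = DihedralGroup.r 2 ∨
      a * DihedralGroup.r 2 * a⁻¹ = (DihedralGroup.r 2)⁻¹) ∧
    (∀ a : DihedralGroup 6, a ^ 4 = 1 → a * a = 1) := by decide +kernel

variable {G : Type u} [Group G] [Finite G] {A : Subgroup G}

theorem map_centralizer_singleton_equiv {H : Type*} [Group H] (e : G ≃* H) (v : G) :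
    (centralizer ({v} : Set G)).map e.toMonoidHom = centralizer {e v} := by
  ext x
  rw [Subgroup.mem_map_equiv, mem_centralizer_singleton_iff, mem_centralizer_singleton_iff, ← e.injective.eq_iff, map_mul,
    map_mul, MulEquiv.apply_symm_apply]

/-- The data of a dihedral group of order twelve. -/
structure Twelve (A : Subgroup G) (z x : G) : Prop where
  card : Nat.card A = 12
  hz : z ∈ A
  hx : x ∈ A
  hzo : orderOf z = 2
  hxo : orderOf x = 3
  central : ∀ a ∈ A, a * z = z * a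
  invol : ∀ a ∈ A, a * a = 1 → a = 1 ∨ a = z ∨ a * x * a⁻¹ = x⁻¹
  normX : A ≤ normalizer (zpowers x : Set G)
  four : ∀ a ∈ A, a ^ 4 = 1 → a * a = 1
  noncentral : ∃ y ∈ A, y * y = 1 ∧ y ≠ 1 ∧ y ≠ z

theorem twelve_of_iso (e : A ≃* DihedralGroup 6) : ∃ z x : G, Twelve A z x := by
  obtain ⟨⟨hz2, hz1⟩, ⟨hx3, hx1⟩, ⟨hy2, hy1, hyz⟩, hc, hi, hn, hf⟩ := dihedral_six_facts
  haveI : Fact (Nat.Prime 2) := ⟨Nat.prime_two⟩
  haveI : Fact (Nat.Prime 3) := ⟨Nat.prime_three⟩
  let f : DihedralGroup 6 →* G := A.subtype.comp e.symm.toMonoidHom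
  have hf1 : Function.Injective f := A.subtype_injective.comp e.symm.injective
  have hfA : ∀ b, f b ∈ A := fun b => (e.symm b).2
  have hsurj : ∀ a ∈ A, ∃ b, f b = a := fun a ha => ⟨e ⟨a, ha⟩, by
    simp [f]⟩
  refine ⟨f (DihedralGroup.r 3), f (DihedralGroup.r 2), ?_, hfA _, hfA _, ?_, ?_, fun a ha => ?_,
    fun a ha h => ?_, fun a ha => ?_, fun a ha h => ?_,
    ⟨f (DihedralGroup.sr 0), hfA _, ?_, ?_, ?_⟩⟩
  · rw [Nat.card_congr e.toEquiv, DihedralGroup.nat_card]
  · rw [orderOf_injective f hf1]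
    exact orderOf_eq_prime hz2 hz1
  · rw [orderOf_injective f hf1]
    exact orderOf_eq_prime hx3 hx1
  · obtain ⟨b, rfl⟩ := hsurj a ha
    rw [← map_mul, ← map_mul, hc]
  · obtain ⟨b, rfl⟩ := hsurj a ha
    rw [← map_mul, map_eq_one_iff f hf1] at h
    rcases hi b h with h1 | h1 | h1
    · exact Or.inl (by rw [h1, map_one])
    · exact Or.inr (Or.inl (by rw [h1]))
    · exact Or.inr (Or.inr (by rw [← map_inv, ← map_inv, ← map_mul, ← map_mul, h1]))
  · obtain ⟨b, rfl⟩ := hsurj a ha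
    refine mem_normalizer_of fun y hy => ?_
    obtain ⟨i, rfl⟩ := mem_zpowers_iff.1 hy
    rw [← _root_.conj_zpow, ← map_inv, ← map_mul, ← map_mul]
    rcases hn b with h | h <;> rw [h]
    · exact zpow_mem (mem_zpowers _) i
    · rw [map_inv]
      exact zpow_mem (inv_mem (mem_zpowers _)) i
  · obtain ⟨b, rfl⟩ := hsurj a ha
    rw [← map_pow, map_eq_one_iff f hf1] at h
    rw [← map_mul, hf b h, map_one]
  · rw [← map_mul, ← pow_two, hy2, map_one]
  · exact fun h => hy1 (hf1 (h.trans (map_one f).symm))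
  · exact fun h => hyz (hf1 h)

namespace Twelve

variable {z x : G} (W : Twelve A z x) (P : Prim A)
include W P

theorem cent : centralizer ({z} : Set G) = A :=
  P.cent_eq W.hz (fun e => by have := W.hzo; rw [e, orderOf_one] at this; omega) W.central

/-- The Sylow subgroups of a normal subgroup contribute a noncentral involution. -/
theorem normal_meet {N : Subgroup G} [N.Normal] (h : N ≠ ⊥) :
    x ∈ N ∧ ∃ w ∈ N, w ∈ A ∧ w * w = 1 ∧ w ≠ 1 ∧ w ≠ z := by
  classical
  haveI : Fact (Nat.Prime 2) := ⟨Nat.prime_two⟩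
  have hzz : z * z = 1 := by rw [← pow_two, ← W.hzo, pow_orderOf_eq_one]
  suffices key : ∃ w ∈ N, w ∈ A ∧ w * w = 1 ∧ w ≠ 1 ∧ w ≠ z by
    obtain ⟨w, hwN, hwA, hww, hw1, hwz⟩ := key
    refine ⟨?_, w, hwN, hwA, hww, hw1, hwz⟩
    have hinv := ((W.invol w hwA hww).resolve_left hw1).resolve_left hwz
    have h1 : x * w * x⁻¹ * w⁻¹ ∈ N :=
      mul_mem ((inferInstance : N.Normal).conj_mem w hwN x) (inv_mem hwN)
    have h2 : x * w * x⁻¹ * w⁻¹ = x * x := by
      calc x * w * x⁻¹ * w⁻¹ = x * (w * x * w⁻¹)⁻¹ := by group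
        _ = x * x := by rw [hinv, inv_inv]
    rw [h2] at h1
    have hx3 : x = (x * x) * (x * x) := by
      have := pow_orderOf_eq_one x
      rw [W.hxo, pow_succ, pow_two] at this
      calc x = (x * x * x) * x := by rw [this, one_mul]
        _ = _ := by group
    rw [hx3]
    exact mul_mem h1 h1
  by_contra hno
  push Not at hno
  obtain ⟨T, hT⟩ := (IsPGroup.of_card (n := 1) (by rw [Nat.card_zpowers, W.hzo, pow_one]) :
    IsPGroup 2 (zpowers z)).exists_le_sylow
  have hzT : z ∈ (T : Subgroup G) := hT (mem_zpowers z)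
  obtain ⟨S, hS⟩ := MinNonCA.sylow_inf_normal T N
  have hmem : ∀ q : N, q ∈ (S : Subgroup N) ↔ (q : G) ∈ (T : Subgroup G) := fun q => by
    rw [hS, mem_subgroupOf]
  -- the fixed points of `z` in the Sylow subgroup are `1` and `z`
  have hfix : ∀ q : G, q ∈ (T : Subgroup G) → q ∈ N → q * z = z * q → q = 1 ∨ q = z := by
    intro q hqT hqN hq
    have hqA : q ∈ A := W.cent P ▸ mem_cent_singleton.2 hq
    have h4 : q ^ 4 = 1 := by
      obtain ⟨k, hk⟩ := T.isPGroup' ⟨q, hqT⟩
      have hk' : q ^ 2 ^ k = 1 := congrArg Subtype.val hk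
      obtain ⟨j, hj, hjo⟩ := (Nat.dvd_prime_pow Nat.prime_two).1 (orderOf_dvd_of_pow_eq_one hk')
      have h12 : 2 ^ j ∣ 12 := by
        rw [← hjo, ← W.card]
        exact Subgroup.orderOf_dvd_natCard A hqA
      refine orderOf_dvd_iff_pow_eq_one.1 (hjo ▸ ?_)
      have : j ≤ 2 := by
        by_contra hj2
        have : 2 ^ 3 ∣ 12 := (pow_dvd_pow 2 (by omega : 3 ≤ j)).trans h12
        norm_num at this
      exact (pow_dvd_pow 2 this).trans (by norm_num)
    by_cases hq1 : q = 1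
    · exact Or.inl hq1
    · exact Or.inr (hno q hqN hqA (W.four q hqA h4) hq1)
  -- the centre of the Sylow subgroup
  have hQne : (S : Subgroup N) ≠ ⊥ := fun e => P.not_cyclic h S (by rw [e]; infer_instance)
  haveI : Nontrivial (S : Subgroup N) := (Subgroup.nontrivial_iff_ne_bot _).2 hQne
  haveI := IsPGroup.center_nontrivial S.isPGroup'
  obtain ⟨⟨⟨⟨c, hcN⟩, hcS⟩, hcc⟩, hc1⟩ := exists_ne (1 : center (S : Subgroup N))
  have hcT : c ∈ (T : Subgroup G) := (hmem ⟨c, hcN⟩).1 hcS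
  have hnz : z ∈ normalizer ((N ⊓ T : Subgroup G) : Set G) := mem_normalizer_of fun y hy =>
    ⟨(inferInstance : N.Normal).conj_mem y hy.1 z,
      (T : Subgroup G).mul_mem ((T : Subgroup G).mul_mem hzT hy.2) ((T : Subgroup G).inv_mem hzT)⟩
  have hzN : z ∈ N := by
    have hQ2 : 2 ∣ Nat.card (N ⊓ T : Subgroup G) := by
      have hp : IsPGroup 2 (N ⊓ T : Subgroup G) := T.isPGroup'.to_le inf_le_right
      obtain ⟨k, hk⟩ := IsPGroup.iff_card.1 hp
      rw [hk]
      refine dvd_pow_self 2 fun hk0 => hc1 ?_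
      have : (c : G) ∈ (N ⊓ T : Subgroup G) := ⟨hcN, hcT⟩
      rw [Subgroup.eq_bot_of_card_eq _ (hk.trans (by rw [hk0, pow_zero])), mem_bot] at this
      exact Subtype.ext (Subtype.ext (Subtype.ext this))
    obtain ⟨q, hq, hq1, hc⟩ := fix_even hzz hnz hQ2
    rw [← (hfix q hq.2 hq.1 hc.symm).resolve_left hq1]
    exact hq.1
  have hc' : ∀ q : G, q ∈ (T : Subgroup G) → q ∈ N → q * c = c * q := fun q hqT hqN =>
    congrArg (fun a : (S : Subgroup N) => ((a : N) : G))
      (mem_center_iff.1 hcc ⟨⟨q, hqN⟩, (hmem ⟨q, hqN⟩).2 hqT⟩)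
  have hcz : c = z := (hfix c hcT hcN (hc' z hzT hzN).symm).resolve_left fun e =>
    hc1 (Subtype.ext (Subtype.ext (Subtype.ext e)))
  refine P.not_cyclic h S ?_
  have htwo : ∀ q : (S : Subgroup N), q = 1 ∨ q = ⟨⟨c, hcN⟩, hcS⟩ := fun q => by
    rcases hfix ((q : N) : G) ((hmem q).1 q.2) (q : N).2
      (hcz ▸ hc' _ ((hmem q).1 q.2) (q : N).2) with e | e
    · exact Or.inl (Subtype.ext (Subtype.ext e))
    · exact Or.inr (Subtype.ext (Subtype.ext (e.trans hcz.symm)))
  refine isCyclic_iff_exists_zpowers_eq_top.2 ⟨⟨⟨c, hcN⟩, hcS⟩, eq_top_iff.2 fun q _ => ?_⟩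
  rcases htwo q with rfl | rfl
  · exact Subgroup.one_mem _
  · exact Subgroup.mem_zpowers _

theorem not_nine : ¬ 9 ∣ Nat.card G := by
  classical
  intro h9
  haveI : Fact (Nat.Prime 3) := ⟨Nat.prime_three⟩
  obtain ⟨K, hK, hxK⟩ := Sylow.exists_subgroup_card_pow_prime_le 3
    (show 3 ^ 2 ∣ Nat.card G from h9) (zpowers x) (by rw [Nat.card_zpowers, W.hxo, pow_one] : _ = 3 ^ 1)
    one_le_two
  haveI := IsPGroup.isMulCommutative_of_card_eq_prime_sq hK
  have hNA := P.norm_eq (zpowers_le.2 W.hx)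
    (fun e => by
      have := W.hxo
      rw [zpowers_eq_bot.1 e, orderOf_one] at this
      omega) W.normX
  have hKA : K ≤ A := by
    rw [← hNA]
    intro a ha
    refine mem_normalizer_of fun v hv => ?_
    obtain ⟨i, rfl⟩ := mem_zpowers_iff.1 hv
    have hc : a * x = x * a :=
      congrArg Subtype.val (mul_comm' (⟨a, ha⟩ : K) ⟨x, hxK (mem_zpowers x)⟩)
    rw [(Commute.zpow_right hc i).eq, mul_inv_cancel_right]
    exact zpow_mem (mem_zpowers x) i
  have := card_dvd_of_le hKA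
  rw [hK, W.card] at this
  norm_num at this

end Twelve

theorem case_twelve (P : Prim A) {z x : G} (W : Twelve A z x) : Listed G := by
  classical
  haveI : Fact (Nat.Prime 2) := ⟨Nat.prime_two⟩
  haveI : Fact (Nat.Prime 3) := ⟨Nat.prime_three⟩
  have hzz : z * z = 1 := by rw [← pow_two, ← W.hzo, pow_orderOf_eq_one]
  have hz1 : z ≠ 1 := fun e => by have := W.hzo; rw [e, orderOf_one] at this; omega
  have hcent := W.cent P
  have hx2 : ∀ a ∈ A, a * a = 1 → a * x = x * a → a = 1 ∨ a = z := by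
    intro a ha haa hc
    rcases W.invol a ha haa with h | h | h
    · exact Or.inl h
    · exact Or.inr h
    · rw [hc, mul_inv_cancel_right, eq_inv_iff_mul_eq_one, ← pow_two,
        ← orderOf_dvd_iff_pow_eq_one, W.hxo] at h
      omega
  -- the four-group in a Sylow subgroup
  obtain ⟨y, hy, hyy, hy1, hyz⟩ := W.noncentral
  have hVK : IsKleinFour (FourGroup.four z y hzz hyy (W.central y hy).symm) :=
    FourGroup.isKleinFour_four hz1 hy1 (Ne.symm hyz)
  have hV2 : IsPGroup 2 (FourGroup.four z y hzz hyy (W.central y hy).symm) :=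
    IsPGroup.of_card (n := 2) (hVK.card_four.trans (by norm_num))
  obtain ⟨T, hT⟩ := hV2.exists_le_sylow
  have hzT : z ∈ (T : Subgroup G) := hT (FourGroup.mem_four.2 (Or.inr (Or.inl rfl)))
  have hVA : FourGroup.four z y hzz hyy (W.central y hy).symm ≤ A := by
    intro v hv
    rcases FourGroup.mem_four.1 hv with rfl | rfl | rfl | rfl
    exacts [one_mem _, W.hz, hy, mul_mem W.hz hy]
  have hTC : Nat.card ((T : Subgroup G) ⊓ centralizer ({z} : Set G) : Subgroup G) = 4 := by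
    rw [hcent]
    obtain ⟨k, hk⟩ := IsPGroup.iff_card.1 (T.isPGroup'.to_le (inf_le_left : (T : Subgroup G) ⊓ A ≤ T))
    have h12 : 2 ^ k ∣ 12 := hk ▸ W.card ▸ card_dvd_of_le inf_le_right
    have h4 : 4 ∣ 2 ^ k := hk ▸ hVK.card_four ▸ card_dvd_of_le (le_inf hT hVA)
    have hk2 : k ≤ 2 := by
      by_contra hcon
      have : 2 ^ 3 ∣ 12 := (pow_dvd_pow 2 (by omega : 3 ≤ k)).trans h12
      norm_num at this
    have := Nat.le_of_dvd (pow_pos two_pos k) h4
    have : 2 ^ k ≤ 2 ^ 2 := Nat.pow_le_pow_right two_pos hk2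
    rw [hk]
    omega
  have hsq : ∀ q ∈ (T : Subgroup G) ⊓ centralizer ({z} : Set G), q * q = 1 := by
    intro q hq
    have hqA : q ∈ A := hcent ▸ hq.2
    refine W.four q hqA (orderOf_dvd_iff_pow_eq_one.1 (hTC ▸ Subgroup.orderOf_dvd_natCard _ hq))
  have htypes := two_group_types T.isPGroup' hzT W.hzo hTC hsq
  by_cases hall : ∀ N : Subgroup G, N.Normal → N ≠ ⊥ → z ∈ N
  · -- the simple case
    haveI : IsSimpleGroup G := by
      haveI : Nontrivial G := ⟨⟨z, 1, hz1⟩⟩
      refine ⟨fun N hN => or_iff_not_imp_left.2 fun h => ?_⟩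
      haveI := hN
      obtain ⟨hxN, w, hwN, hwA, hww, hw1, hwz⟩ := W.normal_meet P h
      refine P.top_of_le h ?_
      have hzN := hall N hN h
      have hV : IsKleinFour (FourGroup.four z w hzz hww (W.central w hwA).symm) :=
        FourGroup.isKleinFour_four hz1 hw1 (Ne.symm hwz)
      have hle : FourGroup.four z w hzz hww (W.central w hwA).symm ⊔ zpowers x ≤ N ⊓ A := by
        refine sup_le (fun v hv => ?_) (zpowers_le.2 ⟨hxN, W.hx⟩)
        rcases FourGroup.mem_four.1 hv with rfl | rfl | rfl | rfl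
        exacts [one_mem _, ⟨hzN, W.hz⟩, ⟨hwN, hwA⟩, mul_mem ⟨hzN, W.hz⟩ ⟨hwN, hwA⟩]
      have h12 : 12 ≤ Nat.card (N ⊓ A : Subgroup G) := Nat.le_of_dvd Nat.card_pos
        (Nat.Coprime.mul_dvd_of_dvd_of_dvd (by norm_num : Nat.Coprime 4 3)
          (hV.card_four ▸ card_dvd_of_le (le_sup_left.trans hle))
          (W.hxo ▸ Subgroup.orderOf_dvd_natCard _ (hle (mem_sup_right (mem_zpowers x)))))
      rw [← eq_of_le_of_card_ge inf_le_right (W.card.trans_le h12)]
      exact inf_le_left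
    rcases htypes with hd | hq
    · have hA7 : Nat.card G ≠ 2520 := fun h => W.not_nine P (by rw [h]; norm_num)
      obtain ⟨F, _, _, hodd, h3, ⟨e⟩⟩ := linear_of_target (target_of_dihedral T hd) hA7
      have hze : e z * e z = 1 := by rw [← map_mul, hzz, map_one]
      obtain ⟨-, hq⟩ := card_cent_invol hodd hze (fun h => hz1 (e.map_eq_one_iff.1 h))
      have hc12 : Nat.card (centralizer ({e z} : Set (Matrix.ProjectiveSpecialLinearGroup (Fin 2) F))) = 12 := by
        have hmap : (centralizer ({z} : Set G)).map e.toMonoidHom = centralizer {e z} :=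
          map_centralizer_singleton_equiv e z
        rw [← hmap, card_map_of_injective e.injective, hcent, W.card]
      rw [hc12] at hq
      rcases hq with hq | hq
      · haveI : Fact (Nat.Prime 13) := ⟨by norm_num⟩
        obtain ⟨e'⟩ := psl_zmod (p := 13) hq.symm
        exact Or.inr (Or.inr (Or.inr (Or.inr (Or.inl ⟨e.trans e'⟩))))
      · haveI : Fact (Nat.Prime 11) := ⟨by norm_num⟩
        obtain ⟨e'⟩ := psl_zmod (p := 11) (F := F) (by omega)
        exact Or.inr (Or.inr (Or.inr (Or.inl ⟨e.trans e'⟩)))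
    · exfalso
      have hidx : ∀ H : Subgroup G, H.index ≠ 2 := by
        intro H hH
        haveI := normal_of_index_eq_two hH
        rcases IsSimpleGroup.eq_bot_or_eq_top_of_normal H inferInstance with e | e
        · rw [e, index_bot] at hH
          have := card_dvd_of_le (le_top : A ≤ ⊤)
          rw [W.card, card_top, hH] at this
          norm_num at this
        · rw [e, index_top] at hH
          omega
      obtain ⟨R, hR, -⟩ := S1213.result T (Or.inl hq) hidx z W.hzo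
      obtain ⟨n, hn, hcard, -⟩ := hq
      have h12 : Nat.card R ∣ 12 := W.card ▸ hcent ▸ Subgroup.card_subgroup_dvd_card _
      rw [hR, hcard] at h12
      have : 2 ^ 4 ∣ 12 := (pow_dvd_pow 2 (by omega : 4 ≤ n + 1)).trans h12
      norm_num at this
  -- a normal subgroup of index two
  push Not at hall
  obtain ⟨N, hN, hNb, hzN⟩ := hall
  haveI := hN
  obtain ⟨hxN, w, hwN, hwA, hww, hw1, hwz⟩ := W.normal_meet P hNb
  have hwo : orderOf w = 2 := orderOf_eq_prime (by rw [pow_two]; exact hww) hw1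
  have h6 : Nat.card (N ⊓ A : Subgroup G) = 6 := by
    have h3 : 3 ∣ Nat.card (N ⊓ A : Subgroup G) :=
      W.hxo ▸ Subgroup.orderOf_dvd_natCard _ ⟨hxN, W.hx⟩
    have h2 : 2 ∣ Nat.card (N ⊓ A : Subgroup G) :=
      hwo ▸ Subgroup.orderOf_dvd_natCard _ ⟨hwN, hwA⟩
    have h6 := Nat.Coprime.mul_dvd_of_dvd_of_dvd (by norm_num : Nat.Coprime 3 2) h3 h2
    have h12 : Nat.card (N ⊓ A : Subgroup G) ∣ 12 := W.card ▸ card_dvd_of_le inf_le_right
    have hne : Nat.card (N ⊓ A : Subgroup G) ≠ 12 := fun h => hzN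
      ((eq_of_le_of_card_ge inf_le_right (W.card.trans h.symm).le :
        (N ⊓ A : Subgroup G) = A).ge W.hz).1
    obtain ⟨k, hk⟩ := h6
    have := Nat.le_of_dvd (by norm_num) h12
    have : 0 < Nat.card (N ⊓ A : Subgroup G) := Nat.card_pos
    omega
  have hidx : N.index = 2 := by
    have h1 := card_sup_mul (M := N) (B := A) (fun a _ => normalizer_eq_top (H := N) ▸ Subgroup.mem_top a)
    rw [P.sup_top hNb, card_top, h6, W.card, ← N.card_mul_index, mul_assoc] at h1
    have := Nat.eq_of_mul_eq_mul_left Nat.card_pos h1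
    omega
  -- proper normal subgroups of `G` inside `N`
  have hbelow : ∀ K : Subgroup G, K.Normal → K ≠ ⊥ → K ≤ N → K = N := by
    intro K hK hKb hKN
    haveI := hK
    obtain ⟨hxK, v, hvK, hvA, hvv, hv1, -⟩ := W.normal_meet P hKb
    have hKA : N ⊓ A ≤ K := by
      have hle : K ⊓ A ≤ N ⊓ A := inf_le_inf_right A hKN
      have hvo : orderOf v = 2 := orderOf_eq_prime (by rw [pow_two]; exact hvv) hv1
      rw [← eq_of_le_of_card_ge hle (h6.trans_le (Nat.le_of_dvd Nat.card_pos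
        (Nat.Coprime.mul_dvd_of_dvd_of_dvd (by norm_num : Nat.Coprime 3 2)
          (W.hxo ▸ Subgroup.orderOf_dvd_natCard _ ⟨hxK, W.hx⟩)
          (hvo ▸ Subgroup.orderOf_dvd_natCard _ ⟨hvK, hvA⟩))))]
      exact inf_le_left
    refine le_antisymm hKN fun n hn => ?_
    obtain ⟨k, hk, a, ha, rfl⟩ := P.exists_mul hKb n
    exact mul_mem hk (hKA ⟨by simpa using mul_mem (inv_mem (hKN hk)) hn, ha⟩)
  have hsolC : Group.IsSolvable (N ⊓ A : Subgroup G) := by
    exact MinNonCA.solvable_of_dvd_six (by rw [h6])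
  haveI hNs : IsSimpleGroup N := simple_of_pair P hNb hidx hzN hzz hcent hsolC hbelow
  have hC : centralizer (N : Set G) = ⊥ := P.centralizer_bot hidx fun M hM hMb => by
    haveI := hM
    obtain ⟨hxM, -⟩ := W.normal_meet P hMb
    exact fun e => by
      have : x = 1 := mem_bot.1 (e ▸ ⟨hxM, hxN⟩)
      have h := W.hxo
      rw [this, orderOf_one] at h
      omega
  have hnsN : ¬ Group.IsSolvable N := P.insol_normal hNb
  obtain ⟨S, hS⟩ := MinNonCA.sylow_inf_normal T N
  rcases htypes with hd | hq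
  swap
  · exfalso
    obtain ⟨d, -⟩ := QD.exists_pres hq
    set zT : (T : Subgroup G) := ⟨z, hzT⟩
    set K : Subgroup (T : Subgroup G) := N.subgroupOf T
    have hKx : ∀ i : ℤ, d.x ^ (2 * i) ∈ K := by
      intro i
      rw [zpow_mul]
      refine zpow_mem (mem_subgroupOf.2 ?_) i
      rw [zpow_two, Subgroup.coe_mul]
      exact mul_self_mem_of_index_two hidx _
    have hform : ∀ g : (T : Subgroup G), g * g = 1 → g = 1 ∨ g = d.z ∨
        ∃ i : ℤ, g = d.x ^ (2 * i) * d.y := by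
      intro g hg
      rcases d.cases g with ⟨i, rfl⟩ | ⟨i, rfl⟩
      · rw [d.pp, d.zpow_eq_one_iff] at hg
        obtain ⟨m, hm⟩ : 4 * d.r ∣ i := by
          obtain ⟨m, hm⟩ := hg
          exact ⟨m, by linarith⟩
        rcases Int.even_or_odd' m with ⟨l, rfl | rfl⟩
        · exact Or.inl ((d.zpow_eq_one_iff _).2 ⟨l, by rw [hm]; ring⟩)
        · refine Or.inr (Or.inl ((d.zpow_eq_iff _ _).2 ⟨l, by rw [hm]; ring⟩))
      · obtain ⟨j, rfl⟩ := (d.form_sq_eq_one_iff i).1 hg
        exact Or.inr (Or.inr ⟨j, rfl⟩)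
    have hzT1 : zT ≠ 1 := fun e => hz1 (congrArg Subtype.val e)
    have hzTz : zT ≠ d.z := by
      intro e
      have hTA : (T : Subgroup G) ≤ A := fun q hq => hcent ▸ mem_cent_singleton.2
        (congrArg Subtype.val (e ▸ d.z_central ⟨q, hq⟩ : (⟨q, hq⟩ : (T : Subgroup G)) * zT = zT * ⟨q, hq⟩))
      have h12 := card_dvd_of_le hTA
      rw [W.card, d.hcard] at h12
      have : 2 ^ 4 ∣ 12 := (pow_dvd_pow 2 (by omega : 4 ≤ d.p + 4)).trans h12
      norm_num at this
    obtain ⟨i, hi⟩ := ((hform zT (Subtype.ext hzz)).resolve_left hzT1).resolve_left hzTz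
    have hyK : d.y ∉ K := fun hy' => hzN (mem_subgroupOf.1 (show zT ∈ K from hi ▸ mul_mem (hKx i) hy'))
    refine false_of_unique_invol (G := N) hnsN S fun a ha b hb hao hbo => ?_
    have key : ∀ c : N, c ∈ (S : Subgroup N) → orderOf c = 2 → (c : G) = ((d.z : (T : Subgroup G)) : G) := by
      intro c hc hco
      have hcT : (c : G) ∈ (T : Subgroup G) := by rwa [hS, mem_subgroupOf] at hc
      rcases hform ⟨c, hcT⟩ (Subtype.ext (by
        show (c : G) * c = 1
        rw [← pow_two, ← hco, ← Subgroup.orderOf_coe, pow_orderOf_eq_one])) with h | h | ⟨j, hj⟩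
      · have : c = 1 := Subtype.ext (congrArg Subtype.val h :)
        rw [this, orderOf_one] at hco
        omega
      · exact congrArg Subtype.val h
      · refine absurd ?_ hyK
        have hcK : (⟨c, hcT⟩ : (T : Subgroup G)) ∈ K := mem_subgroupOf.2 c.2
        rw [hj] at hcK
        exact ((K.mul_mem_cancel_left (hKx j)).1 hcK)
    exact Subtype.ext ((key a ha hao).trans (key b hb hbo).symm)
  have hDG : GW.DihSylow G := by
    obtain ⟨n, hn, e⟩ := hd
    exact ⟨T, n, hn, e⟩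
  obtain ⟨R, m, hm, eR⟩ := hDG.of_normal N hNs fun hc => hnsN
    (Group.isSolvable_of_comm fun a b => hc.is_comm.comm a b)
  set α : MulAut N := MulAut.conjNormal z with hα
  have hfix : ∀ n : N, α n = n ↔ (n : G) ∈ A := fun n => by
    rw [← hcent, mem_cent_singleton, Subtype.ext_iff, hα, MulAut.conjNormal_apply,
      mul_inv_eq_iff_eq_mul, eq_comm]
  have hNA7 : Nat.card N ≠ 2520 := fun h => W.not_nine P
    ((show 9 ∣ Nat.card N by rw [h]; norm_num).trans (Subgroup.card_subgroup_dvd_card N))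
  obtain ⟨F, _, _, hodd, h3, ⟨e⟩⟩ :=
    linear_of_target (target_of_dihedral R ⟨m, hm, eR⟩) hNA7
  set β : MulAut (Matrix.ProjectiveSpecialLinearGroup (Fin 2) F) := GW.autCongr e α with hβ
  have hα2 : α * α = 1 := by rw [hα, ← map_mul, hzz, map_one]
  have hβ2 : β * β = 1 := by rw [hβ, ← map_mul, hα2, map_one]
  have hβ1 : β ≠ 1 := by
    rw [hβ, Ne, MulEquiv.map_eq_one_iff]
    exact fun h => hz1 (GW.conjNormal_injective hC (h.trans (map_one _).symm))
  have hβe : ∀ n : N, β (e n) = e (α n) := fun n => by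
    simp [hβ, GW.autCongr, MulAut.congr]
  have hcard : Nat.card (GW.fixedGroup β) = 6 := by
    rw [← h6]
    let eqv : (N ⊓ A : Subgroup G) ≃ (GW.fixedGroup β : Subgroup _) :=
      { toFun := fun n : (N ⊓ A : Subgroup G) => ⟨e ⟨(n : G), n.2.1⟩, GW.mem_fixedGroup.2 (by
          rw [hβe, (hfix _).2 n.2.2])⟩
        invFun := fun q => ⟨(e.symm q : N), (e.symm q).2, (hfix _).1 (e.injective (by
          rw [← hβe, e.apply_symm_apply]; exact GW.mem_fixedGroup.1 q.2))⟩
        left_inv := fun n => Subtype.ext (by simp)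
        right_inv := fun q => Subtype.ext (by simp) }
    exact (Nat.card_congr eqv).symm
  have hnc : ∃ a ∈ GW.fixedGroup β, ∃ b ∈ GW.fixedGroup β, a * b ≠ b * a := by
    refine ⟨e ⟨w, hwN⟩, GW.mem_fixedGroup.2 (by rw [hβe, (hfix _).2 hwA]),
      e ⟨x, hxN⟩, GW.mem_fixedGroup.2 (by rw [hβe, (hfix _).2 W.hx]), fun h => ?_⟩
    rw [← map_mul, ← map_mul, e.apply_eq_iff_eq] at h
    exact hwz ((hx2 w hwA hww (congrArg Subtype.val h)).resolve_left hw1)
  have hcardN := card_linear hodd e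
  rcases fixed_cases hodd h3 hβ2 hβ1 hnc with ⟨-, hq⟩ | ⟨h4, -⟩
  · rw [hcard] at hq
    rcases hq with hq | hq
    · haveI : Fact (Nat.Prime 7) := ⟨by norm_num⟩
      exact Or.inr (Or.inr (Or.inl (pgl_seven_of_normal (by omega) hC hidx e)))
    · refine Or.inr (Or.inl (perm_five_of_normal hC hidx ?_))
      rw [show Fintype.card F = 5 by omega] at hcardN
      omega
  · rw [hcard] at h4
    omega

end Cfsg.Agent.SubThree
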