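import Cfsg.Agent.Lib.SubThree.FourTools
import Mathlib.Data.ZMod.Basic
import Mathlib.GroupTheory.PGroup

/-!
The stabiliser which is a symmetric group of degree four times a group of order two: local data.
-/

set_option autoImplicit false
set_option linter.style.haveILetI false
set_option linter.unusedSectionVars false

namespace Cfsg.Agent.SubThree

open Subgroup

universe u

variable {G : Type u} [Group G] [Finite G]

/-- `A = A₀ × ⟨c⟩` with `A₀` symmetric of degree four. -/
structure Sym8 (A A₀ V : Subgroup G) (c : G) : Prop where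
  sym : Sym4 A₀ V
  le : A₀ ≤ A
  hc : c ∈ A
  hcc : c * c = 1
  hc0 : c ∉ A₀
  central : ∀ a ∈ A, a * c = c * a
  cover : ∀ a ∈ A, a ∈ A₀ ∨ a * c ∈ A₀

theorem sym8_of_iso {A : Subgroup G} (e : A ≃* Equiv.Perm (Fin 4) × Multiplicative (ZMod 2)) :
    ∃ (A₀ V : Subgroup G) (c : G), Sym8 A A₀ V c := by
  let f : Equiv.Perm (Fin 4) × Multiplicative (ZMod 2) →* G := A.subtype.comp e.symm.toMonoidHom
  have hf : Function.Injective f := A.subtype_injective.comp e.symm.injective
  have hfA : ∀ x, f x ∈ A := fun x => (e.symm x).2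
  set g : Equiv.Perm (Fin 4) →* G := f.comp (MonoidHom.inl _ _)
  have hg : Function.Injective g := hf.comp fun a b h => congrArg Prod.fst h
  obtain ⟨V, hV⟩ := sym4_of_hom (A := g.range) g hg rfl
  set w : Multiplicative (ZMod 2) := Multiplicative.ofAdd 1
  have hz : ∀ z : Multiplicative (ZMod 2), z = 1 ∨ z = w := by decide
  refine ⟨g.range, V, f (1, w), hV, ?_, hfA _, ?_, ?_, fun a ha => ?_, fun a ha => ?_⟩
  · rintro _ ⟨x, rfl⟩; exact hfA _
  · rw [← map_mul, map_eq_one_iff f hf]
    exact Prod.ext (one_mul _) (by decide)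
  · rintro ⟨x, hx⟩
    have h : (1 : Multiplicative (ZMod 2)) = w := congrArg Prod.snd (hf hx)
    revert h
    decide
  · obtain ⟨⟨p, z⟩, rfl⟩ : ∃ x, f x = a := ⟨e ⟨a, ha⟩, by simp [f]⟩
    rw [← map_mul, ← map_mul]
    exact congrArg f (Prod.ext (by simp) (mul_comm _ _))
  · obtain ⟨⟨p, z⟩, rfl⟩ : ∃ x, f x = a := ⟨e ⟨a, ha⟩, by simp [f]⟩
    rcases hz z with rfl | rfl
    · exact Or.inl ⟨p, rfl⟩
    · refine Or.inr ⟨p, ?_⟩
      rw [← map_mul]
      exact congrArg f (Prod.ext (mul_one p).symm (by decide : (1 : Multiplicative (ZMod 2)) = w * w))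

namespace Sym8

variable {A A₀ V : Subgroup G} {c : G} (H : Sym8 A A₀ V c)
include H

theorem c_ne : c ≠ 1 := fun e => H.hc0 (e ▸ one_mem _)

theorem A0_normal : A ≤ normalizer (A₀ : Set G) := fun a ha => mem_normalizer_of fun y hy => by
  rcases H.cover a ha with h | h
  · exact mul_mem (mul_mem h hy) (inv_mem h)
  · have e : a * y * a⁻¹ = (a * c) * y * (a * c)⁻¹ := by
      have hcy := H.central y (H.le hy)
      calc a * y * a⁻¹ = a * ((y * c) * c⁻¹) * a⁻¹ := by group
        _ = a * ((c * y) * c⁻¹) * a⁻¹ := by rw [hcy]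
        _ = _ := by group
    rw [e]
    exact mul_mem (mul_mem h hy) (inv_mem h)

theorem V_normal : A ≤ normalizer (V : Set G) := fun a ha => mem_normalizer_of fun y hy => by
  rcases H.cover a ha with h | h
  · exact conj_mem_normalizer (H.sym.norm h) hy
  · have e : a * y * a⁻¹ = (a * c) * y * (a * c)⁻¹ := by
      have hcy := H.central y (H.le (H.sym.VA hy))
      calc a * y * a⁻¹ = a * ((y * c) * c⁻¹) * a⁻¹ := by group
        _ = a * ((c * y) * c⁻¹) * a⁻¹ := by rw [hcy]
        _ = _ := by group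
    rw [e]
    exact conj_mem_normalizer (H.sym.norm h) hy

/-- The elementary abelian subgroup of order eight. -/
def E (_H : Sym8 A A₀ V c) : Subgroup G := V ⊔ zpowers c

theorem mem_zc {x : G} : x ∈ zpowers c ↔ x = 1 ∨ x = c := by
  refine ⟨fun hx => ?_, fun hx => hx.elim (fun e => e ▸ one_mem _) fun e => e ▸ mem_zpowers c⟩
  obtain ⟨i, rfl⟩ := mem_zpowers_iff.1 hx
  rcases Int.even_or_odd' i with ⟨j, rfl | rfl⟩
  · left; rw [zpow_mul, zpow_two, H.hcc, one_zpow]
  · right; rw [zpow_add_one, zpow_mul, zpow_two, H.hcc, one_zpow, one_mul]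

theorem mem_E {x : G} : x ∈ H.E ↔ x ∈ V ∨ x * c ∈ V := by
  constructor
  · intro hx
    have : x ∈ (↑(V ⊔ zpowers c) : Set G) := hx
    rw [coe_mul_of_right_le_normalizer_left _ _
      ((zpowers_le.2 H.hc).trans H.V_normal)] at this
    obtain ⟨v, hv, z, hz, rfl⟩ := this
    rcases H.mem_zc.1 hz with rfl | rfl
    · exact Or.inl (by simpa using hv)
    · exact Or.inr (by rw [mul_assoc, H.hcc, mul_one]; exact hv)
  · rintro (h | h)
    · exact mem_sup_left h
    · rw [show x = x * c * c by rw [mul_assoc, H.hcc, mul_one]]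
      exact mul_mem (mem_sup_left h) (mem_sup_right (mem_zpowers c))

theorem c_mem_E : c ∈ H.E := mem_sup_right (mem_zpowers c)

theorem V_le_E : V ≤ H.E := le_sup_left

theorem E_le : H.E ≤ A := sup_le (H.sym.VA.trans H.le) (zpowers_le.2 H.hc)

theorem E_comm : ∀ a ∈ H.E, ∀ b ∈ H.E, a * b = b * a := by
  haveI : IsMulCommutative H.E := by
    have hVc : ∀ a ∈ V, ∀ b ∈ V, a * b = b * a := fun a ha b hb =>
      FourGroup.comm_of_mem H.sym.klein ha hb
    refine ⟨⟨fun x y => Subtype.ext ?_⟩⟩
    show (x : G) * y = y * x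
    have key : ∀ b ∈ H.E, ∀ v ∈ V, v * b = b * v := by
      intro b hb v hv
      rcases H.mem_E.1 hb with h | h
      · exact hVc v hv b h
      · have hcv := (H.central v (H.le (H.sym.VA hv)))
        have h2 := hVc v hv (b * c) h
        calc v * b = v * (b * c) * c := by rw [mul_assoc v, mul_assoc b, H.hcc, mul_one]
          _ = b * c * v * c := by rw [h2]
          _ = b * (c * (v * c)) := by simp only [mul_assoc]
          _ = b * v := by rw [hcv, ← mul_assoc c, H.hcc, one_mul]
    rcases H.mem_E.1 x.2 with h | h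
    · exact key y y.2 x h
    · have h2 := key y y.2 _ h
      have hcy := (H.central y (H.E_le y.2))
      calc (x : G) * y = (x * c) * (y * c) := by rw [hcy, mul_assoc, ← mul_assoc c, H.hcc, one_mul]
        _ = (x * c) * y * c := by rw [mul_assoc (x * c : G)]
        _ = y * (x * c) * c := by rw [h2]
        _ = y * x := by rw [mul_assoc, mul_assoc (x : G), H.hcc, mul_one]
  exact fun a ha b hb => congrArg Subtype.val (mul_comm' (⟨a, ha⟩ : H.E) ⟨b, hb⟩)

theorem E_sq : ∀ a ∈ H.E, a * a = 1 := by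
  intro a ha
  rcases H.mem_E.1 ha with h | h
  · exact FourGroup.mul_self_of_mem H.sym.klein h
  · calc a * a = a * a * (c * c) := by rw [H.hcc, mul_one]
      _ = (a * c) * (a * c) := by
        have := H.central a (H.E_le ha)
        rw [mul_assoc, ← mul_assoc a c c, this, mul_assoc, ← mul_assoc a c, this]
      _ = 1 := FourGroup.mul_self_of_mem H.sym.klein h

theorem card_E : Nat.card H.E = 8 := by
  have h := card_sup_mul (M := V) (B := zpowers c) ((zpowers_le.2 H.hc).trans H.V_normal)
  have hinf : V ⊓ zpowers c = ⊥ := by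
    rw [eq_bot_iff]
    rintro x ⟨hxV, hxc⟩
    rcases H.mem_zc.1 hxc with rfl | rfl
    · exact one_mem _
    · exact absurd (H.sym.VA hxV) H.hc0
  haveI : Fact (Nat.Prime 2) := ⟨Nat.prime_two⟩
  rw [hinf, Subgroup.card_bot, mul_one, H.sym.klein.card_four, Nat.card_zpowers,
    orderOf_eq_prime (p := 2) (by rw [pow_two]; exact H.hcc) H.c_ne] at h
  exact h

theorem E_normal : A ≤ normalizer (H.E : Set G) := fun a ha => mem_normalizer_of fun y hy => by
  rcases H.mem_E.1 hy with h | h
  · exact H.V_le_E (conj_mem_normalizer (H.V_normal ha) h)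
  · refine H.mem_E.2 (Or.inr ?_)
    have e : a * y * a⁻¹ * c = a * (y * c) * a⁻¹ := by
      have hca := H.central a⁻¹ (inv_mem ha)
      calc a * y * a⁻¹ * c = a * y * (a⁻¹ * c) := by group
        _ = a * y * (c * a⁻¹) := by rw [hca]
        _ = _ := by group
    rw [e]
    exact conj_mem_normalizer (H.V_normal ha) h

theorem E_inf : H.E ⊓ A₀ = V := by
  refine le_antisymm ?_ (le_inf H.V_le_E H.sym.VA)
  rintro x ⟨hx, hx0⟩
  rcases H.mem_E.1 hx with h | h
  · exact h
  · have := A₀.mul_mem (A₀.inv_mem hx0) (H.sym.VA h)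
    rw [inv_mul_cancel_left] at this
    exact absurd this H.hc0

theorem cent_E : ∀ a ∈ A, (∀ v ∈ V, a * v = v * a) → a ∈ H.E := by
  intro a ha hc'
  rcases H.cover a ha with h | h
  · exact H.V_le_E (H.sym.cent a h hc')
  · refine H.mem_E.2 (Or.inr (H.sym.cent _ h fun v hv => ?_))
    have hcv := H.central v (H.le (H.sym.VA hv))
    calc a * c * v = a * (v * c) := by rw [hcv, mul_assoc]
      _ = v * a * c := by rw [← mul_assoc, hc' v hv]
      _ = v * (a * c) := mul_assoc _ _ _

theorem center_cases : ∀ a ∈ A, (∀ b ∈ A, a * b = b * a) → a = 1 ∨ a = c := by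
  intro a ha hall
  obtain ⟨t, u, ρ, ht, hu, hρ, hto, huo, htu, hrt, hru⟩ := H.sym.frame
  have ht1 : t ≠ 1 := fun e => by rw [e, orderOf_one] at hto; omega
  have hu1 : u ≠ 1 := fun e => by rw [e, orderOf_one] at huo; omega
  have key : ∀ v ∈ V, ρ * v = v * ρ → v = 1 := by
    intro v hv hc'
    rw [FourGroup.eq_four H.sym.klein ht hu ht1 hu1 htu, FourGroup.mem_four] at hv
    have h' : ρ * v * ρ⁻¹ = v := mul_inv_eq_iff_eq_mul.2 hc'
    have htt : t * t = 1 := by rw [← pow_two, ← hto, pow_orderOf_eq_one]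
    have huu : u * u = 1 := by rw [← pow_two, ← huo, pow_orderOf_eq_one]
    rcases hv with e | e | e | e <;> subst e
    · rfl
    · exact absurd (hrt.symm.trans h').symm htu
    · exact absurd (by simpa using hru.symm.trans h') ht1
    · exfalso
      have e2 : ρ * (t * u) * ρ⁻¹ = u * (t * u) := by
        calc ρ * (t * u) * ρ⁻¹ = (ρ * t * ρ⁻¹) * (ρ * u * ρ⁻¹) := by group
          _ = _ := by rw [hrt, hru]
      rw [e2] at h'
      exact hu1 (by simpa using h')
  rcases H.cover a ha with h | h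
  · exact Or.inl (key a (H.sym.cent a h fun v hv => hall v (H.le (H.sym.VA hv)))
      (hall ρ (H.le hρ)).symm)
  · have hac : ∀ b ∈ A, a * c * b = b * (a * c) := fun b hb => by
      calc a * c * b = a * (b * c) := by rw [H.central b hb, mul_assoc]
        _ = b * a * c := by rw [← mul_assoc, hall b hb]
        _ = b * (a * c) := mul_assoc _ _ _
    have := key _ (H.sym.cent _ h fun v hv => hac v (H.le (H.sym.VA hv))) (hac ρ (H.le hρ)).symm
    exact Or.inr ((eq_inv_of_mul_eq_one_left this).trans (inv_eq_of_mul_eq_one_right H.hcc))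

theorem card_A : Nat.card A = 48 := by
  have hsup : A₀ ⊔ zpowers c = A := by
    refine le_antisymm (sup_le H.le (zpowers_le.2 H.hc)) fun a ha => ?_
    rcases H.cover a ha with h | h
    · exact mem_sup_left h
    · rw [show a = a * c * c by rw [mul_assoc, H.hcc, mul_one]]
      exact mul_mem (mem_sup_left h) (mem_sup_right (mem_zpowers c))
  have h := card_sup_mul (M := A₀) (B := zpowers c) ((zpowers_le.2 H.hc).trans H.A0_normal)
  have hinf : A₀ ⊓ zpowers c = ⊥ := by
    rw [eq_bot_iff]
    rintro x ⟨hx0, hxc⟩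
    rcases H.mem_zc.1 hxc with rfl | rfl
    · exact one_mem _
    · exact absurd hx0 H.hc0
  haveI : Fact (Nat.Prime 2) := ⟨Nat.prime_two⟩
  rw [hsup, hinf, Subgroup.card_bot, mul_one, H.sym.card, Nat.card_zpowers,
    orderOf_eq_prime (p := 2) (by rw [pow_two]; exact H.hcc) H.c_ne] at h
  exact h

theorem sq_A0 : ∀ a ∈ A, a * a ∈ A₀ := by
  intro a ha
  rcases H.cover a ha with h | h
  · exact mul_mem h h
  · have := mul_mem h h
    have e : a * c * (a * c) = a * a := by
      rw [H.central a ha, mul_assoc, ← mul_assoc a c a, H.central a ha, mul_assoc c a a, ← mul_assoc c c,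
        H.hcc, one_mul]
    rwa [e] at this

theorem solvable_A0 (hA : Group.IsSolvable A) : Group.IsSolvable A₀ :=
  haveI := hA
  Group.isSolvable_of_isSolvable_injective (f := inclusion H.le) (inclusion_injective H.le)

end Sym8

/-- The configuration of two conjugates with a common subgroup `S` of order sixteen. -/
structure Eight (A A₀ V : Subgroup G) (c g : G) : Prop extends Sym8 A A₀ V c where
  prim : Prim A
  hS : Nat.card (A ⊓ cj g A : Subgroup G) = 16
  swap : cj g (A ⊓ cj g A) = A ⊓ cj g A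

theorem exists_eight {A A₀ V : Subgroup G} {c : G} (P : Prim A) (H : Sym8 A A₀ V c) (g : G)
    (hS : Nat.card (A ⊓ cj g A : Subgroup G) = 16) : ∃ g', Eight A A₀ V c g' := by
  haveI : Fact (Nat.Prime 2) := ⟨Nat.prime_two⟩
  obtain ⟨b, hb, he⟩ := conj_in (p := 2) (P := cj g (A ⊓ cj g A)) (Q := A ⊓ cj g A) (cj_mono inf_le_left)
    inf_le_right (k := 4) (by rw [card_cj, hS]; norm_num) (by rw [hS]; norm_num)
    (by rw [card_cj, H.card_A]; norm_num)
  have e : cj (b * g) A = cj g A := by
    rw [← cj_cj]; exact cj_of_mem_normalizer (le_normalizer hb)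
  exact ⟨b * g, H, P, by rw [e]; exact hS, by rw [e, ← cj_cj]; exact he⟩

end Cfsg.Agent.SubThree
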