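import Cfsg.Agent.Lib.SubThree.EightData

/-!
The Sylow 2-subgroup in the case of a stabiliser of order 48.
-/

set_option autoImplicit false
set_option linter.style.haveILetI false
set_option linter.unusedSectionVars false

namespace Cfsg.Agent.SubThree

open Subgroup

universe u

variable {G : Type u} [Group G] [Finite G]

namespace Eight

variable {A A₀ V : Subgroup G} {c g : G} (H : Eight A A₀ V c g)
include H

/-- The common subgroup. -/
abbrev S (_H : Eight A A₀ V c g) : Subgroup G := A ⊓ cj g A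

/-- The normaliser of the common subgroup. -/
abbrev R (_H : Eight A A₀ V c g) : Subgroup G := normalizer ((A ⊓ cj g A : Subgroup G) : Set G)

theorem cent_c : centralizer ({c} : Set G) = A :=
  H.prim.cent_eq H.hc H.toSym8.c_ne H.central

theorem norm_E : normalizer (H.E : Set G) = A :=
  H.prim.norm_eq H.E_le (fun e => by
    have := H.card_E
    rw [e, Subgroup.card_bot] at this
    omega) H.E_normal

theorem cent_V : ∀ y : G, (∀ v ∈ V, y * v = v * y) → y ∈ H.E := by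
  intro y hy
  have hN := H.prim.norm_eq (H.sym.VA.trans H.le) (fun e => by
    have := H.sym.klein.card_four
    rw [e, Subgroup.card_bot] at this
    omega) H.V_normal
  exact H.cent_E y (hN ▸ mem_normalizer_of fun v hv => by rwa [hy v hv, mul_inv_cancel_right]) hy

theorem g_not : g ∉ A := by
  intro hg
  have h := H.hS
  rw [cj_of_mem_normalizer (le_normalizer hg), inf_idem, H.card_A] at h
  omega

theorem E_le_S : H.E ≤ H.S :=
  le_of_full (i := 3) (k := 4) H.E_le inf_le_left H.E_normal (by rw [H.card_E]; norm_num) (by rw [H.hS]; norm_num)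
    (by rw [H.card_A]; norm_num)

theorem E'_le_S : cj g H.E ≤ H.S := (cj_mono H.E_le_S).trans H.swap.le

theorem c'_mem : g * c * g⁻¹ ∈ H.S := H.E'_le_S (cj_mem H.c_mem_E)

theorem c'_central : ∀ b ∈ cj g A, b * (g * c * g⁻¹) = (g * c * g⁻¹) * b := by
  rintro _ ⟨a, ha, rfl⟩
  show g * a * g⁻¹ * (g * c * g⁻¹) = g * c * g⁻¹ * (g * a * g⁻¹)
  calc g * a * g⁻¹ * (g * c * g⁻¹) = g * (a * c) * g⁻¹ := by group
    _ = _ := by rw [H.central a ha]; group

theorem c'_ne : g * c * g⁻¹ ≠ c := by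
  intro e
  refine H.g_not ?_
  rw [← H.cent_c, mem_cent_singleton]
  exact mul_inv_eq_iff_eq_mul.1 e

theorem E'_ne : cj g H.E ≠ H.E := fun e => H.g_not (H.norm_E ▸ mem_normalizer_of fun y hy => e ▸ cj_mem hy)

theorem c'_mem_E : g * c * g⁻¹ ∈ H.E := H.cent_V _ fun v hv =>
  (H.c'_central v (H.E_le_S (H.V_le_E hv)).2).symm

theorem c_mem_E' : c ∈ cj g H.E := by
  rw [mem_cj]
  refine H.cent_V _ fun v hv => ?_
  have h : g * v * g⁻¹ ∈ A := (H.E'_le_S (cj_mem (H.V_le_E hv))).1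
  calc g⁻¹ * c * g * v = g⁻¹ * (c * (g * v * g⁻¹)) * g := by group
    _ = g⁻¹ * ((g * v * g⁻¹) * c) * g := by rw [H.central _ h]
    _ = v * (g⁻¹ * c * g) := by group

/-- The intersection of the two elementary subgroups, and their join. -/
theorem inf_sup : Nat.card (H.E ⊓ cj g H.E : Subgroup G) = 4 ∧ H.E ⊔ cj g H.E = H.S := by
  have h := card_sup_mul (M := H.E) (B := cj g H.E)
    ((H.E'_le_S.trans inf_le_left).trans H.E_normal)
  rw [card_cj, H.card_E] at h
  have hle : H.E ⊔ cj g H.E ≤ H.S := sup_le H.E_le_S H.E'_le_S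
  have h16 : Nat.card (H.E ⊔ cj g H.E : Subgroup G) ∣ 16 := H.hS ▸ card_dvd_of_le hle
  have h8 : 8 ∣ Nat.card (H.E ⊔ cj g H.E : Subgroup G) := H.card_E ▸ card_dvd_of_le le_sup_left
  have hne : Nat.card (H.E ⊔ cj g H.E : Subgroup G) ≠ 8 := fun e => H.E'_ne (eq_of_le_of_card_ge
    (le_sup_right.trans (eq_of_le_of_card_ge le_sup_left (by rw [e, H.card_E])).ge) (by rw [card_cj]))
  have h16' : Nat.card (H.E ⊔ cj g H.E : Subgroup G) = 16 := by
    obtain ⟨k, hk⟩ := h8
    have := Nat.le_of_dvd (by norm_num) h16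
    rw [hk] at hne this h16 ⊢
    have : 0 < k := by
      rcases Nat.eq_zero_or_pos k with e | e
      · simp [e] at h16
      · exact e
    omega
  refine ⟨?_, eq_of_le_of_card_ge hle (by rw [h16', H.hS])⟩
  rw [h16'] at h
  omega

theorem mem_Z {x : G} (hx : x ∈ H.E) (hx' : x ∈ cj g H.E) :
    x = 1 ∨ x = c ∨ x = g * c * g⁻¹ ∨ x = c * (g * c * g⁻¹) := by
  have hcc' : (g * c * g⁻¹) * (g * c * g⁻¹) = 1 := by
    calc g * c * g⁻¹ * (g * c * g⁻¹) = g * (c * c) * g⁻¹ := by group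
      _ = 1 := by rw [H.hcc, mul_one, mul_inv_cancel]
  have hcom := H.E_comm c H.c_mem_E _ H.c'_mem_E
  have hle : FourGroup.four c (g * c * g⁻¹) H.hcc hcc' hcom ≤ H.E ⊓ cj g H.E := by
    intro v hv
    rcases FourGroup.mem_four.1 hv with rfl | rfl | rfl | rfl
    exacts [one_mem _, ⟨H.c_mem_E, H.c_mem_E'⟩, ⟨H.c'_mem_E, cj_mem H.c_mem_E⟩,
      mul_mem ⟨H.c_mem_E, H.c_mem_E'⟩ ⟨H.c'_mem_E, cj_mem H.c_mem_E⟩]
  have hne : g * c * g⁻¹ ≠ 1 := fun e => H.toSym8.c_ne (conj_eq_one_iff.1 e)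
  have hK : IsKleinFour (FourGroup.four c (g * c * g⁻¹) H.hcc hcc' hcom) :=
    FourGroup.isKleinFour_four H.toSym8.c_ne hne H.c'_ne.symm
  have he := eq_of_le_of_card_ge hle (by rw [H.inf_sup.1, hK.card_four])
  exact FourGroup.mem_four.1 (he.ge ⟨hx, hx'⟩)

theorem mem_S_cases {s : G} (hs : s ∈ H.S) : ∃ e ∈ H.E, ∃ e' ∈ cj g H.E, s = e * e' := by
  have h : s ∈ (↑(H.E ⊔ cj g H.E) : Set G) := H.inf_sup.2.ge hs
  rw [coe_mul_of_right_le_normalizer_left _ _ ((H.E'_le_S.trans inf_le_left).trans H.E_normal)] at h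
  obtain ⟨e, he, e', he', rfl⟩ := h
  exact ⟨e, he, e', he', rfl⟩

theorem S_le_norm_E' : H.S ≤ normalizer (cj g H.E : Set G) :=
  inf_le_right.trans ((cj_mono H.E_normal).trans (le_normalizer_map _))

theorem sq_mem {s : G} (hs : s ∈ H.S) : s * s ∈ H.E ∧ s * s ∈ cj g H.E := by
  obtain ⟨e, he, e', he', rfl⟩ := H.mem_S_cases hs
  have h1 := H.E_sq e he
  have h2 : e' * e' = 1 := by
    obtain ⟨y, hy, rfl⟩ := he'
    rw [← map_mul, H.E_sq y hy, map_one]
  have hE'S := H.E'_le_S he'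
  have hES := H.E_le_S he
  constructor
  · have e1 : e * e' * (e * e') = e * (e' * e * e'⁻¹) * (e' * e') := by group
    rw [e1, h2, mul_one]
    exact mul_mem he (conj_mem_normalizer (H.E_normal hE'S.1) he)
  · have e1 : e * e' * (e * e') = (e * e' * e⁻¹) * (e * e) * e' := by group
    rw [e1, h1, mul_one]
    exact mul_mem (conj_mem_normalizer (H.S_le_norm_E' hES) he') he'

theorem exists_sq : ∃ s ∈ H.S, s * s ≠ 1 := by
  by_contra hall
  push Not at hall
  have hcomm : ∀ a ∈ H.S, ∀ b ∈ H.S, a * b = b * a := by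
    intro a ha b hb
    have h1 := hall _ ha
    have h2 := hall _ hb
    have h3 := hall _ (mul_mem ha hb)
    calc a * b = (a * b)⁻¹ := (inv_eq_of_mul_eq_one_right h3).symm
      _ = b * a := by
        rw [_root_.mul_inv_rev, inv_eq_of_mul_eq_one_right h1, inv_eq_of_mul_eq_one_right h2]
  have hle : H.S ≤ H.E := fun s hs => H.cent_V s fun v hv => hcomm s hs v (H.E_le_S (H.V_le_E hv))
  have := Subgroup.card_le_of_le hle
  rw [H.hS, H.card_E] at this
  omega

theorem c'_not : g * c * g⁻¹ ∉ cj g A₀ := fun h => H.hc0 (by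
  rw [mem_cj] at h
  have e : g⁻¹ * (g * c * g⁻¹) * g = c := by group
  rwa [e] at h)

/-- The product of the two central involutions. -/
theorem t_spec : c * (g * c * g⁻¹) ∈ V ∧ c * (g * c * g⁻¹) ∈ cj g V ∧
    c * (g * c * g⁻¹) ≠ 1 ∧ c ∉ cj g A₀ := by
  obtain ⟨s, hs, hs1⟩ := H.exists_sq
  obtain ⟨hE, hE'⟩ := H.sq_mem hs
  have h0 : s * s ∈ A₀ := H.sq_A0 s hs.1
  have h0' : s * s ∈ cj g A₀ := by
    rw [mem_cj]
    have h := H.sq_A0 _ (mem_cj.1 hs.2)
    have e : g⁻¹ * s * g * (g⁻¹ * s * g) = g⁻¹ * (s * s) * g := by group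
    rwa [e] at h
  rcases H.mem_Z hE hE' with e | e | e | e
  · exact absurd e hs1
  · exact absurd (e ▸ h0) H.hc0
  · exact absurd (e ▸ h0') H.c'_not
  · rw [e] at hE hE' h0 h0' hs1
    refine ⟨H.E_inf.le ⟨hE, h0⟩, ?_, hs1, fun hc => H.c'_not ?_⟩
    · rw [← H.E_inf, cj, Subgroup.map_inf _ _ _ (MulAut.conj g).injective]
      exact ⟨hE', h0'⟩
    · have := mul_mem hc h0'
      rwa [← mul_assoc, H.hcc, one_mul] at this

theorem swapE {y : G} (hy : y ∈ H.R) : cj y H.E = H.E ∨ cj y H.E = cj g H.E := by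
  by_cases h : cj y H.E = H.E
  · exact Or.inl h
  right
  have hle : cj y H.E ≤ H.S := (cj_mono H.E_le_S).trans (cj_of_mem_normalizer hy).le
  have hc2 : ∀ {K : Subgroup G} {x : G}, K = cj x H.E → ∀ a ∈ K, ∀ b ∈ K, a * b = b * a := by
    rintro K x rfl _ ⟨a, ha, rfl⟩ _ ⟨b, hb, rfl⟩
    rw [← map_mul, ← map_mul, H.E_comm a ha b hb]
  have hs2 : ∀ {K : Subgroup G} {x : G}, K = cj x H.E → ∀ a ∈ K, a * a = 1 := by
    rintro K x rfl _ ⟨a, ha, rfl⟩
    rw [← map_mul, H.E_sq a ha, map_one]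
  exact elementary_unique (m := 2) H.E_le_S H.E'_le_S hle (inf_le_left.trans H.E_normal) H.E_comm
    (hc2 rfl) (hc2 rfl) H.E_sq (hs2 rfl) (hs2 rfl)
    (fun a _ hc' => H.cent_V a fun v hv => hc' v (H.V_le_E hv))
    (by rw [H.card_E]; norm_num) (by rw [card_cj, H.card_E]; norm_num)
    (by rw [card_cj, H.card_E]; norm_num) (by rw [H.hS]; norm_num) H.E'_ne h

theorem S_le_R : H.S ≤ H.R := le_normalizer

theorem g_mem : g ∈ H.R := mem_normalizer_of fun y hy => H.swap.le (cj_mem hy)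

theorem S_not_normal : ¬ A ≤ normalizer ((A ⊓ cj g A : Subgroup G) : Set G) := by
  intro hn
  have hc : c ∈ H.S := H.E_le_S H.c_mem_E
  have hsup : A₀ ⊔ H.S = A := by
    refine le_antisymm (sup_le H.le inf_le_left) fun a ha => ?_
    rcases H.cover a ha with h | h
    · exact mem_sup_left h
    · rw [show a = a * c * c by rw [mul_assoc, H.hcc, mul_one]]
      exact mul_mem (mem_sup_left h) (mem_sup_right hc)
  have h := card_sup_mul (M := A₀) (B := H.S) (inf_le_left.trans H.A0_normal)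
  rw [hsup, H.card_A, H.sym.card, H.hS] at h
  exact H.sym.not8 (A₀ ⊓ H.S) inf_le_left (by omega) fun a ha =>
    mem_normalizer_of fun y hy =>
      ⟨A₀.mul_mem (A₀.mul_mem ha hy.1) (A₀.inv_mem ha), conj_mem_normalizer (hn (H.le ha)) hy.2⟩

theorem R_inf : H.R ⊓ A = H.S := by
  refine (eq_of_le_of_card_ge (le_inf H.S_le_R inf_le_left) ?_).symm
  have h16 : 16 ∣ Nat.card (H.R ⊓ A : Subgroup G) := H.hS ▸ card_dvd_of_le (le_inf H.S_le_R inf_le_left)
  have hd : Nat.card (H.R ⊓ A : Subgroup G) ∣ 48 := H.card_A ▸ card_dvd_of_le inf_le_right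
  have hne : Nat.card (H.R ⊓ A : Subgroup G) ≠ 48 := fun h => H.S_not_normal
    ((eq_of_le_of_card_ge inf_le_right (H.card_A.trans h.symm).le : H.R ⊓ A = A).ge.trans inf_le_left)
  obtain ⟨k, hk⟩ := h16
  have := Nat.le_of_dvd (by norm_num) hd
  rw [H.hS]
  rw [hk] at hd hne this ⊢
  have hk3 : k ≤ 3 := by omega
  interval_cases k <;> omega

theorem fix_E {y : G} (hy : y ∈ H.R) (h : cj y H.E = H.E) : y ∈ H.S :=
  H.R_inf.le ⟨hy, H.norm_E ▸ mem_normalizer_of fun v hv => h ▸ cj_mem hv⟩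

theorem gE' : cj g (cj g H.E) = H.E := by
  rcases H.swapE (mul_mem H.g_mem H.g_mem) with h | h
  · rwa [cj_cj]
  · rw [← cj_cj] at h
    exact absurd (Subgroup.map_injective (f := (MulAut.conj g).toMonoidHom) (MulAut.conj g).injective h)
      H.E'_ne

theorem cover_R {y : G} (hy : y ∈ H.R) : y ∈ H.S ∨ y * g ∈ H.S := by
  rcases H.swapE hy with h | h
  · exact Or.inl (H.fix_E hy h)
  · refine Or.inr (H.fix_E (mul_mem hy H.g_mem) ?_)
    rcases H.swapE (mul_mem hy H.g_mem) with h' | h'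
    · exact h'
    · rw [← cj_cj] at h'
      exact absurd (Subgroup.map_injective (f := (MulAut.conj y).toMonoidHom) (MulAut.conj y).injective
        (h'.trans h.symm))
        H.E'_ne

theorem card_R : Nat.card H.R = 32 := by
  have hidx : (H.S.subgroupOf H.R).index = 2 := by
    rw [Subgroup.index_eq_two_iff]
    refine ⟨⟨g, H.g_mem⟩, fun y => ?_⟩
    simp only [mem_subgroupOf, Subgroup.coe_mul]
    rcases H.cover_R y.2 with h | h
    · refine Or.inr ⟨h, fun h' => H.g_not ?_⟩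
      have := mul_mem (inv_mem h) h'
      rw [inv_mul_cancel_left] at this
      exact this.1
    · refine Or.inl ⟨h, fun h' => H.g_not ?_⟩
      have := mul_mem (inv_mem h') h
      rw [inv_mul_cancel_left] at this
      exact this.1
  have h := Cfsg.Agent.PBasic.card_mul_relIndex H.S_le_R
  rw [show H.S.relIndex H.R = 2 from hidx, H.hS] at h
  exact h.symm

theorem R_two : IsPGroup 2 H.R := IsPGroup.of_card (n := 5) (by rw [H.card_R]; norm_num)

theorem invol_S {s : G} (hs : s ∈ H.S) (h : s * s = 1) : s ∈ H.E ∨ s ∈ cj g H.E := by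
  obtain ⟨e, he, e', he', rfl⟩ := H.mem_S_cases hs
  by_cases hE : e' ∈ H.E
  · exact Or.inl (mul_mem he hE)
  right
  refine mul_mem ?_ he'
  -- `e` centralises `e'`
  have hcom : e * e' = e' * e := by
    have h1 := H.E_sq e he
    have h2 : e' * e' = 1 := by
      obtain ⟨y, hy, rfl⟩ := he'
      rw [← map_mul, H.E_sq y hy, map_one]
    calc e * e' = (e * e')⁻¹ := (inv_eq_of_mul_eq_one_right h).symm
      _ = e' * e := by
        rw [_root_.mul_inv_rev, inv_eq_of_mul_eq_one_right h1, inv_eq_of_mul_eq_one_right h2]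
  have hCne : H.E ⊓ centralizer ({e'} : Set G) ≠ H.E := fun e0 => hE (H.cent_V e' fun v hv =>
    (mem_cent_singleton.1 (e0.ge (H.V_le_E hv)).2).symm)
  have hE'c : ∀ a ∈ cj g H.E, ∀ b ∈ cj g H.E, a * b = b * a := by
    rintro _ ⟨a, ha, rfl⟩ _ ⟨b, hb, rfl⟩
    rw [← map_mul, ← map_mul, H.E_comm a ha b hb]
  have hle : H.E ⊓ cj g H.E ≤ H.E ⊓ centralizer ({e'} : Set G) := fun x hx =>
    ⟨hx.1, mem_cent_singleton.2 (hE'c x hx.2 e' he')⟩
  have h4 : Nat.card (H.E ⊓ centralizer ({e'} : Set G) : Subgroup G) ≤ 4 := by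
    have hd : Nat.card (H.E ⊓ centralizer ({e'} : Set G) : Subgroup G) ∣ 8 :=
      H.card_E ▸ card_dvd_of_le inf_le_left
    have hne : Nat.card (H.E ⊓ centralizer ({e'} : Set G) : Subgroup G) ≠ 8 := fun h8 =>
      hCne (eq_of_le_of_card_ge inf_le_left (by rw [h8, H.card_E]))
    obtain ⟨k, hk, hk'⟩ := (Nat.dvd_prime_pow Nat.prime_two).1 (show _ ∣ 2 ^ 3 from hd)
    interval_cases k <;> omega
  exact ((eq_of_le_of_card_ge hle (by rw [H.inf_sup.1]; exact h4)).ge
    ⟨he, mem_cent_singleton.2 hcom⟩).2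

theorem outer_swap {w : G} (hw : w ∈ H.R) (hS : w ∉ H.S) : w * c * w⁻¹ ≠ c := fun e => hS
  (H.R_inf.le ⟨hw, H.cent_c ▸ mem_cent_singleton.2 (mul_inv_eq_iff_eq_mul.1 e)⟩)

theorem elementary_le_S {W : Subgroup G} (hW : W ≤ H.R) (h8 : Nat.card W = 8)
    (hc : ∀ a ∈ W, ∀ b ∈ W, a * b = b * a) (h2 : ∀ a ∈ W, a * a = 1) : W ≤ H.S := by
  intro w hw
  by_contra hwS
  have hRn : H.R ≤ normalizer (H.S : Set G) := le_rfl
  have h := card_sup_mul (M := H.S) (B := W) (hW.trans hRn)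
  have hle : Nat.card (H.S ⊔ W : Subgroup G) ≤ 32 :=
    H.card_R ▸ Subgroup.card_le_of_le (sup_le H.S_le_R hW)
  rw [H.hS, h8] at h
  have h4 : 4 ≤ Nat.card (H.S ⊓ W : Subgroup G) := by
    by_contra hlt
    have := Nat.mul_le_mul hle (Nat.le_of_lt_succ (not_le.1 hlt) : Nat.card (H.S ⊓ W : Subgroup G) ≤ 3)
    omega
  have hsub : H.S ⊓ W ≤ H.E ∨ H.S ⊓ W ≤ cj g H.E := by
    by_contra hno
    rw [not_or] at hno
    obtain ⟨a, ha, haE⟩ := SetLike.not_le_iff_exists.1 hno.1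
    obtain ⟨b, hb, hbE⟩ := SetLike.not_le_iff_exists.1 hno.2
    have ha' := (H.invol_S ha.1 (h2 a ha.2)).resolve_left haE
    have hb' := (H.invol_S hb.1 (h2 b hb.2)).resolve_right hbE
    rcases H.invol_S (mul_mem ha.1 hb.1) (h2 _ (mul_mem ha.2 hb.2)) with h' | h'
    · exact haE ((mul_mem_cancel_right hb').1 h')
    · exact hbE ((mul_mem_cancel_left ha').1 h')
  have hfix : ∀ y ∈ H.S ⊓ W, y ∈ H.E ∧ y ∈ cj g H.E := by
    intro y hy
    have hwy : w * y * w⁻¹ = y := mul_inv_eq_iff_eq_mul.2 (hc w hw y hy.2)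
    have hwR := hW hw
    have hEw : cj w H.E = cj g H.E := (H.swapE hwR).resolve_left fun e => hwS (H.fix_E hwR e)
    have hE'w : cj w (cj g H.E) = H.E := by
      rcases H.swapE (mul_mem hwR H.g_mem) with h' | h' <;> rw [← cj_cj] at h'
      · exact h'
      · exact absurd (Subgroup.map_injective (f := (MulAut.conj w).toMonoidHom) (MulAut.conj w).injective
          (h'.trans hEw.symm)) H.E'_ne
    rcases hsub with h' | h'
    · exact ⟨h' hy, by rw [← hEw, ← hwy]; exact cj_mem (h' hy)⟩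
    · exact ⟨by rw [← hE'w, ← hwy]; exact cj_mem (h' hy), h' hy⟩
  have heq : H.S ⊓ W = H.E ⊓ cj g H.E :=
    eq_of_le_of_card_ge (fun y hy => hfix y hy) (by rw [H.inf_sup.1]; exact h4)
  have hcW : c ∈ W := (heq.ge ⟨H.c_mem_E, H.c_mem_E'⟩).2
  exact H.outer_swap (hW hw) hwS (mul_inv_eq_iff_eq_mul.2 (hc w hw c hcW))

theorem exists_sylow : ∃ T : Sylow 2 G, (T : Subgroup G) = H.R := by
  haveI : Fact (Nat.Prime 2) := ⟨Nat.prime_two⟩
  obtain ⟨T, hT⟩ := H.R_two.exists_le_sylow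
  refine ⟨T, ?_⟩
  by_contra hne
  obtain ⟨y, -, hyR, hy⟩ := exists_norm_not_mem T.isPGroup' hT (Ne.symm hne)
  refine hyR ?_
  have hW : ∀ x : G, cj x H.E ≤ H.R → cj x H.E ≤ H.S := by
    intro x hx
    refine H.elementary_le_S hx (by rw [card_cj, H.card_E]) ?_ ?_
    · rintro _ ⟨a, ha, rfl⟩ _ ⟨b, hb, rfl⟩
      rw [← map_mul, ← map_mul, H.E_comm a ha b hb]
    · rintro _ ⟨a, ha, rfl⟩
      rw [← map_mul, H.E_sq a ha, map_one]
  have h1 := hW y ((cj_mono (H.E_le_S.trans H.S_le_R)).trans (cj_of_mem_normalizer hy).le)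
  have h2 := hW (y * g) (by
    rw [← cj_cj]
    exact (cj_mono (H.E'_le_S.trans H.S_le_R)).trans (cj_of_mem_normalizer hy).le)
  rw [← cj_cj] at h2
  refine mem_normalizer_of fun s hs => ?_
  have : y * s * y⁻¹ ∈ cj y H.S := cj_mem hs
  rw [← H.inf_sup.2, cj, Subgroup.map_sup] at this
  exact sup_le h1 h2 this

/-- The normal subgroup of the Sylow subgroup. -/
abbrev D (_H : Eight A A₀ V c g) : Subgroup G := V ⊔ cj g V

theorem D_le_S : H.D ≤ H.S :=
  sup_le (H.V_le_E.trans H.E_le_S) ((cj_mono H.V_le_E).trans H.E'_le_S)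

theorem B_norm_V' : cj g A ≤ normalizer (cj g V : Set G) :=
  (cj_mono H.V_normal).trans (le_normalizer_map _)

theorem card_D : Nat.card H.D = 8 ∧ c ∉ H.D := by
  have hV'n : cj g V ≤ normalizer (V : Set G) := ((cj_mono H.V_le_E).trans H.E'_le_S).trans
    (inf_le_left.trans H.V_normal)
  have hinf : ∀ x ∈ H.E, x ∈ cj g V → x = 1 ∨ x = c * (g * c * g⁻¹) := by
    intro x hx hxV'
    have hx0 : x ∈ cj g A₀ := cj_mono H.sym.VA hxV'
    rcases H.mem_Z hx (cj_mono H.V_le_E hxV') with e | e | e | e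
    · exact Or.inl e
    · exact absurd (e ▸ hx0) H.t_spec.2.2.2
    · exact absurd (e ▸ hx0) H.c'_not
    · exact Or.inr e
  refine ⟨?_, fun hc => ?_⟩
  · have h := card_sup_mul (M := V) (B := cj g V) hV'n
    rw [card_cj, H.sym.klein.card_four] at h
    have h2 : Nat.card (V ⊓ cj g V : Subgroup G) = 2 := by
      refine Nat.card_eq_two_iff.2 ⟨⟨1, one_mem _⟩, ⟨_, H.t_spec.1, H.t_spec.2.1⟩, fun e =>
        H.t_spec.2.2.1 (congrArg Subtype.val e).symm, Set.eq_univ_iff_forall.2 fun x => ?_⟩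
      rcases hinf x (H.V_le_E x.2.1) x.2.2 with e | e
      · exact Or.inl (Subtype.ext e)
      · exact Or.inr (Subtype.ext e)
    rw [h2] at h
    show Nat.card (V ⊔ cj g V : Subgroup G) = 8
    omega
  · have h : c ∈ (↑(V ⊔ cj g V) : Set G) := hc
    rw [coe_mul_of_right_le_normalizer_left _ _ hV'n] at h
    obtain ⟨v, hv, v', hv', e⟩ := h
    have e' : c = v * v' := e.symm
    have hv'E : v' ∈ H.E := by
      rw [show v' = v⁻¹ * c by rw [e', inv_mul_cancel_left]]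
      exact mul_mem (inv_mem (H.V_le_E hv)) H.c_mem_E
    refine H.hc0 (H.sym.VA ?_)
    rw [e']
    rcases hinf v' hv'E hv' with e1 | e1
    · rw [e1, mul_one]; exact hv
    · rw [e1]; exact mul_mem hv H.t_spec.1

theorem g_sq : g * g ∈ H.S := H.fix_E (mul_mem H.g_mem H.g_mem) (by rw [← cj_cj]; exact H.gE')

theorem R_norm_D : H.R ≤ normalizer (H.D : Set G) := by
  have hg : g ∈ normalizer (H.D : Set G) := mem_normalizer_of fun y hy => by
    have h : g * y * g⁻¹ ∈ cj g H.D := cj_mem hy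
    rw [show H.D = V ⊔ cj g V from rfl, cj, Subgroup.map_sup] at h
    refine (sup_le le_sup_right ?_ : _ ≤ H.D) h
    show cj g (cj g V) ≤ V ⊔ cj g V
    rw [cj_cj, cj_of_mem_normalizer (H.V_normal H.g_sq.1)]
    exact le_sup_left
  have hS : H.S ≤ normalizer (H.D : Set G) := fun s hs => mem_normalizer_of fun y hy => by
    have h : s * y * s⁻¹ ∈ cj s H.D := cj_mem hy
    rw [show H.D = V ⊔ cj g V from rfl, cj, Subgroup.map_sup] at h
    refine (sup_le ?_ ?_ : _ ≤ H.D) h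
    · exact (cj_of_mem_normalizer (H.V_normal hs.1)).le.trans le_sup_left
    · exact (cj_of_mem_normalizer (H.B_norm_V' hs.2)).le.trans le_sup_right
  intro y hy
  rcases H.cover_R hy with h | h
  · exact hS h
  · rw [show y = y * g * g⁻¹ by group]
    exact mul_mem (hS h) (inv_mem hg)

theorem D_not_normal : ¬ A ≤ normalizer (H.D : Set G) := by
  intro hn
  have hsup : H.D ⊔ H.E = H.S := by
    have hle : H.D ⊔ H.E ≤ H.S := sup_le H.D_le_S H.E_le_S
    refine le_antisymm hle ?_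
    rw [← H.inf_sup.2]
    refine sup_le le_sup_right ?_
    rintro _ ⟨y, hy, rfl⟩
    rcases H.mem_E.1 hy with h | h
    · exact mem_sup_left (mem_sup_right (cj_mem h))
    · have e : g * y * g⁻¹ = g * (y * c) * g⁻¹ * (g * c * g⁻¹) := by
        calc g * y * g⁻¹ = g * (y * (c * c)) * g⁻¹ := by rw [H.hcc, mul_one]
          _ = _ := by group
      show g * y * g⁻¹ ∈ _
      rw [e]
      exact mul_mem (mem_sup_left (mem_sup_right (cj_mem h))) (mem_sup_right H.c'_mem_E)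
  refine H.S_not_normal ?_
  show A ≤ normalizer (H.S : Set G)
  rw [← hsup]
  exact fun a ha => mem_normalizer_of fun y hy => by
    have h : a * y * a⁻¹ ∈ cj a (H.D ⊔ H.E) := cj_mem hy
    rw [cj, Subgroup.map_sup] at h
    exact sup_le_sup (cj_of_mem_normalizer (hn ha)).le (cj_of_mem_normalizer (H.E_normal ha)).le h

end Eight

end Cfsg.Agent.SubThree
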