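import Cfsg.Agent.Lib.SubThree.Prim
import Cfsg.Agent.Lib.SubThree.SDThree
import Cfsg.Agent.Lib.Classical.PSL2Involutions
import Cfsg.Agent.Lib.Sims.Shift

/-!
Tools for the stabilisers containing a symmetric group of degree four.
-/

set_option autoImplicit false
set_option linter.style.haveILetI false
set_option linter.unusedSectionVars false

namespace Cfsg.Agent.SubThree

open Subgroup

universe u

theorem perm_four_facts : ∃ v₁ v₂ r s : Equiv.Perm (Fin 4),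
    (v₁ ^ 2 = 1 ∧ v₁ ≠ 1) ∧ (v₂ ^ 2 = 1 ∧ v₂ ≠ 1) ∧ v₁ ≠ v₂ ∧ v₁ * v₂ = v₂ * v₁ ∧
    (r * v₁ * r⁻¹ = v₂ ∧ r * v₂ * r⁻¹ = v₁ * v₂) ∧ (r ^ 3 = 1 ∧ r ≠ 1) ∧ s * r * s⁻¹ = r⁻¹ ∧
    (∀ a, a * v₁ * a⁻¹ = v₁ ∨ a * v₁ * a⁻¹ = v₂ ∨ a * v₁ * a⁻¹ = v₁ * v₂) ∧
    (∀ a, a * v₂ * a⁻¹ = v₁ ∨ a * v₂ * a⁻¹ = v₂ ∨ a * v₂ * a⁻¹ = v₁ * v₂) ∧
    (∀ a, a * v₁ = v₁ * a → a * v₂ = v₂ * a → a = 1 ∨ a = v₁ ∨ a = v₂ ∨ a = v₁ * v₂) ∧
    (∀ a, a ≠ 1 → ∃ b, a * b * a⁻¹ * b⁻¹ = v₁ ∨ a * b * a⁻¹ * b⁻¹ = v₂ ∨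
      a * b * a⁻¹ * b⁻¹ = v₁ * v₂) ∧
    (∀ a, a = 1 ∨ a = v₁ ∨ a = v₂ ∨ a = v₁ * v₂ ∨ a ^ 3 = 1 ∨
      ∃ b, (a * b * a⁻¹ * b⁻¹) ^ 3 = 1 ∧ a * b * a⁻¹ * b⁻¹ ≠ 1) := by
  refine ⟨Equiv.swap 0 1 * Equiv.swap 2 3, Equiv.swap 0 2 * Equiv.swap 1 3,
    Equiv.swap 1 2 * Equiv.swap 2 3, Equiv.swap 1 2, ?_, ?_, ?_, ?_, ?_, ?_, ?_, ?_, ?_, ?_, ?_, ?_⟩ <;>
    decide +kernel

variable {G : Type u} [Group G] [Finite G]

/-- A subgroup `A` which is a symmetric group of degree four, modulo a central involution `c`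
possibly trivial, with the four-group `V`. -/
structure Sym4 (A V : Subgroup G) : Prop where
  card : Nat.card A = 24
  klein : IsKleinFour V
  VA : V ≤ A
  norm : A ≤ normalizer (V : Set G)
  cent : ∀ a ∈ A, (∀ v ∈ V, a * v = v * a) → a ∈ V
  uniq : ∀ K : Subgroup G, K ≤ A → K ≠ ⊥ → A ≤ normalizer (K : Set G) → V ≤ K
  not8 : ∀ K : Subgroup G, K ≤ A → Nat.card K = 8 → ¬ A ≤ normalizer (K : Set G)
  frame : ∃ t u ρ : G, t ∈ V ∧ u ∈ V ∧ ρ ∈ A ∧ orderOf t = 2 ∧ orderOf u = 2 ∧ t ≠ u ∧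
    ρ * t * ρ⁻¹ = u ∧ ρ * u * ρ⁻¹ = t * u
  inverter : ∃ r ∈ A, ∃ s ∈ A, orderOf r = 3 ∧ s * r * s⁻¹ = r⁻¹

theorem sym4_of_hom {A : Subgroup G} (f : Equiv.Perm (Fin 4) →* G) (hf : Function.Injective f)
    (hr : f.range = A) : ∃ V : Subgroup G, Sym4 A V := by
  classical
  obtain ⟨v₁, v₂, r, s, ⟨h1, h1'⟩, ⟨h2, h2'⟩, h12, hc, ⟨hrv, hrv'⟩, ⟨hr3, hr1⟩, hsr, hn1, hn2, hcen,
    hcom, height⟩ := perm_four_facts
  have hA : ∀ x, f x ∈ A := fun x => hr ▸ ⟨x, rfl⟩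
  have hsurj : ∀ a ∈ A, ∃ x, f x = a := fun a ha => (hr ▸ ha : a ∈ f.range)
  have e1 : f v₁ * f v₁ = 1 := by rw [← map_mul, ← pow_two, h1, map_one]
  have e2 : f v₂ * f v₂ = 1 := by rw [← map_mul, ← pow_two, h2, map_one]
  have e12 : f v₁ * f v₂ = f v₂ * f v₁ := by rw [← map_mul, hc, map_mul]
  set V := FourGroup.four (f v₁) (f v₂) e1 e2 e12 with hVdef
  have hmem : ∀ x, f x ∈ V ↔ (x = 1 ∨ x = v₁ ∨ x = v₂ ∨ x = v₁ * v₂) := fun x => by
    rw [hVdef, FourGroup.mem_four, ← map_mul, hf.eq_iff, hf.eq_iff, hf.eq_iff, map_eq_one_iff f hf]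
  have hne : ∀ {x}, x ≠ 1 → f x ≠ 1 := fun h e => h ((map_eq_one_iff f hf).1 e)
  have ho : ∀ {x : Equiv.Perm (Fin 4)}, x ^ 2 = 1 → x ≠ 1 → orderOf (f x) = 2 := fun h h' => by
    haveI : Fact (Nat.Prime 2) := ⟨Nat.prime_two⟩
    rw [orderOf_injective f hf]; exact orderOf_eq_prime h h'
  have ho3 : orderOf (f r) = 3 := by
    haveI : Fact (Nat.Prime 3) := ⟨Nat.prime_three⟩
    rw [orderOf_injective f hf]; exact orderOf_eq_prime hr3 hr1
  have hnorm : A ≤ normalizer (V : Set G) := by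
    intro a ha
    obtain ⟨x, rfl⟩ := hsurj a ha
    refine mem_normalizer_of fun y hy => ?_
    rcases FourGroup.mem_four.1 hy with rfl | rfl | rfl | rfl
    · rw [mul_one, mul_inv_cancel]; exact one_mem _
    · rw [← map_inv, ← map_mul, ← map_mul, hmem]; exact Or.inr (hn1 x)
    · rw [← map_inv, ← map_mul, ← map_mul, hmem]; exact Or.inr (hn2 x)
    · rw [show f x * (f v₁ * f v₂) * (f x)⁻¹ = (f x * f v₁ * (f x)⁻¹) * (f x * f v₂ * (f x)⁻¹) by group]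
      refine mul_mem ?_ ?_
      · rw [← map_inv, ← map_mul, ← map_mul, hmem]; exact Or.inr (hn1 x)
      · rw [← map_inv, ← map_mul, ← map_mul, hmem]; exact Or.inr (hn2 x)
  have hcomK : ∀ K : Subgroup G, A ≤ normalizer (K : Set G) → ∀ x b, f x ∈ K →
      f (x * b * x⁻¹ * b⁻¹) ∈ K := by
    intro K hK x b hx
    rw [show x * b * x⁻¹ * b⁻¹ = x * (b * x⁻¹ * b⁻¹) by group, map_mul]
    refine mul_mem hx ?_
    rw [map_mul, map_mul, map_inv, map_inv]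
    exact conj_mem_normalizer (hK (hA b)) (inv_mem hx)
  refine ⟨V, ?_, FourGroup.isKleinFour_four (hne h1') (hne h2') (fun e => h12 (hf e)), ?_, hnorm, ?_, ?_, ?_,
    ⟨f v₁, f v₂, f r, (hmem _).2 (Or.inr (Or.inl rfl)), (hmem _).2 (Or.inr (Or.inr (Or.inl rfl))),
      hA r, ho h1 h1', ho h2 h2', fun e => h12 (hf e), by rw [← map_inv, ← map_mul, ← map_mul, hrv],
      by rw [← map_inv, ← map_mul, ← map_mul, hrv', map_mul]⟩,
    ⟨f r, hA r, f s, hA s, ho3, by rw [← map_inv, ← map_mul, ← map_mul, hsr, map_inv]⟩⟩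
  · rw [← hr, ← Nat.card_congr (MonoidHom.ofInjective hf).toEquiv, Nat.card_perm, Nat.card_fin]
    rfl
  · intro v hv
    rcases FourGroup.mem_four.1 hv with rfl | rfl | rfl | rfl
    exacts [one_mem _, hA _, hA _, mul_mem (hA _) (hA _)]
  · intro a ha hc'
    obtain ⟨x, rfl⟩ := hsurj a ha
    refine (hmem x).2 (hcen x (hf ?_) (hf ?_))
    · rw [map_mul, map_mul]; exact hc' _ ((hmem _).2 (Or.inr (Or.inl rfl)))
    · rw [map_mul, map_mul]; exact hc' _ ((hmem _).2 (Or.inr (Or.inr (Or.inl rfl))))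
  · intro K hKA hK hKn
    obtain ⟨⟨k, hk⟩, hk1⟩ := ne_bot_iff_exists_ne_one.1 hK
    obtain ⟨x, rfl⟩ := hsurj k (hKA hk)
    have hx1 : x ≠ 1 := fun e => hk1 (Subtype.ext (by show f x = 1; rw [e, map_one]))
    obtain ⟨b, hb⟩ := hcom x hx1
    have hw := hcomK K hKn x b hk
    -- one involution gives all three
    have hrot : ∀ y, f y ∈ K → f (r * y * r⁻¹) ∈ K := fun y hy => by
      rw [map_mul, map_mul, map_inv]; exact conj_mem_normalizer (hKn (hA r)) hy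
    have h3 : r * (v₁ * v₂) * r⁻¹ = v₁ := by
      calc r * (v₁ * v₂) * r⁻¹ = (r * v₁ * r⁻¹) * (r * v₂ * r⁻¹) := by group
        _ = v₁ := by rw [hrv, hrv', hc, ← mul_assoc, ← pow_two, h2, one_mul]
    have hv1 : f v₁ ∈ K := by
      rcases hb with e | e | e <;> rw [e] at hw
      · exact hw
      · have := hrot _ (hrot _ hw)
        rwa [hrv', h3] at this
      · have := hrot _ hw
        rwa [h3] at this
    have hv2 : f v₂ ∈ K := by
      have := hrot _ hv1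
      rwa [hrv] at this
    intro v hv
    rcases FourGroup.mem_four.1 hv with rfl | rfl | rfl | rfl
    exacts [one_mem _, hv1, hv2, mul_mem hv1 hv2]
  · intro K hKA hK8 hKn
    have h3 : ∀ x, f x ∈ K → x ^ 3 = 1 → x = 1 := by
      intro x hx hx3
      by_contra h
      haveI : Fact (Nat.Prime 3) := ⟨Nat.prime_three⟩
      have hd := Subgroup.orderOf_dvd_natCard K hx
      rw [orderOf_injective f hf, orderOf_eq_prime hx3 h, hK8] at hd
      norm_num at hd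
    have hle : K ≤ V := by
      intro k hk
      obtain ⟨x, rfl⟩ := hsurj k (hKA hk)
      refine (hmem x).2 ?_
      rcases height x with e | e | e | e | e | ⟨b, hb3, hb1⟩
      · exact Or.inl e
      · exact Or.inr (Or.inl e)
      · exact Or.inr (Or.inr (Or.inl e))
      · exact Or.inr (Or.inr (Or.inr e))
      · exact Or.inl (h3 x hk e)
      · exact absurd (h3 _ (hcomK K hKn x b hk) hb3) hb1
    have := Subgroup.card_le_of_le hle
    rw [hK8, (FourGroup.isKleinFour_four (hne h1') (hne h2') (fun e => h12 (hf e)) :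
      IsKleinFour V).card_four] at this
    omega

/-- Two subgroups of the same Sylow order are conjugate inside. -/
theorem conj_in {p : ℕ} [Fact p.Prime] {B P Q : Subgroup G} (hP : P ≤ B) (hQ : Q ≤ B) {k : ℕ}
    (hPc : Nat.card P = p ^ k) (hQc : Nat.card Q = p ^ k)
    (hk : ¬ p ^ (k + 1) ∣ Nat.card B) : ∃ b ∈ B, cj b P = Q := by
  have hp : (Nat.card B).factorization p = k := by
    have hd : p ^ k ∣ Nat.card B := hPc ▸ card_dvd_of_le hP
    have h0 : Nat.card B ≠ 0 := Nat.card_pos.ne'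
    rw [(Fact.out : p.Prime).pow_dvd_iff_le_factorization h0] at hd hk
    omega
  have hc : ∀ {R : Subgroup G}, R ≤ B → Nat.card R = p ^ k →
      Nat.card (R.subgroupOf B) = p ^ (Nat.card B).factorization p := fun hR h => by
    rw [hp, Nat.card_congr (subgroupOfEquivOfLe hR).toEquiv, h]
  obtain ⟨b, hb⟩ := MulAction.exists_smul_eq B (Sylow.ofCard _ (hc hP hPc)) (Sylow.ofCard _ (hc hQ hQc))
  refine ⟨b, b.2, eq_of_le_of_card_ge ?_ (by rw [card_cj, hPc, hQc])⟩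
  rintro _ ⟨x, hx, rfl⟩
  have h1 : b * ⟨x, hP hx⟩ * b⁻¹ ∈ Q.subgroupOf B := by
    have h2 : ((b • Sylow.ofCard _ (hc hP hPc) : Sylow p B) : Subgroup B) = Q.subgroupOf B :=
      congrArg (fun S : Sylow p B => (S : Subgroup B)) hb
    rw [Sylow.coe_subgroup_smul] at h2
    rw [← h2]
    exact smul_mem_pointwise_smul _ (MulAut.conj b) _ (mem_subgroupOf.2 hx :
      (⟨x, hP hx⟩ : B) ∈ P.subgroupOf B)
  exact mem_subgroupOf.1 h1

/-- A normal subgroup of two-power order lies in every subgroup of full two-power order. -/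
theorem le_of_full {A V S : Subgroup G} (hVA : V ≤ A) (hSA : S ≤ A)
    (hn : A ≤ normalizer (V : Set G)) {i k : ℕ} (hV : Nat.card V = 2 ^ i) (hS : Nat.card S = 2 ^ k)
    (hk : ¬ 2 ^ (k + 1) ∣ Nat.card A) : V ≤ S := by
  have h := card_sup_mul (M := V) (B := S) (hSA.trans hn)
  obtain ⟨j, hj, hjc⟩ := (Nat.dvd_prime_pow Nat.prime_two).1 (hV ▸ card_dvd_of_le (inf_le_left : V ⊓ S ≤ V))
  rw [hjc, hV, hS, ← pow_add] at h
  by_contra hle
  have hji : j < i := by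
    rcases lt_or_eq_of_le hj with h' | h'
    · exact h'
    · refine absurd (?_ : V ≤ S) hle
      rw [← eq_of_le_of_card_ge (inf_le_left : V ⊓ S ≤ V) (by rw [hjc, h', hV])]
      exact inf_le_right
  refine hk ((?_ : 2 ^ (k + 1) ∣ Nat.card (V ⊔ S : Subgroup G)).trans (card_dvd_of_le (sup_le hVA hSA)))
  have : Nat.card (V ⊔ S : Subgroup G) = 2 ^ (i + k - j) := Nat.eq_of_mul_eq_mul_right (pow_pos two_pos j)
    (by rw [h, ← pow_add, show i + k - j + j = i + k by omega])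
  rw [this]
  exact pow_dvd_pow 2 (by omega)

/-- Two maximal elementary subgroups of a 2-group: only one besides a given one. -/
theorem elementary_unique {S V W W' : Subgroup G} {m : ℕ} (hVS : V ≤ S) (hWS : W ≤ S) (hW'S : W' ≤ S)
    (hn : S ≤ normalizer (V : Set G)) (hVc : ∀ a ∈ V, ∀ b ∈ V, a * b = b * a)
    (hWc : ∀ a ∈ W, ∀ b ∈ W, a * b = b * a) (hW'c : ∀ a ∈ W', ∀ b ∈ W', a * b = b * a)
    (hV2 : ∀ a ∈ V, a * a = 1) (hW'2 : ∀ a ∈ W', a * a = 1) (hW2 : ∀ a ∈ W, a * a = 1)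
    (hcent : ∀ a ∈ S, (∀ v ∈ V, a * v = v * a) → a ∈ V)
    (hVm : Nat.card V = 2 ^ (m + 1)) (hWm : Nat.card W = 2 ^ (m + 1))
    (hW'm : Nat.card W' = 2 ^ (m + 1)) (hS : Nat.card S = 2 ^ (m + 2))
    (hWV : W ≠ V) (hW'V : W' ≠ V) : W' = W := by
  -- the intersections have index two and are central
  have hinf : ∀ {X : Subgroup G}, X ≤ S → Nat.card X = 2 ^ (m + 1) → X ≠ V →
      Nat.card (V ⊓ X : Subgroup G) = 2 ^ m ∧ V ⊔ X = S := by
    intro X hX hXc hXV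
    have h := card_sup_mul (M := V) (B := X) (hX.trans hn)
    obtain ⟨j, hj, hjc⟩ := (Nat.dvd_prime_pow Nat.prime_two).1 (hVm ▸ card_dvd_of_le (inf_le_left : V ⊓ X ≤ V))
    have hjm : j ≤ m := by
      by_contra hcon
      refine hXV (eq_of_le_of_card_ge ?_ (by rw [hXc, hVm])).symm.symm
      rw [← eq_of_le_of_card_ge (inf_le_right : V ⊓ X ≤ X) (by
        rw [hXc, hjc]; exact Nat.pow_le_pow_right two_pos (by omega))]
      exact inf_le_left
    have hle : Nat.card (V ⊔ X : Subgroup G) ≤ 2 ^ (m + 2) := hS ▸ Subgroup.card_le_of_le (sup_le hVS hX)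
    rw [hjc, hVm, hXc, ← pow_add] at h
    have h' : 2 ^ (m + 1 + (m + 1)) ≤ 2 ^ (m + 2) * 2 ^ j := h ▸ Nat.mul_le_mul_right _ hle
    rw [← pow_add] at h'
    have h'' := (Nat.pow_le_pow_iff_right (le_refl 2)).1 h'
    refine ⟨by rw [hjc, show j = m by omega], eq_of_le_of_card_ge (sup_le hVS hX) ?_⟩
    rw [hS]
    refine le_of_eq (Nat.eq_of_mul_eq_mul_right (pow_pos two_pos j) ?_).symm
    rw [h, ← pow_add]
    congr 1
    omega
  obtain ⟨hI, hsup⟩ := hinf hWS hWm hWV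
  obtain ⟨hI', -⟩ := hinf hW'S hW'm hW'V
  obtain ⟨a, haW, haV⟩ : ∃ a ∈ W, a ∉ V := by
    by_contra hcon
    push Not at hcon
    exact hWV (eq_of_le_of_card_ge hcon (by rw [hWm, hVm]))
  have hcov : ∀ y ∈ S, ∃ v ∈ V, ∃ w ∈ W, y = v * w := by
    intro y hy
    have : y ∈ (↑(V ⊔ W) : Set G) := hsup.symm ▸ hy
    rw [coe_mul_of_right_le_normalizer_left _ _ (hWS.trans hn)] at this
    obtain ⟨v, hv, w, hw, rfl⟩ := this
    exact ⟨v, hv, w, hw, rfl⟩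
  -- the fixed points of `a` in `V`
  have hCa : ∀ v ∈ V, a * v = v * a → v ∈ W := by
    set C := V ⊓ centralizer ({a} : Set G)
    have hCW : V ⊓ W ≤ C := fun w hw => ⟨hw.1, mem_cent_singleton.2 (hWc _ hw.2 _ haW)⟩
    have hCne : C ≠ V := fun e => haV (hcent a (hWS haW) fun v hv =>
      (mem_cent_singleton.1 (e.ge hv).2).symm)
    obtain ⟨j, hj, hjc⟩ := (Nat.dvd_prime_pow Nat.prime_two).1 (hVm ▸ card_dvd_of_le (inf_le_left : C ≤ V))
    have hjm : j ≤ m := by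
      by_contra hcon
      exact hCne (eq_of_le_of_card_ge inf_le_left (by
        rw [hVm, hjc]; exact Nat.pow_le_pow_right two_pos (by omega)))
    have hCeq : V ⊓ W = C := eq_of_le_of_card_ge hCW (by
      rw [hI, hjc]; exact Nat.pow_le_pow_right two_pos hjm)
    intro v hv hc
    exact (hCeq.ge ⟨hv, mem_cent_singleton.2 hc.symm⟩).2
  have hinfle : V ⊓ W' ≤ W := by
    intro v hv
    refine hCa v hv.1 ?_
    obtain ⟨u, hu, w, hw, hy⟩ : ∃ u ∈ W', ∃ v' ∈ V, a = v' * u := by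
      obtain ⟨-, hsup'⟩ := hinf hW'S hW'm hW'V
      have : a ∈ (↑(V ⊔ W') : Set G) := hsup'.symm ▸ hWS haW
      rw [coe_mul_of_right_le_normalizer_left _ _ (hW'S.trans hn)] at this
      obtain ⟨v', hv', u, hu, rfl⟩ := this
      exact ⟨u, hu, v', hv', rfl⟩
    rw [hy, mul_assoc, hW'c u hu v hv.2, ← mul_assoc, hVc w hw v hv.1, mul_assoc]
  refine eq_of_le_of_card_ge (fun y hy => ?_) (by rw [hWm, hW'm])
  obtain ⟨v, hv, w, hw, rfl⟩ := hcov y (hW'S hy)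
  by_cases hwV : w ∈ V
  · exact hinfle ⟨mul_mem hv hwV, hy⟩
  refine mul_mem ?_ hw
  -- `v` commutes with `w`, hence with `a`
  have hvw : v * w = w * v := by
    have h1 := hW'2 _ hy
    calc v * w = (v * w)⁻¹ := (inv_eq_of_mul_eq_one_right h1).symm
      _ = w * v := by
        rw [_root_.mul_inv_rev, inv_eq_of_mul_eq_one_right (hV2 v hv),
          inv_eq_of_mul_eq_one_right (hW2 w hw)]
  refine hCa v hv ?_
  obtain ⟨v', hv', hw'⟩ : ∃ v' ∈ V ⊓ W, a = w * v' := by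
    refine ⟨w⁻¹ * a, ⟨?_, W.mul_mem (W.inv_mem hw) haW⟩, (mul_inv_cancel_left w a).symm⟩
    haveI : ((V ⊓ W).subgroupOf W).Normal := (normal_subgroupOf_iff_le_normalizer inf_le_right).2
      fun x hx => mem_normalizer_of fun z hz => by
        rw [hWc x hx z hz.2, mul_inv_cancel_right]; exact hz
    have hidx : ((V ⊓ W).subgroupOf W).index = 2 := by
      have h1 := Cfsg.Agent.PBasic.card_mul_relIndex (inf_le_right : V ⊓ W ≤ W)
      rw [hI, hWm, pow_succ] at h1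
      exact Nat.eq_of_mul_eq_mul_left (pow_pos two_pos m) h1
    have h := (mul_mem_iff_of_index_two hidx (a := (⟨w, hw⟩ : W)⁻¹) (b := ⟨a, haW⟩)).2 (by
      rw [inv_mem_iff, mem_subgroupOf, mem_subgroupOf]
      exact iff_of_false (fun h => hwV h.1) (fun h => haV h.1))
    exact (mem_subgroupOf.1 h).1
  rw [hw', mul_assoc, hVc v' hv'.1 v hv, ← mul_assoc, ← hvw, mul_assoc]

end Cfsg.Agent.SubThree
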