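import Cfsg.Agent.Lib.GW.OuterInvol
import Cfsg.Agent.Lib.Classical.SL2Involutions

/-!
An involutory automorphism of `SL(2, q)`, `q ≥ 5`, centralises more than four elements modulo the
centre.
-/

set_option autoImplicit false

namespace Cfsg.Agent.SubThree

open Matrix Cfsg.Agent.AutPSL Cfsg.Agent.GW

theorem card_comap_mk' {M : Type*} [Group M] [Finite M] (X : Subgroup M) [X.Normal]
    (D : Subgroup (M ⧸ X)) :
    Nat.card (D.comap (QuotientGroup.mk' X)) = Nat.card X * Nat.card D := by
  have h1 := (D.comap (QuotientGroup.mk' X)).card_mul_index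
  rw [Subgroup.index_comap_of_surjective _ (QuotientGroup.mk'_surjective X),
    Subgroup.card_eq_card_quotient_mul_card_subgroup X, ← D.card_mul_index] at h1
  have hpos : 0 < D.index := Nat.pos_of_ne_zero Subgroup.index_ne_zero_of_finite
  exact Nat.eq_of_mul_eq_mul_right hpos (h1.trans (by ring))

variable {F : Type} [Field F] [Fintype F]

local notation "PSL2" => Matrix.ProjectiveSpecialLinearGroup (Fin 2) F
local notation "GL2" => GL (Fin 2) F
local notation "SL2" => Matrix.SpecialLinearGroup (Fin 2) F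
local notation "M2" => Matrix (Fin 2) (Fin 2) F

theorem card_center_le : Nat.card (Subgroup.center SL2) ≤ 2 := by
  classical
  let f : Subgroup.center SL2 → Bool := fun z => decide ((z : SL2) = 1)
  refine le_trans (Nat.card_le_card_of_injective f fun a b h => ?_) (by simp)
  rcases SL2Inv.mem_center_iff.1 a.2 with ha | ha <;> rcases SL2Inv.mem_center_iff.1 b.2 with hb | hb <;>
    simp only [f, decide_eq_decide] at h
  · exact Subtype.ext (ha.trans hb.symm)
  · exact Subtype.ext (ha.trans (h.1 ha).symm)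
  · exact Subtype.ext ((h.2 hb).trans hb.symm)
  · exact Subtype.ext (ha.trans hb.symm)

theorem two_lt_of_three {P : Type*} [Finite P] {p : P → Prop} {a b c : P} (ha : p a) (hb : p b)
    (hc : p c) (hab : a ≠ b) (hac : a ≠ c) (hbc : b ≠ c) : 2 < Nat.card {x // p x} := by
  classical
  haveI : Fintype P := Fintype.ofFinite P
  rw [Nat.card_eq_fintype_card, Fintype.two_lt_card_iff]
  exact ⟨⟨a, ha⟩, ⟨b, hb⟩, ⟨c, hc⟩, fun e => hab (congrArg Subtype.val e),
    fun e => hac (congrArg Subtype.val e), fun e => hbc (congrArg Subtype.val e)⟩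

/-- An involutory automorphism of `PSL(2, q)` with `q ≥ 5` has more than two fixed points. -/
theorem two_lt_fixed (hodd : Odd (Fintype.card F)) (h5 : 5 ≤ Fintype.card F) {α : MulAut PSL2}
    (ha : α * α = 1) : 2 < Nat.card (fixedGroup α) := by
  classical
  have h2 := two_ne_zero_of_odd hodd
  haveI : IsSimpleGroup PSL2 :=
    Matrix.ProjectiveSpecialLinearGroup.rank_two_simple (by rw [Nat.card_eq_fintype_card]; omega)
  by_cases h1 : α = 1
  · subst h1
    rw [show fixedGroup (1 : MulAut PSL2) = ⊤ from eq_top_iff.2 fun x _ => rfl, Subgroup.card_top]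
    have h := (Subgroup.center SL2).card_mul_index
    rw [SL2Inv.card_sl2, Subgroup.index_eq_card, Nat.card_eq_fintype_card (α := F)] at h
    by_contra hcon
    have h3 := Nat.mul_le_mul (card_center_le (F := F)) (not_lt.1 hcon)
    have h4 : Fintype.card F * 1 * 1 ≤ Fintype.card F * (Fintype.card F - 1) * (Fintype.card F + 1) :=
      Nat.mul_le_mul (Nat.mul_le_mul_left _ (by omega)) (by omega)
    nlinarith
  by_cases hf : fldHom α = 1
  swap
  · obtain ⟨x, y, hx, hx1, hy, hy1, hxy, -, hfx, hfy⟩ := field_fix_four hodd ha hf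
    exact two_lt_of_three (map_one α) hfx hfy hx1.symm hy1.symm hxy
  obtain ⟨g, σ, rfl⟩ := exists_semi α
  rw [fldHom_semi] at hf
  subst hf
  by_cases hin : (semi g 1 : MulAut PSL2) ∈ (MulAut.conj : PSL2 →* MulAut PSL2).range
  · obtain ⟨x, hx⟩ := hin
    rw [← hx] at ha h1 ⊢
    have hx1 : x ≠ 1 := fun e => h1 (by rw [e, map_one])
    have hxx : x * x = 1 := by
      have hc : x * x ∈ Subgroup.center PSL2 := Subgroup.mem_center_iff.2 fun y => by
        have h := DFunLike.congr_fun ha y
        simp only [MulAut.mul_apply, MulAut.conj_apply, MulAut.one_apply] at h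
        calc y * (x * x) = (x * (x * y * x⁻¹) * x⁻¹) * (x * x) := by rw [h]
          _ = x * x * y := by group
      rcases IsSimpleGroup.eq_bot_or_eq_top_of_normal (Subgroup.center PSL2) inferInstance with e | e
      · exact Subgroup.mem_bot.1 (e ▸ hc)
      · exfalso
        refine h1 (MulEquiv.ext fun y => ?_)
        have hxc : x ∈ Subgroup.center PSL2 := e ▸ Subgroup.mem_top x
        rw [MulAut.conj_apply, ← Subgroup.mem_center_iff.1 hxc y, mul_inv_cancel_right]
        rfl
    obtain ⟨y, hy, hy1, hyx, hxy⟩ := inner_fix_four h2 hxx hx1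
    refine two_lt_of_three (map_one (MulAut.conj x)) (b := x) (c := y) ?_ ?_ hx1.symm hy1.symm hyx.symm
    · show x * x * x⁻¹ = x
      rw [mul_inv_cancel_right]
    · show x * y * x⁻¹ = y
      rw [hxy, mul_inv_cancel_right]
  -- the diagonal case
  have htr : g.1 1 1 = -g.1 0 0 := by
    have hγ2 := ha
    rw [semi_mul', mapGL_one, one_mul, semi_eq_one_iff le_rfl] at hγ2
    obtain ⟨-, c, hc⟩ := hγ2
    have hc' := congrArg Units.val hc
    rw [Units.val_mul, GeneralLinearGroup.coe_scalar, ← Matrix.ext_iff] at hc'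
    simp [Fin.forall_fin_two, Matrix.mul_apply, Fin.sum_univ_two] at hc'
    obtain ⟨⟨e00, e01⟩, e10, e11⟩ := hc'
    by_contra htr
    have ht : g.1 0 0 + g.1 1 1 ≠ 0 := fun e => htr (by linear_combination e)
    have h01 : g.1 0 1 = 0 := by
      have : g.1 0 1 * (g.1 0 0 + g.1 1 1) = 0 := by linear_combination e01
      exact (mul_eq_zero.1 this).resolve_right ht
    have h10 : g.1 1 0 = 0 := by
      have : g.1 1 0 * (g.1 0 0 + g.1 1 1) = 0 := by linear_combination e10
      exact (mul_eq_zero.1 this).resolve_right ht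
    have hd : g.1 0 0 = g.1 1 1 := by
      have : (g.1 0 0 - g.1 1 1) * (g.1 0 0 + g.1 1 1) = 0 := by linear_combination e00 - e11
      exact sub_eq_zero.1 ((mul_eq_zero.1 this).resolve_right ht)
    refine hin ⟨1, ?_⟩
    rw [map_one, eq_comm, semi_eq_one_iff le_rfl]
    have h00 : g.1 0 0 ≠ 0 := fun e0 =>
      ((Matrix.isUnit_iff_isUnit_det _).1 g.isUnit).ne_zero (by
        rw [Matrix.det_fin_two, e0, h01]; ring)
    refine ⟨rfl, Units.mk0 _ h00, Units.ext (Matrix.ext fun a b => ?_)⟩
    fin_cases a <;> fin_cases b <;> simp [h01, h10, ← hd]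
  obtain ⟨d, hd⟩ : ∃ d, OuterData g d := by
    refine ⟨_, htr, rfl, fun hsq => hin ?_⟩
    rw [semi_mem_inn le_rfl]
    obtain ⟨s, hs⟩ := hsq
    have hdet : g.1.det = s * s := by
      rw [← hs, Matrix.det_fin_two, htr]; ring
    have hs0 : s ≠ 0 := fun e => ((Matrix.isUnit_iff_isUnit_det _).1 g.isUnit).ne_zero (by
      rw [hdet, e, mul_zero])
    exact ⟨Units.mk0 s hs0, Units.ext (by simp [pow_two, hdet])⟩
  have hc := OuterData.card_conic (d := d) h2 hd.d_ne
  rw [OuterData.card_roots h2, ← hd.card_commuting h2] at hc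
  set R := (fixedGroup (semi g 1 : MulAut PSL2)).comap (QuotientGroup.mk' (Subgroup.center SL2))
  have hle : Nat.card {u : SL2 // g.1 * u.1 = u.1 * g.1} ≤ Nat.card R :=
    Nat.card_le_card_of_injective (fun u => ⟨u.1, (semi_fix_iff g u.1).2 (Or.inl u.2)⟩)
      fun a b e => Subtype.ext (congrArg (fun r : R => (r : SL2)) e)
  rw [card_comap_mk'] at hle
  by_contra hcon
  have h4 := hle.trans (Nat.mul_le_mul (card_center_le (F := F)) (not_lt.1 hcon))
  obtain ⟨r, hr⟩ := hodd
  by_cases hs : IsSquare d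
  · rw [if_pos ⟨hs, hd.d_ne⟩] at hc
    have hq : Fintype.card F = 5 := by omega
    obtain ⟨s, hs'⟩ := hs
    obtain ⟨i, hi⟩ := (FiniteField.isSquare_neg_one_iff (F := F)).2 (by rw [hq]; norm_num)
    exact hd.ns ⟨i * s, by linear_combination s * s * hi - hs'⟩
  · rw [if_neg (fun e => hs e.1)] at hc
    omega

/-- An involutory automorphism of `SL(2, q)`, `q ≥ 5`, has more than four elements fixed modulo
the centre. -/
theorem few_fixed (hodd : Odd (Fintype.card F)) (h5 : 5 ≤ Fintype.card F) (f : SL2 ≃* SL2)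
    (hf : ∀ s, f (f s) = s) (hfix : Nat.card {s : SL2 // f s = s} ≤ 2) : False := by
  classical
  set Z := Subgroup.center SL2 with hZ
  have hmap : Z.map f.toMonoidHom = Z := by
    ext x
    rw [Subgroup.mem_map_equiv, hZ, Subgroup.mem_center_iff, Subgroup.mem_center_iff]
    constructor
    · intro h y
      have := congrArg f (h (f.symm y))
      simpa using this
    · intro h y
      apply f.injective
      simpa using h (f y)
  let α : MulAut PSL2 := QuotientGroup.congr Z Z f hmap
  have hα : ∀ s : SL2, α (QuotientGroup.mk' Z s) = QuotientGroup.mk' Z (f s) := fun s => rfl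
  have hα2 : α * α = 1 := by
    refine MulEquiv.ext fun x => ?_
    obtain ⟨s, rfl⟩ := QuotientGroup.mk'_surjective Z x
    rw [MulAut.mul_apply, MulAut.one_apply, hα, hα, hf]
  have h := two_lt_fixed hodd h5 hα2
  set R := (fixedGroup α).comap (QuotientGroup.mk' Z) with hR
  have hcard := card_comap_mk' Z (fixedGroup α)
  have hmem : ∀ s : R, ((s : SL2))⁻¹ * f (s : SL2) ∈ Z := fun s =>
    QuotientGroup.eq.1 ((mem_fixedGroup.1 s.2).symm :)
  let φ : R →* Z :=
    { toFun := fun s => ⟨_, hmem s⟩
      map_one' := Subtype.ext (by simp)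
      map_mul' := fun s s' => Subtype.ext (by
        show ((s : SL2) * s')⁻¹ * f ((s : SL2) * s') = (s : SL2)⁻¹ * f s * ((s' : SL2)⁻¹ * f s')
        rw [map_mul, _root_.mul_inv_rev]
        calc (s' : SL2)⁻¹ * (s : SL2)⁻¹ * (f s * f s')
            = (s' : SL2)⁻¹ * ((s : SL2)⁻¹ * f s) * f s' := by group
          _ = (s : SL2)⁻¹ * f s * (s' : SL2)⁻¹ * f s' := by
              rw [Subgroup.mem_center_iff.1 (hmem s) ((s' : SL2)⁻¹)]
          _ = _ := by group) }
  have h1 := φ.ker.card_mul_index
  rw [Subgroup.index_ker] at h1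
  have h2 : Nat.card φ.ker ≤ 2 := le_trans
    (Nat.card_le_card_of_injective
      (fun s => (⟨((s : R) : SL2), (inv_mul_eq_one.1 (congrArg Subtype.val s.2 :)).symm⟩ :
        {s : SL2 // f s = s}))
      fun a b e => Subtype.ext (Subtype.ext (congrArg Subtype.val e :))) hfix
  have h3 : Nat.card φ.range ≤ Nat.card Z := Nat.card_le_card_of_injective _ Subtype.val_injective
  have h4 : Nat.card φ.ker * Nat.card φ.range ≤ 2 * Nat.card Z := Nat.mul_le_mul h2 h3
  have hpos : 0 < Nat.card Z := Nat.card_pos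
  rw [h1, hcard] at h4
  nlinarith

end Cfsg.Agent.SubThree
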