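import Cfsg.Agent.Lib.MinNonCA.Tools
import Mathlib.GroupTheory.PGroup
import Mathlib.Algebra.Group.Subgroup.Order

/-!
Insoluble groups with a soluble maximal subgroup having trivial core.
-/

set_option autoImplicit false
set_option linter.style.haveILetI false
set_option linter.unusedSectionVars false

namespace Cfsg.Agent.SubThree

open Subgroup

universe u

variable {G : Type u} [Group G] [Finite G]

/-- A soluble maximal core-free subgroup of an insoluble group. -/
structure Prim (A : Subgroup G) : Prop where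
  max : IsCoatom A
  core : ∀ N : Subgroup G, N.Normal → N ≤ A → N = ⊥
  insol : ¬ Group.IsSolvable G
  solA : Group.IsSolvable A

/-- The conjugate of a subgroup. -/
def cj (g : G) (H : Subgroup G) : Subgroup G := H.map (MulAut.conj g).toMonoidHom

theorem mem_cj {g x : G} {H : Subgroup G} : x ∈ cj g H ↔ g⁻¹ * x * g ∈ H := by
  rw [cj, mem_map_equiv, MulAut.conj_symm_apply]

theorem cj_mem {g x : G} {H : Subgroup G} (hx : x ∈ H) : g * x * g⁻¹ ∈ cj g H := ⟨x, hx, rfl⟩

theorem cj_mono {g : G} {H K : Subgroup G} (h : H ≤ K) : cj g H ≤ cj g K := map_mono h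

theorem card_cj (g : G) (H : Subgroup G) : Nat.card (cj g H) = Nat.card H :=
  card_map_of_injective (MulAut.conj g).injective

theorem cj_cj (g h : G) (H : Subgroup G) : cj g (cj h H) = cj (g * h) H := by
  rw [cj, cj, cj, Subgroup.map_map]
  congr 1
  ext v
  simp [mul_assoc]

theorem mem_normalizer_of {H : Subgroup G} {x : G} (h : ∀ y ∈ H, x * y * x⁻¹ ∈ H) :
    x ∈ normalizer (H : Set G) := by
  have hle : cj x H ≤ H := by
    rintro _ ⟨y, hy, rfl⟩
    exact h y hy
  have he : cj x H = H := eq_of_le_of_card_ge hle (card_cj x H).ge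
  refine mem_normalizer_iff.2 fun y => ⟨h y, fun hy => ?_⟩
  rw [← he, mem_cj] at hy
  simpa [mul_assoc] using hy

theorem conj_mem_normalizer {H : Subgroup G} {x y : G} (hx : x ∈ normalizer (H : Set G))
    (hy : y ∈ H) : x * y * x⁻¹ ∈ H := (mem_normalizer_iff.1 hx y).1 hy

theorem cj_of_mem_normalizer {H : Subgroup G} {x : G} (hx : x ∈ normalizer (H : Set G)) :
    cj x H = H := by
  refine eq_of_le_of_card_ge ?_ (card_cj x H).ge
  rintro _ ⟨y, hy, rfl⟩
  exact conj_mem_normalizer hx hy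

theorem mem_cent_singleton {x y : G} : y ∈ centralizer ({x} : Set G) ↔ y * x = x * y :=
  mem_centralizer_singleton_iff

/-- The fixed points of a 2-group on a subgroup of even order. -/
theorem exists_fix {P N : Subgroup G} (hP : IsPGroup 2 P) (hn : P ≤ normalizer (N : Set G))
    (h2 : 2 ∣ Nat.card N) : ∃ x ∈ N, x ≠ 1 ∧ ∀ p ∈ P, p * x = x * p := by
  haveI : Fact (Nat.Prime 2) := ⟨Nat.prime_two⟩
  letI : MulAction P N :=
    { smul := fun p n => ⟨(p : G) * n * (p : G)⁻¹, conj_mem_normalizer (hn p.2) n.2⟩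
      one_smul := fun n => Subtype.ext (by show (1 : G) * n * (1 : G)⁻¹ = n; group)
      mul_smul := fun p q n => Subtype.ext (by
        show ((p : G) * q) * n * ((p : G) * q)⁻¹ = p * (q * n * (q : G)⁻¹) * (p : G)⁻¹
        group) }
  have h1 : (1 : N) ∈ MulAction.fixedPoints P N := fun p => Subtype.ext (by
    show (p : G) * (1 : G) * (p : G)⁻¹ = 1
    group)
  obtain ⟨x, hx, hx1⟩ := hP.exists_fixed_point_of_prime_dvd_card_of_fixed_point N h2 h1
  refine ⟨x, x.2, fun e => hx1 (Subtype.ext e).symm, fun p hp => ?_⟩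
  exact mul_inv_eq_iff_eq_mul.1 (congrArg Subtype.val (hx ⟨p, hp⟩))

/-- A group of odd order has a subgroup with an involutory fixed point, of even order. -/
theorem fix_even {z : G} {N : Subgroup G} (hz : z * z = 1) (hn : z ∈ normalizer (N : Set G))
    (h2 : 2 ∣ Nat.card N) : ∃ x ∈ N, x ≠ 1 ∧ z * x = x * z := by
  haveI : Fact (Nat.Prime 2) := ⟨Nat.prime_two⟩
  have hP : IsPGroup 2 (zpowers z) := by
    rintro ⟨y, hy⟩
    obtain ⟨i, rfl⟩ := mem_zpowers_iff.1 hy
    refine ⟨1, Subtype.ext ?_⟩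
    show (z ^ i) ^ 2 ^ 1 = 1
    rw [← zpow_natCast, ← zpow_mul, mul_comm, zpow_mul, zpow_natCast, pow_one, pow_two, hz, one_zpow]
  obtain ⟨x, hx, hx1, hc⟩ := exists_fix hP (zpowers_le.2 hn) h2
  exact ⟨x, hx, hx1, hc z (mem_zpowers z)⟩

namespace Prim

variable {A : Subgroup G} (P : Prim A)
include P

theorem ne_top : A ≠ ⊤ := P.max.1

theorem norm_eq {K : Subgroup G} (hK : K ≤ A) (hK1 : K ≠ ⊥) (hn : A ≤ normalizer (K : Set G)) :
    normalizer (K : Set G) = A :=
  (P.max.le_iff.1 hn).resolve_left fun h => hK1 (P.core K (normalizer_eq_top_iff.1 h) hK)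

theorem cent_eq {z : G} (hz : z ∈ A) (hz1 : z ≠ 1) (hc : ∀ a ∈ A, a * z = z * a) :
    centralizer ({z} : Set G) = A := by
  refine (P.max.le_iff.1 fun a ha => mem_cent_singleton.2 (hc a ha)).resolve_left fun h => ?_
  refine hz1 (zpowers_eq_bot.1 (P.core (zpowers z) ⟨fun n hn g => ?_⟩ (zpowers_le.2 hz)))
  have hg : g * z = z * g := mem_cent_singleton.1 (h ▸ Subgroup.mem_top g)
  obtain ⟨i, rfl⟩ := mem_zpowers_iff.1 hn
  rw [(Commute.zpow_right hg i).eq, mul_inv_cancel_right]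
  exact zpow_mem (mem_zpowers z) i

theorem sup_top {N : Subgroup G} [hN : N.Normal] (h : N ≠ ⊥) : N ⊔ A = ⊤ :=
  P.max.2 _ (lt_of_le_of_ne le_sup_right fun e => h (P.core N hN (le_sup_left.trans e.ge)))

theorem top_of_le {N : Subgroup G} [N.Normal] (h : N ≠ ⊥) (hA : A ≤ N) : N = ⊤ := by
  rw [← P.sup_top h, sup_eq_left.2 hA]

/-- Every element is a product from the normal subgroup and the maximal one. -/
theorem exists_mul {N : Subgroup G} [N.Normal] (h : N ≠ ⊥) (x : G) :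
    ∃ n ∈ N, ∃ a ∈ A, x = n * a := by
  have hx : x ∈ (↑(N ⊔ A) : Set G) := P.sup_top h ▸ Subgroup.mem_top x
  rw [normal_mul] at hx
  obtain ⟨n, hn, a, ha, rfl⟩ := hx
  exact ⟨n, hn, a, ha, rfl⟩

theorem insol_normal {N : Subgroup G} [N.Normal] (h : N ≠ ⊥) : ¬ Group.IsSolvable N := by
  intro hs
  refine P.insol (MinNonCA.solvable_ext N hs ?_)
  haveI := P.solA
  refine Group.isSolvable_of_surjective (f := (QuotientGroup.mk' N).comp A.subtype) fun q => ?_
  induction q using QuotientGroup.induction_on with | _ x => ?_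
  obtain ⟨n, hn, a, ha, rfl⟩ := P.exists_mul h x
  exact ⟨⟨a, ha⟩, QuotientGroup.eq.2 (by
    show a⁻¹ * (n * a) ∈ N
    rw [← mul_assoc]
    simpa using (inferInstance : N.Normal).conj_mem n hn a⁻¹)⟩

theorem two_dvd {N : Subgroup G} [N.Normal] (h : N ≠ ⊥) : 2 ∣ Nat.card N :=
  by_contra fun hc => P.insol_normal h
    (MinNonCA.solvable_of_odd (Nat.odd_iff.2 (Nat.two_dvd_ne_zero.1 hc)))

theorem not_cyclic {N : Subgroup G} [N.Normal] (h : N ≠ ⊥) (Q : Sylow 2 N) :
    ¬ IsCyclic (Q : Subgroup N) := fun hc => P.insol_normal h (MinNonCA.solvable_of_cyclic Q hc)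

theorem meet_normal {N : Subgroup G} [N.Normal] : A ≤ normalizer ((N ⊓ A : Subgroup G) : Set G) :=
  fun a ha => mem_normalizer_of fun y hy =>
    ⟨(inferInstance : N.Normal).conj_mem y hy.1 a, A.mul_mem (A.mul_mem ha hy.2) (A.inv_mem ha)⟩

theorem meet_fix {N : Subgroup G} [N.Normal] (h : N ≠ ⊥) {z : G} (hz : z * z = 1)
    (hC : centralizer ({z} : Set G) ≤ A) : N ⊓ A ≠ ⊥ := by
  obtain ⟨x, hx, hx1, hc⟩ := fix_even hz (normalizer_eq_top (H := N) ▸ Subgroup.mem_top z) (P.two_dvd h)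
  exact fun e => hx1 (mem_bot.1 (e ▸ ⟨hx, hC (mem_cent_singleton.2 hc.symm)⟩))

theorem centralizer_bot {N : Subgroup G} [N.Normal] [IsSimpleGroup N] (hidx : N.index = 2)
    (hV : ∀ M : Subgroup G, M.Normal → M ≠ ⊥ → M ⊓ N ≠ ⊥) : centralizer (N : Set G) = ⊥ := by
  have hN : N ≠ ⊥ := fun e => P.insol (MinNonCA.solvable_ext N
    (by rw [e]; infer_instance) (by
      haveI : Fact (Nat.Prime 2) := ⟨Nat.prime_two⟩
      exact MinNonCA.solvable_of_twoGroup (IsPGroup.of_card (n := 1) (by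
        rw [← index_eq_card, hidx, pow_one]))))
  by_contra hC
  haveI : (centralizer (N : Set G)).Normal := inferInstance
  obtain ⟨⟨x, hx⟩, hx1'⟩ := ne_bot_iff_exists_ne_one.1 (hV _ inferInstance hC)
  have hx1 : x ≠ 1 := fun e => hx1' (Subtype.ext e)
  -- `N` has nontrivial centre
  have hz : (⟨x, hx.2⟩ : N) ∈ Subgroup.center N := mem_center_iff.2 fun n =>
    Subtype.ext (mem_centralizer_iff.1 hx.1 n n.2)
  rcases IsSimpleGroup.eq_bot_or_eq_top_of_normal (Subgroup.center N) inferInstance with e | e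
  · rw [e, mem_bot] at hz
    exact hx1 (congrArg Subtype.val hz)
  · exact P.insol_normal hN (Group.isSolvable_of_comm fun a b =>
      mem_center_iff.1 (e ▸ Subgroup.mem_top b) a)

theorem cj_prim (g : G) : IsCoatom (cj g A) :=
  (OrderIso.isCoatom_iff (MulAut.conj g).mapSubgroup A).2 P.max

end Prim

/-- A subgroup of index two with an outer involution having a soluble fixed group is simple. -/
theorem simple_of_pair {A N : Subgroup G} [hN : N.Normal] (P : Prim A) (hNb : N ≠ ⊥)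
    (hidx : N.index = 2) {z : G} (hzN : z ∉ N) (hzz : z * z = 1)
    (hcent : centralizer ({z} : Set G) = A) (hsol : Group.IsSolvable (N ⊓ A : Subgroup G))
    (hbelow : ∀ K : Subgroup G, K.Normal → K ≠ ⊥ → K ≤ N → K = N) : IsSimpleGroup N := by
  haveI : Nontrivial N := (Subgroup.nontrivial_iff_ne_bot _).2 hNb
  have hzi : z⁻¹ = z := inv_eq_of_mul_eq_one_right hzz
  have hcov : ∀ g : G, g ∈ N ∨ g * z ∈ N := fun g => by
    by_cases hg : g ∈ N
    · exact Or.inl hg
    · exact Or.inr ((mul_mem_iff_of_index_two hidx).2 (by tauto))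
  -- subgroups normalised by `N` and `z`
  have hnormal : ∀ K : Subgroup G, (∀ n ∈ N, ∀ k ∈ K, n * k * n⁻¹ ∈ K) →
      (∀ k ∈ K, z * k * z⁻¹ ∈ K) → K.Normal := by
    intro K hn hz
    refine ⟨fun k hk g => ?_⟩
    rcases hcov g with hg | hg
    · exact hn g hg k hk
    · have h := hn _ hg _ (hz k hk)
      have e : g * k * g⁻¹ = g * z * (z * k * z⁻¹) * (g * z)⁻¹ := by
        simp only [mul_inv_rev, hzi, mul_assoc]
        simp only [← mul_assoc z z, hzz, one_mul]
      rwa [e]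
  refine ⟨fun M hM => or_iff_not_imp_left.2 fun hMb => ?_⟩
  set M₁ : Subgroup G := M.map N.subtype with hM₁
  have hM₁N : M₁ ≤ N := map_subtype_le _
  have hM₁n : ∀ n ∈ N, ∀ k ∈ M₁, n * k * n⁻¹ ∈ M₁ := by
    rintro n hn _ ⟨m, hm, rfl⟩
    exact ⟨⟨n, hn⟩ * m * ⟨n, hn⟩⁻¹, hM.conj_mem m hm _, rfl⟩
  set M₂ : Subgroup G := cj z M₁ with hM₂
  have hM₂N : M₂ ≤ N := by
    rintro _ ⟨k, hk, rfl⟩
    exact hN.conj_mem k (hM₁N hk) z
  have hM₂n : ∀ n ∈ N, ∀ k ∈ M₂, n * k * n⁻¹ ∈ M₂ := by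
    intro n hn k hk
    rw [mem_cj] at hk ⊢
    have h := hM₁n _ (hN.conj_mem n hn z) _ hk
    simp only [mul_inv_rev, hzi, mul_assoc] at h ⊢
    simp only [← mul_assoc z z, hzz, one_mul] at h
    exact h
  have hswap : ∀ k, k ∈ M₁ ↔ z * k * z⁻¹ ∈ M₂ := fun k => by
    rw [mem_cj, hzi]
    simp only [mul_assoc, ← mul_assoc z z, hzz, one_mul, mul_one]
  have hswap' : ∀ k, k ∈ M₂ ↔ z * k * z⁻¹ ∈ M₁ := fun k => by rw [mem_cj, hzi]
  by_cases hK : M₁ ⊓ M₂ = ⊥
  swap
  · have hKn : (M₁ ⊓ M₂).Normal := hnormal _ (fun n hn k hk => ⟨hM₁n n hn k hk.1, hM₂n n hn k hk.2⟩)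
      fun k hk => ⟨(hswap' k).1 hk.2, (hswap k).1 hk.1⟩
    have := hbelow _ hKn hK (inf_le_left.trans hM₁N)
    refine eq_top_iff.2 fun n _ => ?_
    have hn : (n : G) ∈ M₁ := (this.ge n.2).1
    exact (mem_map_iff_mem N.subtype_injective).1 hn
  exfalso
  have hcomm : ∀ a ∈ M₁, ∀ b ∈ M₂, a * b = b * a := by
    intro a ha b hb
    rw [← commutatorElement_eq_one_iff_mul_comm, ← mem_bot, ← hK]
    refine Subgroup.mem_inf.2 ⟨?_, ?_⟩
    · have h : a * (b * a⁻¹ * b⁻¹) ∈ M₁ := mul_mem ha (hM₁n b (hM₂N hb) _ (inv_mem ha))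
      rw [commutatorElement_def]
      simpa only [mul_assoc] using h
    · rw [commutatorElement_def]
      exact mul_mem (hM₂n a (hM₁N ha) b hb) (inv_mem hb)
  have hmem : ∀ m : M₁, (m : G) * (z * m * z⁻¹) ∈ N ⊓ A := fun m => by
    refine Subgroup.mem_inf.2 ⟨mul_mem (hM₁N m.2) (hN.conj_mem _ (hM₁N m.2) z), ?_⟩
    rw [← hcent, mem_cent_singleton]
    have h := hcomm m m.2 _ ((hswap m).1 m.2)
    rw [hzi] at h ⊢
    calc (m : G) * (z * m * z) * z = (m : G) * (z * m) * (z * z) := by simp only [mul_assoc]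
      _ = (m : G) * (z * m) := by rw [hzz, mul_one]
      _ = z * z * m * (z * m) := by rw [hzz, one_mul]
      _ = z * (z * m * z * m) := by simp only [mul_assoc]
      _ = z * ((m : G) * (z * m * z)) := by rw [h]
  let f : M₁ →* (N ⊓ A : Subgroup G) :=
    { toFun := fun m => ⟨_, hmem m⟩
      map_one' := Subtype.ext (by simp)
      map_mul' := fun a b => Subtype.ext (by
        show ((a : G) * b) * (z * ((a : G) * b) * z⁻¹) =
          ((a : G) * (z * a * z⁻¹)) * ((b : G) * (z * b * z⁻¹))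
        calc ((a : G) * b) * (z * ((a : G) * b) * z⁻¹)
            = (a : G) * ((b : G) * (z * a * z⁻¹)) * (z * b * z⁻¹) := by group
          _ = (a : G) * ((z * a * z⁻¹) * b) * (z * b * z⁻¹) := by
              rw [hcomm b b.2 _ ((hswap a).1 a.2)]
          _ = _ := by group) }
  have hf : Function.Injective f := by
    refine (injective_iff_map_eq_one f).2 fun m hm => Subtype.ext (mem_bot.1 (hK ▸ Subgroup.mem_inf.2 ⟨m.2, ?_⟩))
    have h : (m : G) = (z * m * z⁻¹)⁻¹ := eq_inv_of_mul_eq_one_left (congrArg Subtype.val hm)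
    rw [h]
    exact inv_mem ((hswap m).1 m.2)
  have hs1 : Group.IsSolvable M₁ := Group.isSolvable_of_isSolvable_injective (f := f) hf
  have hs2 : Group.IsSolvable M₂ := by
    haveI := hs1
    exact Group.isSolvable_of_surjective
      (f := (M₁.equivMapOfInjective (MulAut.conj z).toMonoidHom (MulAut.conj z).injective).toMonoidHom)
      (MulEquiv.surjective _)
  have hM₂cov : ∀ n ∈ N, ∃ a ∈ M₁, ∃ b ∈ M₂, n = a * b := by
    have hsup : (M₁ ⊔ M₂) = N := by
      refine hbelow _ (hnormal _ ?_ ?_) (fun e => hMb ?_) (sup_le hM₁N hM₂N)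
      · intro n hn k hk
        have hle : cj n (M₁ ⊔ M₂) ≤ M₁ ⊔ M₂ := by
          rw [cj, Subgroup.map_sup]
          exact sup_le_sup (by rintro _ ⟨y, hy, rfl⟩; exact hM₁n n hn y hy)
            (by rintro _ ⟨y, hy, rfl⟩; exact hM₂n n hn y hy)
        exact hle (cj_mem hk)
      · intro k hk
        have hle : cj z (M₁ ⊔ M₂) ≤ M₁ ⊔ M₂ := by
          rw [cj, Subgroup.map_sup]
          refine sup_le ?_ ?_
          · exact le_sup_right
          · rintro _ ⟨y, hy, rfl⟩
            exact mem_sup_left ((hswap' y).1 hy)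
        exact hle (cj_mem hk)
      · exact (map_eq_bot_iff_of_injective _ N.subtype_injective).1 (le_bot_iff.1 (e ▸ le_sup_left))
    intro n hn
    have : n ∈ (↑(M₁ ⊔ M₂) : Set G) := hsup.symm ▸ hn
    rw [coe_mul_of_right_le_normalizer_left _ _ (fun b hb =>
      mem_normalizer_of (hM₁n b (hM₂N hb)))] at this
    obtain ⟨a, ha, b, hb, rfl⟩ := this
    exact ⟨a, ha, b, hb, rfl⟩
  refine P.insol_normal hNb (MinNonCA.solvable_ext M ?_ ?_)
  · haveI := hs1
    exact Group.isSolvable_of_surjective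
      (f := (M.equivMapOfInjective N.subtype N.subtype_injective).symm.toMonoidHom) (MulEquiv.surjective _)
  · haveI := hs2
    refine Group.isSolvable_of_surjective
      (f := (QuotientGroup.mk' M).comp (inclusion hM₂N)) fun q => ?_
    induction q using QuotientGroup.induction_on with | _ n => ?_
    obtain ⟨a, ha, b, hb, e⟩ := hM₂cov n n.2
    refine ⟨⟨b, hb⟩, QuotientGroup.eq.2 ?_⟩
    have hh : (((inclusion hM₂N ⟨b, hb⟩)⁻¹ * n : N) : G) = b⁻¹ * a * b⁻¹⁻¹ := by
      rw [Subgroup.coe_mul, Subgroup.coe_inv, e, inv_inv, mul_assoc]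
      rfl
    refine (mem_map_iff_mem N.subtype_injective).1 ?_
    show (((inclusion hM₂N ⟨b, hb⟩)⁻¹ * n : N) : G) ∈ M₁
    rw [hh]
    exact hM₁n b⁻¹ (inv_mem (hM₂N hb)) a ha

end Cfsg.Agent.SubThree
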