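import Cfsg.Agent.Lib.SubThree.SDModel
import Cfsg.Agent.Lib.SylowSplit.Sections
import Cfsg.Agent.Lib.EightAut.Chars
import Cfsg.Agent.Lib.Char.Induction

/-!
Constituents of the special generalised characters of an involution centraliser with quotient
`GL(2,3)` modulo its core lie in the principal block.
-/

set_option autoImplicit false
set_option linter.style.haveILetI false
set_option linter.unusedSectionVars false
set_option synthInstance.maxSize 4000
set_option maxRecDepth 100000

namespace Cfsg.Agent.SubThree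

open Cfsg Cfsg.Agent.Char Cfsg.Agent.Blocks Cfsg.Agent.GLTwoThree
open scoped ComplexConjugate

universe u

variable {G : Type u} [Group G] [Finite G] {t : G}

/-- The centraliser of an element. -/
abbrev cen (t : G) : Subgroup G := Subgroup.centralizer ({t} : Set G)


/-- The involution, in its centraliser. -/
def tc : (cen t) := ⟨t, Subgroup.mem_centralizer_singleton_iff.2 rfl⟩

variable (ht : orderOf t = 2) (O : Subgroup (cen t)) [O.Normal] (hO : Odd (Nat.card O))
  (e : (cen t) ⧸ O ≃* Matrix.GeneralLinearGroup (Fin 2) (ZMod 3))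

include ht in
theorem tc_sq : (tc : (cen t)) * tc = 1 := by
  refine Subtype.ext ?_
  show t * t = 1
  rw [← pow_two, ← ht, pow_orderOf_eq_one]

include ht hO in
theorem tc_not_mem : (tc : (cen t)) ∉ O := fun h => by
  have h1 := O.orderOf_dvd_natCard h
  rw [← Subgroup.orderOf_coe] at h1
  have h2 : (2 : ℕ) ∣ Nat.card O := by rw [← ht]; exact h1
  exact (Nat.not_even_iff_odd.2 hO) (even_iff_two_dvd.2 h2)

include ht hO in
theorem im_tc : im O e tc = negOne := by
  have key : ∀ v ∈ U, mul v v = one → (∀ x ∈ U, mul v x = mul x v) → v = one ∨ v = negOne := by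
    decide +kernel
  refine (key _ (im_mem O e _) ?_ ?_).resolve_left fun h => tc_not_mem ht O hO ((im_eq_one O e).1 h)
  · rw [← im_mul, tc_sq ht, im_one]
  · intro x hx
    obtain ⟨c, rfl⟩ := im_surj O e hx
    rw [← im_mul, ← im_mul]
    exact congrArg _ (Subtype.ext (Subgroup.mem_centralizer_singleton_iff.1 c.2).symm)

include ht hO in
/-- An involution of the centraliser over `-1` is `t`. -/
theorem eq_t_of_im {z : (cen t)} (hz : ∃ k, orderOf z = 2 ^ k) (hv : im O e z = negOne) : z = tc := by
  have h0 : z⁻¹ * tc ∈ O := (im_eq_iff O e).1 (hv.trans (im_tc ht O hO e).symm)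
  have hcomm : Commute z tc :=
    Subtype.ext (Subgroup.mem_centralizer_singleton_iff.1 z.2)
  have hp : IsPGroup 2 (Subgroup.zpowers z ⊔ Subgroup.zpowers (tc : (cen t)) : Subgroup (cen t)) := by
    obtain ⟨k, hk⟩ := hz
    refine IsPGroup.to_sup_of_normal_right' (IsPGroup.of_card (n := k) (by rw [Nat.card_zpowers, hk]))
      (IsPGroup.of_card (n := 1) (by
        rw [Nat.card_zpowers, ← Subgroup.orderOf_coe]; exact ht.trans (pow_one 2).symm)) ?_
    rw [Subgroup.zpowers_le, Subgroup.mem_normalizer_iff]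
    intro h
    constructor
    · intro hh
      obtain ⟨i, rfl⟩ := Subgroup.mem_zpowers_iff.1 hh
      rw [(hcomm.zpow_right i).eq, mul_inv_cancel_right]
      exact hh
    · intro hh
      obtain ⟨i, hi⟩ := Subgroup.mem_zpowers_iff.1 hh
      have : h = tc ^ i := by
        have e1 : z⁻¹ * (z * h * z⁻¹) * z = h := by group
        rw [← e1, ← hi, (hcomm.zpow_right i).inv_left.eq, inv_mul_cancel_right]
      rw [this]
      exact Subgroup.mem_zpowers_iff.2 ⟨i, rfl⟩
  obtain ⟨k, hk⟩ := IsPGroup.iff_orderOf.1 hp ⟨z⁻¹ * tc,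
    mul_mem (inv_mem (Subgroup.mem_sup_left (Subgroup.mem_zpowers z)))
      (Subgroup.mem_sup_right (Subgroup.mem_zpowers _))⟩
  rw [Subgroup.orderOf_mk] at hk
  have h1 := O.orderOf_dvd_natCard h0
  rw [hk] at h1
  rcases Nat.eq_zero_or_pos k with rfl | hk0
  · exact inv_mul_eq_one.1 (orderOf_eq_one_iff.1 (hk.trans (pow_zero 2)))
  · exact absurd (even_iff_two_dvd.2 ((dvd_pow_self 2 hk0.ne').trans h1)) (Nat.not_even_iff_odd.2 hO)

/-- The generalised characters, inflated. -/
noncomputable def theta' (k : Fin 5) : (cen t) → ℂ := fun c => theta e k (QuotientGroup.mk' O c)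

theorem theta'_off (k : Fin 5) (c : (cen t)) (h : ¬ inD (im O e c)) : theta' O e k c = 0 := by
  rw [theta', theta, (val_off k _ (co'_mem e _)).resolve_left h]
  simp [ev]

theorem theta'_congr (k : Fin 5) {a b : (cen t)} (h : im O e a = im O e b) :
    theta' O e k a = theta' O e k b := by
  simp only [theta', theta]
  exact congrArg (fun v => ev (val k (cls v))) h

/-- The quaternion subgroup of the quotient. -/
def qsub : Subgroup ((cen t) ⧸ O) where
  carrier := {x | InQ (co' e x)}
  one_mem' := by
    show InQ (co' e 1)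
    rw [co'_one]; exact InQ_check.1
  mul_mem' {a b} ha hb := by
    show InQ (co' e (a * b))
    rw [co'_mul]; exact InQ_check.2.1 _ (co'_mem e a) _ (co'_mem e b) ha hb
  inv_mem' {a} ha := by
    show InQ (co' e a⁻¹)
    rw [co'_inv]; exact InQ_check.2.2.1 _ (co'_mem e a) ha

instance qsub_normal : (qsub O e).Normal := by
  refine ⟨fun n hn g => ?_⟩
  show InQ (co' e (g * n * g⁻¹))
  rw [show g * n * g⁻¹ = (g⁻¹)⁻¹ * n * g⁻¹ by rw [inv_inv], co'_conj]
  exact InQ_check.2.2.2.1 _ (co'_mem e _) _ (co'_mem e n) hn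

theorem qsub_isPGroup : IsPGroup 2 (qsub O e) := fun x => ⟨2, Subtype.ext (co'_injective e (by
  rw [Subgroup.coe_pow, co'_pow, Subgroup.coe_one, co'_one]
  exact x.2.2))⟩

theorem qsub_centralizer : Subgroup.centralizer (qsub O e : Set ((cen t) ⧸ O)) ≤ qsub O e := by
  intro x hx
  refine InQ_check.2.2.2.2 _ (co'_mem e x) fun v hv hvQ => ?_
  obtain ⟨y, rfl⟩ := co'_surj e hv
  rw [← co'_mul, ← co'_mul, ← Subgroup.mem_centralizer_iff.1 hx y hvQ]

variable [Fintype G] {M : Ideal AlgInt} [M.IsPrime]

include ht hO in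
/-- A constituent lies in the principal block. -/
theorem mem_block (hM : IsPModular 2 M) [Fintype (cen t)] (k : Fin 5) {ψ : IrrCharacter G}
    (hne : classInner (theta' O e k) (fun c : (cen t) => (ψ : G → ℂ) c) ≠ 0) :
    ψ ∈ principalBlock M G := by
  classical
  haveI : Fintype ((cen t) ⧸ O) := Fintype.ofFinite _
  by_contra hψ
  refine hne (mul_eq_zero_of_right _ ?_)
  set f : G → ℂ := fun g => extendByZero (cen t) (theta' O e k) g * conj ((ψ : G → ℂ) g) with hf
  have hsum : ∑ c : (cen t), theta' O e k c * conj ((ψ : G → ℂ) c) = ∑ g : G, f g := by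
    refine Fintype.sum_of_injective (fun c : (cen t) => (c : G)) Subtype.val_injective _ _ (fun g hg => ?_)
      (fun c => ?_)
    · rw [hf]
      simp only [extendByZero_not_mem (cen t) (theta' O e k) (fun h => hg ⟨⟨g, h⟩, rfl⟩), zero_mul]
    · simp only [hf, extendByZero_coe]
  rw [hsum, SylowSplit.sum_sections]
  refine Finset.sum_eq_zero fun y hy => ?_
  have hy2 := SylowSplit.mem_twoElts.1 hy
  have hmem : ∀ s ∈ SylowSplit.regSet y, y * s ∈ (cen t) → y ∈ (cen t) ∧ s ∈ (cen t) := by
    intro s hs h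
    obtain ⟨hc, hodd⟩ := SylowSplit.mem_regSet.1 hs
    obtain ⟨j, hj⟩ := hy2
    have hys : (y * s) ^ orderOf s = y ^ orderOf s := by
      rw [hc.symm.mul_pow, pow_orderOf_eq_one, mul_one]
    have hco : (orderOf y).Coprime (orderOf s) := by
      rw [hj]; exact (Nat.prime_two.coprime_iff_not_dvd.2 hodd).pow_left j
    obtain ⟨m, hm⟩ := exists_pow_eq_self_of_coprime hco.symm
    have hyC : y ∈ (cen t) := by
      rw [← hm, ← hys]
      exact pow_mem (pow_mem h _) _
    exact ⟨hyC, by simpa using mul_mem (inv_mem hyC) h⟩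
  by_cases hyC : y ∈ (cen t)
  swap
  · refine Finset.sum_eq_zero fun s hs => ?_
    simp only [hf, extendByZero_not_mem (cen t) (theta' O e k) (fun h => hyC (hmem s hs h).1), zero_mul]
  set yc : (cen t) := ⟨y, hyC⟩ with hycdef
  have hyc2 : ∃ j, orderOf yc = 2 ^ j := by simpa [hycdef, Subgroup.orderOf_mk] using hy2
  by_cases hv : im O e yc = negOne
  · have hyt : yc = tc := eq_t_of_im ht O hO e hyc2 hv
    have hyt' : y = t := congrArg Subtype.val hyt
    rw [hyt']
    set P : (cen t) ⧸ O → Prop := fun a => EightAut.Good (tc : (cen t)) a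
    have h1 : ∑ s ∈ SylowSplit.regSet t, f (t * s) =
        ∑ c ∈ Finset.univ.filter (fun c : (cen t) => P (QuotientGroup.mk' O c)),
          theta' O e k c * conj ((ψ : G → ℂ) c) := by
      symm
      refine Finset.sum_bij (fun c _ => ((tc * c : (cen t)) : G)) (fun c hc => ?_)
        (fun a _ b _ h => mul_left_cancel (Subtype.ext h)) (fun s hs => ?_) (fun c _ => ?_)
      · refine SylowSplit.mem_regSet.2 ⟨Subgroup.mem_centralizer_singleton_iff.1 (tc * c).2, ?_⟩
        rw [Subgroup.orderOf_coe]
        exact EightAut.not_dvd_orderOf_of_good (fun h => (Nat.not_even_iff_odd.2 hO)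
          (even_iff_two_dvd.2 h)) (Finset.mem_filter.1 hc).2 rfl
      · obtain ⟨hc, hodd⟩ := SylowSplit.mem_regSet.1 hs
        have hsC : s ∈ (cen t) := Subgroup.mem_centralizer_singleton_iff.2 hc
        refine ⟨tc * ⟨s, hsC⟩, Finset.mem_filter.2 ⟨Finset.mem_univ _, ?_⟩, ?_⟩
        · show (QuotientGroup.mk' O tc * QuotientGroup.mk' O (tc * ⟨s, hsC⟩)) ^ 3 = 1
          rw [← map_mul, ← mul_assoc, tc_sq ht, one_mul]
          refine co'_injective e ?_
          rw [co'_pow, co'_one]
          exact cube_of_odd O e (by rwa [Subgroup.orderOf_mk])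
        · rw [← mul_assoc, tc_sq ht, one_mul]
      · have e1 : t * ((tc * c : (cen t)) : G) = (c : G) := by
          have := congrArg (fun z : (cen t) => ((z * c : (cen t)) : G)) (tc_sq ht)
          simpa [tc, mul_assoc] using this
        simp only [hf, e1, extendByZero_coe]
    rw [h1, ← Finset.sum_fiberwise_of_maps_to (t := Finset.univ.filter P)
      (g := QuotientGroup.mk' O) (fun c hc => Finset.mem_filter.2
        ⟨Finset.mem_univ _, (Finset.mem_filter.1 hc).2⟩)]
    refine Finset.sum_eq_zero fun a ha => ?_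
    have hgood := (Finset.mem_filter.1 ha).2
    obtain ⟨c₀, hc₀⟩ := QuotientGroup.mk'_surjective O a
    have hset : (Finset.univ.filter (fun c : (cen t) => P (QuotientGroup.mk' O c))).filter
        (fun c => QuotientGroup.mk' O c = a) = EightAut.fib a := by
      ext c
      rw [EightAut.mem_fib, Finset.mem_filter, Finset.mem_filter]
      exact ⟨fun h => h.2, fun h => ⟨⟨Finset.mem_univ _, h ▸ hgood⟩, h⟩⟩
    rw [hset, Finset.sum_congr rfl (g := fun c : (cen t) => theta' O e k c₀ * conj ((ψ : G → ℂ) c))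
      fun c hc => by
        rw [theta'_congr O e k (a := c) (b := c₀) (congrArg (co' e)
          ((EightAut.mem_fib.1 hc).trans hc₀.symm))],
      ← Finset.mul_sum, ← map_sum]
    have h0 := EightAut.avg_eq_zero (t := t) (tC := (tc : (cen t))) hM rfl rfl ht
      (fun h => (Nat.not_even_iff_odd.2 hO) (even_iff_two_dvd.2 h)) (qsub O e)
      (qsub_isPGroup O e) (qsub_centralizer O e) hψ hgood
    rw [EightAut.avg] at h0
    rw [(mul_eq_zero.1 h0).resolve_left (inv_ne_zero EightAut.natCard_ne_zero), map_zero, mul_zero]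
  · -- a section of larger order
    have him : ∀ s ∈ SylowSplit.regSet y, ∀ hs : s ∈ (cen t), im O e (yc * ⟨s, hs⟩) = im O e yc ∨
        (¬ inD (im O e yc) ∧ ¬ inD (im O e (yc * ⟨s, hs⟩))) := by
      intro s hs hsC
      obtain ⟨hc, hodd⟩ := SylowSplit.mem_regSet.1 hs
      have hcm : mul (im O e yc) (im O e ⟨s, hsC⟩) = mul (im O e ⟨s, hsC⟩) (im O e yc) := by
        rw [← im_mul, ← im_mul]
        exact congrArg _ (Subtype.ext hc.symm.eq)
      rcases section_check _ (im_mem O e yc) _ (im_mem O e _) hcm (im_two_elt O e hyc2)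
        (cube_of_odd O e (by rwa [Subgroup.orderOf_mk])) with h | h | h
      · exact absurd h hv
      · exact Or.inr ⟨h.1, by rw [im_mul]; exact h.2⟩
      · exact Or.inl ((im_eq_iff O e).2 (by
          rw [_root_.mul_inv_rev, mul_assoc, inv_mul_cancel, mul_one]
          exact inv_mem ((im_eq_one O e).1 h)))
    by_cases hD : inD (im O e yc)
    · have hall : ∀ s ∈ SylowSplit.regSet y, s ∈ (cen t) := by
        intro s hs
        obtain ⟨hc, -⟩ := SylowSplit.mem_regSet.1 hs
        obtain ⟨m, hm⟩ : ∃ m, pw (im O e yc) m = negOne := by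
          rcases inD_pow _ (im_mem O e _) hD with h | h | h | h <;> exact ⟨_, h⟩
        have hz : yc ^ m = tc := eq_t_of_im ht O hO e (by
          obtain ⟨j, hj⟩ := hyc2
          obtain ⟨i, -, hi⟩ := (Nat.dvd_prime_pow Nat.prime_two).1
            (hj ▸ orderOf_pow_dvd m : orderOf (yc ^ m) ∣ 2 ^ j)
          exact ⟨i, hi⟩) (by rw [im_pow, hm])
        have : y ^ m = t := congrArg Subtype.val hz
        exact Subgroup.mem_centralizer_singleton_iff.2 (this ▸ (hc.pow_right m).eq)
      rw [Finset.sum_congr rfl (g := fun s => theta' O e k yc * conj ((ψ : G → ℂ) (y * s)))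
        fun s hs => ?_, ← Finset.mul_sum, ← map_sum,
        SylowSplit.sum_section_eq_zero hM hψ hy2, map_zero, mul_zero]
      have hys : y * s = ((yc * ⟨s, hall s hs⟩ : (cen t)) : G) := rfl
      simp only [hf]
      rw [hys, extendByZero_coe]
      congr 1
      exact theta'_congr O e k ((him s hs (hall s hs)).resolve_right fun h => h.1 hD)
    · refine Finset.sum_eq_zero fun s hs => ?_
      simp only [hf]
      by_cases h : y * s ∈ (cen t)
      · have hys : y * s = ((yc * ⟨s, (hmem s hs h).2⟩ : (cen t)) : G) := rfl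
        rw [hys, extendByZero_coe, theta'_off O e k _ ?_, zero_mul]
        rcases him s hs (hmem s hs h).2 with h' | h'
        · rw [h']; exact hD
        · exact h'.2
      · rw [extendByZero_not_mem (cen t) _ h, zero_mul]

include ht hO in
/-- The value at the involution of a principal character is that on its coset. -/
theorem value_coset (hM : IsPModular 2 M) [Fintype (cen t)] {ψ : IrrCharacter G}
    (hψ : ψ ∈ principalBlock M G) {c : (cen t)} (hc : im O e c = negOne) :
    (ψ : G → ℂ) c = (ψ : G → ℂ) t := by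
  have h0 : (tc : (cen t)) * c ∈ O := by
    have := (im_eq_iff O e).1 ((im_tc ht O hO e).trans hc.symm)
    rwa [inv_eq_of_mul_eq_one_right (tc_sq ht)] at this
  have := irr_section_of_kernel hM ⟨1, by rw [ht, pow_one]⟩ (C := (cen t)) rfl hψ O
    (fun h => (Nat.not_even_iff_odd.2 hO) (even_iff_two_dvd.2 h)) (v := tc * c) h0
  rwa [show t * ((tc * c : (cen t)) : G) = (c : G) by
    have := congrArg (fun z : (cen t) => ((z * c : (cen t)) : G)) (tc_sq ht)
    simpa [tc, mul_assoc] using this] at this

end Cfsg.Agent.SubThree
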