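import Cfsg.Agent.Lib.SubThree.SDBasic
import Cfsg.Agent.Lib.BrauerSuzuki.Main
import Cfsg.Agent.Lib.GW.InvolAction
import Cfsg.Agent.Lib.Transfer.Basic
import Mathlib.GroupTheory.Sylow
import Mathlib.GroupTheory.IsPerfect

/-!
Centralisers of subgroups of the core.
-/

set_option autoImplicit false
set_option linter.style.haveILetI false
set_option linter.unusedSectionVars false
set_option synthInstance.maxSize 4000
set_option maxRecDepth 100000

namespace Cfsg.Agent.SubThree

open Cfsg Cfsg.Agent.GLTwoThree Cfsg.Agent.DGroup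

universe u

variable {G : Type u} [Group G] [Finite G]

/-- Being a non-trivial element of the four-group. -/
def InV (t u v : G) : Prop := v = t ∨ v = u ∨ v = t * u

/-- The setting inside a subgroup which is maximal invariant. -/
structure Full (t u ρ : G) (A : Subgroup G) (φ : MulAut G) : Prop extends Setup t u ρ where
  simple : IsSimpleGroup G
  noncomm : ¬ ∀ x y : G, x * y = y * x
  permA : ∀ a ∈ A, ∀ v, InV t u v → InV t u (a * v * a⁻¹)
  phi_t : φ t = t
  phi_u : φ u = u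
  phi_core : ∀ v, InV t u v → ∀ y ∈ Ov v, φ y ∈ Subgroup.zpowers y
  maxA : ∀ W : Subgroup G, A ≤ Subgroup.normalizer (W : Set G) → (∀ w ∈ W, φ w ∈ W) →
    W ≤ A ∨ W = ⊤

theorem InV.rot {t u ρ v : G} (F : Frame t u ρ) : InV u (t * u) v ↔ InV t u v := by
  have e : u * (t * u) = t := F.four.vw
  simp only [InV, e]
  tauto

theorem invert_line_check : ∀ r ∈ U, mul r r = one → r ≠ one → r ≠ negOne →
    ∀ a ∈ U, ∀ b ∈ U, pw a 3 = one → mul r a = mul (inv a) r → pw b 3 = one →
      mul r b = mul (inv b) r → mul a b = mul b a → a ≠ one →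
      b = one ∨ b = a ∨ b = mul a a := by decide +kernel

theorem relIndex_sup_of_norm {M B : Subgroup G} (h : B ≤ Subgroup.normalizer (M : Set G)) :
    M.relIndex (M ⊔ B) = M.relIndex B := by
  set L := M ⊔ B
  haveI : (M.subgroupOf L).Normal := (Subgroup.normal_subgroupOf_iff_le_normalizer le_sup_left).2
    (sup_le Subgroup.le_normalizer h)
  have e := Subgroup.relIndex_sup_right (B.subgroupOf L) (M.subgroupOf L)
  rw [← Subgroup.subgroupOf_sup le_sup_right le_sup_left,
    Subgroup.relIndex_subgroupOf (sup_le le_sup_right le_sup_left),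
    Subgroup.relIndex_subgroupOf le_sup_right, sup_comm] at e
  exact e

/-- Two involutions with no other commuting pair around are conjugate. -/
theorem conj_of_rankOne {D : Type*} [Group D] [Finite D]
    (hR : Cfsg.Agent.BrauerSuzuki.RankOne D) {a t : D} (ha : orderOf a = 2) (ht : orderOf t = 2) :
    ∃ d : D, d * a * d⁻¹ = t := by
  have haa : a * a = 1 := by rw [← pow_two, ← ha, pow_orderOf_eq_one]
  have htt : t * t = 1 := by rw [← pow_two, ← ht, pow_orderOf_eq_one]
  have hai : a⁻¹ = a := inv_eq_of_mul_eq_one_right haa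
  have hti : t⁻¹ = t := inv_eq_of_mul_eq_one_right htt
  have hd : a * (a * t) * a⁻¹ = (a * t)⁻¹ := by
    rw [hai, _root_.mul_inv_rev, hai, hti, ← mul_assoc a a t, haa, one_mul]
  rcases Nat.even_or_odd (orderOf (a * t)) with ⟨m, hm⟩ | ⟨k, hk⟩
  · have hd2 : t * (a * t) * t⁻¹ = (a * t)⁻¹ := by
      rw [hti, _root_.mul_inv_rev, hai, hti, mul_assoc, mul_assoc, htt, mul_one]
    have hm0 : 0 < m := by
      have := (isOfFinOrder_of_finite (a * t)).orderOf_pos
      omega
    set z := (a * t) ^ m with hz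
    have hz2 : orderOf z = 2 := by
      rw [hz, orderOf_pow' _ hm0.ne', hm, Nat.gcd_eq_right (Dvd.intro_left 2 (two_mul m))]
      rw [← two_mul, Nat.mul_div_cancel _ hm0]
    have hzi : z⁻¹ = z := inv_eq_of_mul_eq_one_right (by rw [← pow_two, ← hz2, pow_orderOf_eq_one])
    have hcm : ∀ s : D, s * (a * t) * s⁻¹ = (a * t)⁻¹ → Commute s z := by
      intro s hs
      refine mul_inv_eq_iff_eq_mul.1 ?_
      rw [hz, ← conj_pow, hs, inv_pow, ← hz, hzi]
    have h1 := hR a z ha hz2 (hcm a hd)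
    have h2 := hR t z ht hz2 (hcm t hd2)
    exact ⟨1, by rw [one_mul, inv_one, mul_one, h1, h2]⟩
  · have hc : ∀ j : ℕ, (a * t) ^ j * a = a * ((a * t)⁻¹) ^ j := fun j => by
      rw [← hd, conj_pow, ← mul_assoc, ← mul_assoc, haa, one_mul, hai]
    refine ⟨(a * t) ^ k, ?_⟩
    have e1 : ((a * t)⁻¹) ^ (2 * k) = a * t := by
      have := pow_orderOf_eq_one (a * t)⁻¹
      rw [orderOf_inv, hk, pow_succ] at this
      exact (mul_eq_one_iff_eq_inv.1 this).trans (inv_inv _)
    rw [hc k, ← inv_pow, mul_assoc, ← pow_add, ← two_mul, e1, ← mul_assoc, haa, one_mul]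

namespace Full

variable {t u ρ : G} {A : Subgroup G} {φ : MulAut G} (S : Full t u ρ A φ)
include S

theorem rot : Full u (t * u) ρ A φ where
  toSetup := S.toSetup.rot
  simple := S.simple
  noncomm := S.noncomm
  permA := fun a ha v hv => (InV.rot S.toFrame).2 (S.permA a ha v ((InV.rot S.toFrame).1 hv))
  phi_t := S.phi_u
  phi_u := by rw [map_mul, S.phi_t, S.phi_u]
  phi_core := fun v hv => S.phi_core v ((InV.rot S.toFrame).1 hv)
  maxA := S.maxA

/-- An element acting as the transposition of the other two involutions, centralising the core. -/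
theorem exists_swap : ∃ e ∈ cen t, e * u * e⁻¹ = t * u ∧ ∀ y ∈ Ov t, e * y * e⁻¹ = y := by
  set c : cen t := ⟨t * u, mul_mem (Subgroup.mem_centralizer_singleton_iff.2 rfl) S.mem_u⟩
  obtain ⟨h, hh, he⟩ := (S.invol_cases S.orderOf_w
    (Subgroup.mem_centralizer_singleton_iff.1 c.2)).resolve_left fun e => by
      have := congrArg (t * ·) e
      simp only [← mul_assoc, S.tt, one_mul] at this
      have h2 := S.hu
      rw [this, orderOf_one] at h2
      omega
  by_cases hd : det (S.ι ⟨h, hh⟩) = 1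
  · exact ⟨h, hh, he, fun y hy => (S.act ⟨h, hh⟩ hy).trans (if_pos hd)⟩
  · refine ⟨h * u, mul_mem hh S.mem_u, ?_, fun y hy => ?_⟩
    · rw [← he]; group
    · have hi : u⁻¹ = u := inv_eq_of_mul_eq_one_right S.uu
      calc h * u * y * (h * u)⁻¹ = h * (u * y * u) * h⁻¹ := by
            rw [_root_.mul_inv_rev, hi]; group
        _ = h * y⁻¹ * h⁻¹ := by rw [S.inverts hy]
        _ = y := by
          rw [(S.act ⟨h, hh⟩ (inv_mem hy)).trans (if_neg hd), inv_inv]

theorem odd_mem_A {a : G} (ha : a ∈ A) (hc : a * t = t * a) (ho : Odd (orderOf a)) : a = 1 := by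
  have hat : a * t * a⁻¹ = t := mul_inv_eq_iff_eq_mul.2 hc
  have h1 : ∀ b ∈ A, b * t * b⁻¹ = t → b * u * b⁻¹ = u ∨ b * u * b⁻¹ = t * u := by
    intro b hb hbt
    rcases S.permA b hb u (Or.inr (Or.inl rfl)) with e | e | e
    · exact absurd ((MulAut.conj b).injective (e.trans hbt.symm :)) S.ne.symm
    · exact Or.inl e
    · exact Or.inr e
  have h2 : (a * a) * u * (a * a)⁻¹ = u := by
    rcases h1 a ha hat with e | e
    · calc _ = a * (a * u * a⁻¹) * a⁻¹ := by group
        _ = u := by rw [e, e]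
    · calc _ = a * (a * u * a⁻¹) * a⁻¹ := by group
        _ = a * (t * u) * a⁻¹ := by rw [e]
        _ = (a * t * a⁻¹) * (a * u * a⁻¹) := by group
        _ = u := by rw [hat, e, ← mul_assoc, S.tt, one_mul]
  have h3 : (a * a) * (a * a) = 1 := by
    rcases S.selfCent (a * a) ((show Commute a t from hc).mul_left hc).eq
      (mul_inv_eq_iff_eq_mul.1 h2) with e | e | e | e <;> rw [e]
    exacts [one_mul 1, S.tt, S.uu, S.four.ww]
  have h4 : orderOf a ∣ 2 ^ 2 := orderOf_dvd_of_pow_eq_one (by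
    rw [show 2 ^ 2 = 4 by norm_num, pow_succ, pow_succ, pow_two, mul_assoc (a * a)]; exact h3)
  obtain ⟨i, -, hi⟩ := (Nat.dvd_prime_pow Nat.prime_two).1 h4
  rw [hi] at ho
  rcases Nat.eq_zero_or_pos i with rfl | hi0
  · exact orderOf_eq_one_iff.1 (hi.trans (pow_zero 2))
  · exact absurd (Even.pow_of_ne_zero even_two hi0.ne') (Nat.not_even_iff_odd.2 ho)

/-- An element centralising a non-trivial element of a core and its rotations is trivial. -/
theorem gen_eq_one {y x : G} (hy : y ∈ Ov u) (hy1 : y ≠ 1) (h1 : Commute x y)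
    (h2 : Commute x (ρ * y * ρ⁻¹)) (h3 : Commute x (ρ * (ρ * y * ρ⁻¹) * ρ⁻¹)) : x = 1 := by
  set y_s := ρ * y * ρ⁻¹ with hys
  set y_t := ρ * y_s * ρ⁻¹ with hyt
  have hs : y_s ∈ Ov (t * u) := by
    have := conj_Ov ρ hy
    rwa [S.rot_u] at this
  have ht' : y_t ∈ Ov t := by
    have := conj_Ov ρ hs
    rwa [S.rot_w] at this
  set W := Subgroup.closure ({y, y_s, y_t} : Set G) with hW
  have hyW : y ∈ W := Subgroup.subset_closure (Set.mem_insert _ _)
  have hsW : y_s ∈ W := Subgroup.subset_closure (Set.mem_insert_of_mem _ (Set.mem_insert _ _))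
  have htW : y_t ∈ W := Subgroup.subset_closure
    (Set.mem_insert_of_mem _ (Set.mem_insert_of_mem _ rfl))
  have huniq : ∀ g g' : G, g * u * g⁻¹ = g' * u * g'⁻¹ → g' * y * g'⁻¹ ∈ W →
      g * y * g⁻¹ ∈ W ∧ (g * y * g⁻¹ = g' * y * g'⁻¹ ∨ g * y * g⁻¹ = (g' * y * g'⁻¹)⁻¹) := by
    intro g g' he hmem
    have hc : g'⁻¹ * g ∈ cen u := Subgroup.mem_centralizer_singleton_iff.2 (by
      calc g'⁻¹ * g * u = g'⁻¹ * (g * u * g⁻¹) * g := by group
        _ = u * (g'⁻¹ * g) := by rw [he]; group)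
    have h3 : g * y * g⁻¹ = g' * ((g'⁻¹ * g) * y * (g'⁻¹ * g)⁻¹) * g'⁻¹ := by group
    rcases S.rot.act_or ⟨_, hc⟩ hy with h | h <;> rw [h] at h3
    · exact ⟨h3 ▸ hmem, Or.inl h3⟩
    · have h4 : g * y * g⁻¹ = (g' * y * g'⁻¹)⁻¹ := by rw [h3]; group
      exact ⟨h4 ▸ inv_mem hmem, Or.inr h4⟩
  have hmem : ∀ g : G, InV t u (g * u * g⁻¹) → g * y * g⁻¹ ∈ W := by
    intro g hg
    rcases hg with e | e | e
    · refine (huniq g (ρ * ρ) ?_ ?_).1
      · rw [e, show ρ * ρ * u * (ρ * ρ)⁻¹ = ρ * (ρ * u * ρ⁻¹) * ρ⁻¹ by group, S.rot_u, S.rot_w]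
      · rwa [show ρ * ρ * y * (ρ * ρ)⁻¹ = y_t by rw [hyt, hys]; group]
    · exact (huniq g 1 (by rw [e]; group) (by simpa using hyW)).1
    · exact (huniq g ρ (by rw [e, S.rot_u]) hsW).1
  have hnorm : A ≤ Subgroup.normalizer (W : Set G) := by
    have hle : ∀ a ∈ A, W.map (MulAut.conj a).toMonoidHom ≤ W := by
      intro a ha
      rw [hW, MonoidHom.map_closure, Subgroup.closure_le]
      have key : ∀ g : G, InV t u (g * u * g⁻¹) →
          (MulAut.conj a).toMonoidHom (g * y * g⁻¹) ∈ W := by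
        intro g hg
        have e : (MulAut.conj a).toMonoidHom (g * y * g⁻¹) = (a * g) * y * (a * g)⁻¹ := by
          rw [MulEquiv.coe_toMonoidHom, MulAut.conj_apply]; group
        rw [e]
        refine hmem _ ?_
        rw [show a * g * u * (a * g)⁻¹ = a * (g * u * g⁻¹) * a⁻¹ by group]
        exact S.permA a ha _ hg
      rintro _ ⟨z, hz, rfl⟩
      rcases hz with rfl | rfl | hz
      · simpa using key 1 (Or.inr (Or.inl (by group)))
      · exact key ρ (Or.inr (Or.inr S.rot_u))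
      · rw [Set.mem_singleton_iff.1 hz]
        have h5 := key (ρ * ρ) (Or.inl (by
          rw [show ρ * ρ * u * (ρ * ρ)⁻¹ = ρ * (ρ * u * ρ⁻¹) * ρ⁻¹ by group, S.rot_u, S.rot_w]))
        rwa [show ρ * ρ * y * (ρ * ρ)⁻¹ = y_t by rw [hyt, hys]; group] at h5
    intro a ha
    refine Subgroup.mem_normalizer_iff.2 fun z => ⟨fun hz => hle a ha ⟨z, hz, rfl⟩, fun hz => ?_⟩
    have := hle a⁻¹ (inv_mem ha) ⟨_, hz, rfl⟩
    simpa [mul_assoc] using this
  have hphi : ∀ w ∈ W, φ w ∈ W := by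
    have hle : W.map φ.toMonoidHom ≤ W := by
      rw [hW, MonoidHom.map_closure, Subgroup.closure_le]
      rintro _ ⟨z, hz, rfl⟩
      rcases hz with rfl | rfl | hz
      · exact Subgroup.zpowers_le.2 hyW (S.phi_core u (Or.inr (Or.inl rfl)) _ hy)
      · exact Subgroup.zpowers_le.2 hsW (S.phi_core (t * u) (Or.inr (Or.inr rfl)) _ hs)
      · rw [Set.mem_singleton_iff.1 hz]
        exact Subgroup.zpowers_le.2 htW (S.phi_core t (Or.inl rfl) _ ht')
    exact fun w hw => hle ⟨w, hw, rfl⟩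
  rcases S.maxA W hnorm hphi with hA | htop
  · refine absurd ?_ hy1
    have := S.odd_mem_A (hA htW) (Ov_comm ht').eq
      ((Ov_odd t).of_dvd_nat ((Ov t).orderOf_dvd_natCard ht'))
    rw [hyt, hys, conj_eq_one_iff, conj_eq_one_iff] at this
    exact this
  · have hle : W ≤ cen x := by
      rw [hW, Subgroup.closure_le]
      rintro z (rfl | rfl | hz)
      · exact Subgroup.mem_centralizer_singleton_iff.2 h1.eq.symm
      · exact Subgroup.mem_centralizer_singleton_iff.2 h2.eq.symm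
      · rw [Set.mem_singleton_iff.1 hz]
        exact Subgroup.mem_centralizer_singleton_iff.2 h3.eq.symm
    have hxc : x ∈ Subgroup.center G := Subgroup.mem_center_iff.2 fun g =>
      Subgroup.mem_centralizer_singleton_iff.1 (hle (htop ▸ Subgroup.mem_top g))
    haveI := S.simple
    rcases IsSimpleGroup.eq_bot_or_eq_top_of_normal (Subgroup.center G) inferInstance with h | h
    · exact Subgroup.mem_bot.1 (h ▸ hxc)
    · exact absurd (fun a b => Subgroup.mem_center_iff.1 (h ▸ Subgroup.mem_top b) a) S.noncomm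

/-- Elements of two different cores do not commute. -/
theorem no_commute {x y : G} (hx : x ∈ Ov t) (hy : y ∈ Ov u) (hx1 : x ≠ 1) (hy1 : y ≠ 1) :
    x * y ≠ y * x := by
  intro hxy
  have hs : ρ * y * ρ⁻¹ ∈ Ov (t * u) := by
    have := conj_Ov ρ hy
    rwa [S.rot_u] at this
  have ht' : ρ * (ρ * y * ρ⁻¹) * ρ⁻¹ ∈ Ov t := by
    have := conj_Ov ρ hs
    rwa [S.rot_w] at this
  obtain ⟨e, he, heu, hey⟩ := S.exists_swap
  have h2 : Commute x (ρ * y * ρ⁻¹) := by
    have h := Commute.map (show Commute x y from hxy) (MulAut.conj e).toMonoidHom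
    simp only [MulEquiv.coe_toMonoidHom, MulAut.conj_apply, hey x hx] at h
    have hc : ρ⁻¹ * e ∈ cen u := Subgroup.mem_centralizer_singleton_iff.2 (by
      calc ρ⁻¹ * e * u = ρ⁻¹ * (e * u * e⁻¹) * e := by group
        _ = ρ⁻¹ * (t * u) * e := by rw [heu]
        _ = u * (ρ⁻¹ * e) := by rw [← S.rot_u]; group)
    have e3 : e * y * e⁻¹ = ρ * ((ρ⁻¹ * e) * y * (ρ⁻¹ * e)⁻¹) * ρ⁻¹ := by group
    rcases S.rot.act_or ⟨_, hc⟩ hy with h' | h' <;> rw [h'] at e3 <;> rw [e3] at h
    · exact h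
    · rw [show ρ * y⁻¹ * ρ⁻¹ = (ρ * y * ρ⁻¹)⁻¹ by group] at h
      exact Commute.inv_right_iff.1 h
  exact hx1 (S.gen_eq_one hy hy1 hxy h2 (S.Ov_abelian hx ht'))

/-- The centraliser of a non-trivial subgroup of the core. -/
theorem cent_structure {X : Subgroup G} (hX : X ≤ Ov t) (hX1 : X ≠ ⊥) :
    ∃ M : Subgroup G, M ≤ Subgroup.centralizer (X : Set G) ∧ Odd (Nat.card M) ∧
      Subgroup.centralizer (X : Set G) ≤ Subgroup.normalizer (M : Set G) ∧
      cen t ≤ Subgroup.normalizer (M : Set G) ∧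
      M ⊓ cen t = Ov t ∧
      (∀ g ∈ Subgroup.normalizer (X : Set G), g ∈ M ⊔ cen t) ∧
      (∀ g ∈ Subgroup.centralizer (X : Set G), ∃ m ∈ M, ∃ c : cen t, det (S.ι c) = 1 ∧ g = m * c) ∧
      (Nat.card (ax M u) = 1 ∨ Nat.card (ax M u) = 3) ∧
      Nat.card (ax M (t * u)) = Nat.card (ax M u) ∧
      Nat.card M = Nat.card (Ov t) * Nat.card (ax M u) * Nat.card (ax M (t * u)) := by
  set D := Subgroup.centralizer (X : Set G) with hD
  obtain ⟨x₀, hx₀, hx1⟩ := (Subgroup.ne_bot_iff_exists_ne_one).1 hX1 |> fun ⟨a, ha⟩ =>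
    (⟨(a : G), a.2, fun e => ha (Subtype.ext e)⟩ : ∃ x, x ∈ X ∧ x ≠ 1)
  have hmemD : ∀ c : cen t, (c : G) ∈ D ↔ det (S.ι c) = 1 := by
    intro c
    constructor
    · intro hc
      by_contra h
      have h1 := S.act c (hX hx₀)
      rw [if_neg h, ← Subgroup.mem_centralizer_iff.1 hc x₀ hx₀, mul_inv_cancel_right] at h1
      exact hx1 (eq_one_of_sq (Ov_odd t) (hX hx₀) (eq_inv_iff_mul_eq_one.1 h1))
    · intro hc
      refine Subgroup.mem_centralizer_iff.2 fun x hx => ?_
      have h1 := S.act c (hX hx)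
      rw [if_pos hc, mul_inv_eq_iff_eq_mul] at h1
      exact h1.symm
  have htD : t ∈ D :=
    Subgroup.mem_centralizer_iff.2 fun x hx => (Ov_comm (hX hx)).eq
  have hOD : Ov t ≤ D := fun o ho =>
    Subgroup.mem_centralizer_iff.2 fun x hx => S.Ov_abelian (hX hx) ho
  have hCX : cen t ≤ Subgroup.normalizer (X : Set G) := by
    intro c hc
    have key : ∀ c : cen t, ∀ x ∈ X, (c : G) * x * (c : G)⁻¹ ∈ X := fun c x hx => by
      rcases S.act_or c (hX hx) with h | h <;> rw [h]
      exacts [hx, inv_mem hx]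
    refine Subgroup.mem_normalizer_iff.2 fun x => ⟨key ⟨c, hc⟩ x, fun h => ?_⟩
    simpa [mul_assoc] using key ⟨c, hc⟩⁻¹ _ h
  have hND : ∀ g ∈ Subgroup.normalizer (X : Set G), ∀ d ∈ D, g * d * g⁻¹ ∈ D := by
    intro g hg d hd
    refine Subgroup.mem_centralizer_iff.2 fun x hx => ?_
    have h1 : g⁻¹ * x * g ∈ X := by
      have := (Subgroup.mem_normalizer_iff.1 (inv_mem hg) x).1 hx
      rwa [inv_inv] at this
    have h2 := Subgroup.mem_centralizer_iff.1 hd _ h1
    calc x * (g * d * g⁻¹) = g * ((g⁻¹ * x * g) * d) * g⁻¹ := by group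
      _ = g * d * g⁻¹ * x := by rw [h2]; group
  have hR : Cfsg.Agent.BrauerSuzuki.RankOne D := by
    intro a b ha hb hab
    by_contra hne
    refine hx1 (eq_one_of_sq (Ov_odd t) (hX hx₀) ?_)
    exact S.pair_cent (a := (a : G)) (b := (b : G)) (by rwa [Subgroup.orderOf_coe])
      (by rwa [Subgroup.orderOf_coe]) (hab.map D.subtype) (fun e => hne (Subtype.ext e))
      (Subgroup.mem_centralizer_iff.1 a.2 x₀ hx₀) (Subgroup.mem_centralizer_iff.1 b.2 x₀ hx₀)
  set tD : D := ⟨t, htD⟩ with htDdef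
  have htD2 : orderOf tD = 2 := by rw [← S.ht, htDdef, Subgroup.orderOf_mk]
  have hZ := Cfsg.Agent.BrauerSuzuki.inZStar D hR tD htD2
  haveI : (Cfsg.pPrimeCore 2 D).Normal := Cfsg.Agent.FittingCores.pPrimeCore_normal 2
  set M : Subgroup G := (Cfsg.pPrimeCore 2 D).map D.subtype with hMdef
  have hMD : M ≤ D := Subgroup.map_subtype_le _
  have hModd : Odd (Nat.card M) := by
    rw [hMdef, Subgroup.card_map_of_injective D.subtype_injective]
    exact Nat.coprime_two_right.1 (Cfsg.Agent.FittingCores.pPrimeCore_coprime 2)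
  have hDM : D ≤ Subgroup.normalizer (M : Set G) := by
    have key : ∀ d ∈ D, ∀ m ∈ M, d * m * d⁻¹ ∈ M := by
      rintro d hd _ ⟨m, hm, rfl⟩
      exact ⟨⟨d, hd⟩ * m * ⟨d, hd⟩⁻¹, Subgroup.Normal.conj_mem inferInstance m hm _, rfl⟩
    exact fun d hd => Subgroup.mem_normalizer_iff.2 fun m => ⟨key d hd m, fun h => by
      simpa [mul_assoc] using key d⁻¹ (inv_mem hd) _ h⟩
  have hmaxM : ∀ W : Subgroup G, W ≤ D → Odd (Nat.card W) →
      (∀ d ∈ D, ∀ w ∈ W, d * w * d⁻¹ ∈ W) → W ≤ M := by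
    intro W hW ho hn
    have hN : (W.subgroupOf D).Normal := ⟨fun n hn' d => hn d d.2 _ hn'⟩
    intro w hw
    refine ⟨⟨w, hW hw⟩, (show W.subgroupOf D ≤ Cfsg.pPrimeCore 2 D from le_sSup ⟨hN, ?_⟩) hw, rfl⟩
    rw [Nat.card_congr (Subgroup.subgroupOfEquivOfLe hW).toEquiv]
    exact Nat.coprime_two_right.2 ho
  have hCM : cen t ≤ Subgroup.normalizer (M : Set G) := by
    intro c hc
    have hcX := hCX hc
    have key : ∀ g ∈ Subgroup.normalizer (X : Set G), M.map (MulAut.conj g).toMonoidHom ≤ M := by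
      intro g hg
      refine hmaxM _ ?_ ?_ ?_
      · rintro _ ⟨m, hm, rfl⟩; exact hND g hg m (hMD hm)
      · rw [Subgroup.card_map_of_injective (MulAut.conj g).injective]; exact hModd
      · rintro d hd _ ⟨m, hm, rfl⟩
        have hd' : g⁻¹ * d * g ∈ D := by
          have := hND g⁻¹ (inv_mem hg) d hd
          rwa [inv_inv] at this
        refine ⟨_, (Subgroup.mem_normalizer_iff.1 (hDM hd') m).1 hm, ?_⟩
        simp only [MulEquiv.coe_toMonoidHom, MulAut.conj_apply]
        group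
    refine Subgroup.mem_normalizer_iff.2 fun m => ⟨fun hm => key c hcX ⟨m, hm, rfl⟩, fun hm => ?_⟩
    have := key c⁻¹ (inv_mem hcX) ⟨_, hm, rfl⟩
    simpa [mul_assoc] using this
  have hdecomp : ∀ g ∈ D, ∃ m ∈ M, ∃ c : cen t, det (S.ι c) = 1 ∧ g = m * c := by
    intro g hg
    have h0 : g⁻¹ * (t * g * t) ∈ M := by
      refine ⟨_, hZ ((⟨g, hg⟩ : D)⁻¹), ?_⟩
      simp only [Subgroup.subtype_apply, Subgroup.coe_mul, Subgroup.coe_inv, htDdef, inv_inv,
        inv_eq_of_mul_eq_one_right S.tt, mul_assoc]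
    obtain ⟨k, hk, hkc⟩ := Cfsg.Agent.GW.exists_cent_mul hModd S.tt h0
    have hgk : g * k ∈ D := mul_mem hg (hMD hk)
    have hgkC : g * k ∈ cen t := Subgroup.mem_centralizer_singleton_iff.2 hkc.symm
    refine ⟨g * k⁻¹ * g⁻¹, (Subgroup.mem_normalizer_iff.1 (hDM hg) _).1 (inv_mem hk),
      ⟨g * k, hgkC⟩, (hmemD _).1 hgk, by group⟩
  have hMC : M ⊓ cen t = Ov t := by
    refine le_antisymm (le_Ov (hModd.of_dvd_nat (Subgroup.card_dvd_of_le inf_le_left)) inf_le_right
      fun c hc => ?_) (le_inf ?_ (Ov_le t))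
    · refine Subgroup.mem_normalizer_iff.2 fun z => ⟨fun hz => ⟨(Subgroup.mem_normalizer_iff.1
        (hCM hc) z).1 hz.1, (mul_mem (mul_mem hc (hz.2 : z ∈ cen t)) (inv_mem hc) : c * z * c⁻¹ ∈ cen t)⟩, fun hz =>
        ⟨(Subgroup.mem_normalizer_iff.1 (hCM hc) z).2 hz.1, ?_⟩⟩
      have := mul_mem (mul_mem (inv_mem hc) (hz.2 : c * z * c⁻¹ ∈ cen t)) hc
      simpa [mul_assoc] using this
    · refine le_trans le_sup_right (hmaxM (M ⊔ Ov t) (sup_le hMD hOD) ?_ ?_)
      · have hn : Ov t ≤ Subgroup.normalizer (M : Set G) := hOD.trans hDM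
        have hc := Cfsg.Agent.PBasic.card_mul_relIndex (le_sup_left : M ≤ M ⊔ Ov t)
        rw [relIndex_sup_of_norm hn] at hc
        rw [← hc]
        exact hModd.mul ((Ov_odd t).of_dvd_nat (Subgroup.relIndex_dvd_card M (Ov t)))
      · intro d hd w hw
        obtain ⟨m, hm, c, -, rfl⟩ := hdecomp d hd
        have h1 : (c : G) * w * (c : G)⁻¹ ∈ M ⊔ Ov t := by
          have hsub : (M ⊔ Ov t).map (MulAut.conj (c : G)).toMonoidHom ≤ M ⊔ Ov t := by
            rw [Subgroup.map_sup]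
            refine sup_le_sup ?_ ?_
            · rintro _ ⟨z, hz, rfl⟩; exact (Subgroup.mem_normalizer_iff.1 (hCM c.2) z).1 hz
            · rintro _ ⟨z, hz, rfl⟩; exact Ov_conj c.2 hz
          exact hsub ⟨w, hw, rfl⟩
        rw [show m * c * w * (m * c)⁻¹ = m * ((c : G) * w * (c : G)⁻¹) * m⁻¹ by group]
        exact mul_mem (mul_mem (Subgroup.mem_sup_left hm) h1) (inv_mem (Subgroup.mem_sup_left hm))
  have hconjM : ∀ c ∈ cen t, ∀ m ∈ M, c * m * c⁻¹ ∈ M := fun c hc m hm =>
    (Subgroup.mem_normalizer_iff.1 (hCM hc) m).1 hm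
  have hF : Fpf t u (t * u) M := S.fpf_of hModd
    (fun x hx => by
      have := hconjM t (Subgroup.mem_centralizer_singleton_iff.2 rfl) x hx
      rwa [inv_eq_of_mul_eq_one_right S.tt] at this)
    (fun x hx => by
      have := hconjM u S.mem_u x hx
      rwa [inv_eq_of_mul_eq_one_right S.uu] at this)
  have hk : Nat.card (ax M u) = 1 ∨ Nat.card (ax M u) = 3 := by
    classical
    let T := S.rot
    have hin : ∀ a : ax M u, (a : G) ∈ cen u := fun a =>
      Subgroup.mem_centralizer_singleton_iff.2 (mem_ax.1 a.2).2.symm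
    let f : ax M u → V := fun a => T.ι ⟨a, hin a⟩
    have hinj : Function.Injective f := by
      intro a b hab
      have h1 : ((a : G))⁻¹ * b ∈ Ov u := T.ι_eq_iff.1 hab
      have h2 : ((a : G))⁻¹ * b ∈ D := mul_mem (inv_mem (hMD (ax_le _ _ a.2))) (hMD (ax_le _ _ b.2))
      by_contra hne
      refine S.no_commute (hX hx₀) h1 hx1 (fun e => hne (Subtype.ext (inv_mul_eq_one.1 e))) ?_
      exact Subgroup.mem_centralizer_iff.1 h2 x₀ hx₀
    have htu : t ∈ cen u := Subgroup.mem_centralizer_singleton_iff.2 S.comm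
    set r := T.ι ⟨t, htu⟩ with hr
    obtain ⟨r1, r2, r3⟩ : mul r r = one ∧ r ≠ one ∧ r ≠ negOne :=
      ⟨T.ι_sq (c := ⟨t, htu⟩) S.tt, T.ι_invol (c := ⟨t, htu⟩) S.ht,
        fun h => S.ne (T.ι_negOne (c := ⟨t, htu⟩) S.ht h)⟩
    have hprop : ∀ a : ax M u, pw (f a) 3 = one ∧ mul r (f a) = mul (inv (f a)) r := by
      intro a
      refine ⟨cube_of_odd _ _ ?_, ?_⟩
      · rw [← Subgroup.orderOf_coe]
        intro h2
        exact (Nat.not_even_iff_odd.2 hModd) (even_iff_two_dvd.2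
          (h2.trans (M.orderOf_dvd_natCard (ax_le _ _ a.2))))
      · have e := hF.swap.inverts a.2
        have e2 : (⟨t, htu⟩ : cen u) * ⟨a, hin a⟩ = ⟨a, hin a⟩⁻¹ * ⟨t, htu⟩ := Subtype.ext (by
          show t * (a : G) = (a : G)⁻¹ * t
          rw [← e, mul_assoc, mul_assoc, S.tt, mul_one])
        have e3 := congrArg T.ι e2
        rw [T.ι_mul, T.ι_mul] at e3
        rw [show inv (f a) = T.ι ⟨a, hin a⟩⁻¹ from (co'_inv _ _).symm.trans (congrArg _ (map_inv _ _).symm)]
        exact e3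
    by_cases hone : ∀ a : ax M u, a = 1
    · left; exact Nat.card_eq_one_iff_unique.2 ⟨⟨fun a b => (hone a).trans (hone b).symm⟩, ⟨1⟩⟩
    push Not at hone
    obtain ⟨a, ha⟩ := hone
    have hf1 : f 1 = one := im_one _ _
    have hfa : f a ≠ one := fun h => ha (hinj (h.trans hf1.symm))
    have hall : ∀ b, f b = one ∨ f b = f a ∨ f b = mul (f a) (f a) := by
      intro b
      refine invert_line_check r (T.ι_mem _) r1 r2 r3 _ (T.ι_mem _) _ (T.ι_mem _) (hprop a).1
        (hprop a).2 (hprop b).1 (hprop b).2 ?_ hfa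
      show mul (T.ι ⟨a, hin a⟩) (T.ι ⟨b, hin b⟩) = mul (T.ι ⟨b, hin b⟩) (T.ι ⟨a, hin a⟩)
      rw [← T.ι_mul, ← T.ι_mul]
      exact congrArg _ (Subtype.ext (hF.swap.ax_comm a.2 b.2))
    right
    haveI : Fintype (ax M u) := Fintype.ofFinite _
    have hle : Fintype.card (ax M u) ≤ 3 := by
      rw [← Finset.card_univ, ← Finset.card_image_of_injective _ hinj]
      refine (Finset.card_le_card (t := {one, f a, mul (f a) (f a)}) fun v hv => ?_).trans
        Finset.card_le_three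
      obtain ⟨b, -, rfl⟩ := Finset.mem_image.1 hv
      rcases hall b with h | h | h <;> simp [h]
    have h3 : orderOf a ∣ Fintype.card (ax M u) := orderOf_dvd_card
    have h2 : orderOf a ≠ 1 := fun h => ha (orderOf_eq_one_iff.1 h)
    have hodd : Odd (Fintype.card (ax M u)) := by
      rw [← Nat.card_eq_fintype_card]
      exact hModd.of_dvd_nat (Subgroup.card_dvd_of_le (ax_le M u))
    rw [Nat.card_eq_fintype_card]
    have h4 : 1 < Fintype.card (ax M u) :=
      Fintype.one_lt_card_iff.2 ⟨a, 1, ha⟩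
    rw [Nat.odd_iff] at hodd
    omega
  have hkk : Nat.card (ax M (t * u)) = Nat.card (ax M u) := by
    obtain ⟨e, he, heu, -⟩ := S.exists_swap
    have hmap : (ax M u).map (MulAut.conj e).toMonoidHom = ax M (t * u) := by
      ext z
      rw [Subgroup.mem_map_equiv, mem_ax, mem_ax, MulAut.conj_symm_apply]
      constructor
      · rintro ⟨h1, h2⟩
        refine ⟨?_, ?_⟩
        · have := hconjM e he _ h1
          simpa [mul_assoc] using this
        · rw [← heu]
          calc e * u * e⁻¹ * z = e * (u * (e⁻¹ * z * e)) * e⁻¹ := by group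
            _ = z * (e * u * e⁻¹) := by rw [h2]; group
      · rintro ⟨h1, h2⟩
        refine ⟨?_, ?_⟩
        · have := hconjM e⁻¹ (inv_mem he) _ h1
          rwa [inv_inv] at this
        · rw [← heu] at h2
          calc u * (e⁻¹ * z * e) = e⁻¹ * (e * u * e⁻¹ * z) * e := by group
            _ = _ := by rw [h2]; group
    rw [← hmap, Subgroup.card_map_of_injective (MulAut.conj e).injective]
  refine ⟨M, hMD, hModd, hDM, hCM, hMC, fun g hg => ?_, hdecomp, hk, hkk, ?_⟩
  · have hgt : g * t * g⁻¹ ∈ D := hND g hg t htD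
    obtain ⟨d, hd⟩ := conj_of_rankOne hR (a := ⟨g * t * g⁻¹, hgt⟩) (t := tD) (by
      rw [Subgroup.orderOf_mk, show g * t * g⁻¹ = MulAut.conj g t from rfl, MulEquiv.orderOf_eq, S.ht])
      htD2
    have hdg : (d : G) * g ∈ cen t := Subgroup.mem_centralizer_singleton_iff.2 (by
      have h := congrArg Subtype.val hd
      simp only [Subgroup.coe_mul, Subgroup.coe_inv, htDdef] at h
      calc (d : G) * g * t = (d : G) * (g * t * g⁻¹) * (d : G)⁻¹ * ((d : G) * g) := by group
        _ = t * ((d : G) * g) := by rw [h])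
    obtain ⟨m, hm, c, -, hmc⟩ := hdecomp _ (inv_mem d.2)
    rw [show g = (d : G)⁻¹ * ((d : G) * g) by group, hmc]
    exact mul_mem (mul_mem (Subgroup.mem_sup_left hm) (Subgroup.mem_sup_right c.2))
      (Subgroup.mem_sup_right hdg)
  · rw [hF.card_eq]
    congr 2
    have : ax M t = Ov t := hMC
    rw [this]

/-- For a prime `r ≥ 5` the `r`-part of the core is a Sylow subgroup. -/
theorem core_part_sylow {r : ℕ} (hr : r.Prime) (h2 : r ≠ 2) (h3 : r ≠ 3)
    (hd : r ∣ Nat.card (Ov t)) :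
    (Nat.card G).factorization r ≤ (Nat.card (Ov t)).factorization r := by
  haveI : Fact r.Prime := ⟨hr⟩
  obtain ⟨R₀⟩ : Nonempty (Sylow r (Ov t)) := inferInstance
  set R : Subgroup G := (R₀ : Subgroup (Ov t)).map (Ov t).subtype with hR
  have hRO : R ≤ Ov t := Subgroup.map_subtype_le _
  have hRc : Nat.card R = r ^ (Nat.card (Ov t)).factorization r := by
    rw [hR, Subgroup.card_map_of_injective (Ov t).subtype_injective, Sylow.card_eq_multiplicity]
  have hR1 : R ≠ ⊥ := by
    intro h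
    rw [h, Subgroup.card_bot] at hRc
    have h0 := hr.factorization_pos_of_dvd Nat.card_pos.ne' hd
    have := Nat.one_lt_pow h0.ne' hr.one_lt
    omega
  have hRp : IsPGroup r R := IsPGroup.of_card hRc
  obtain ⟨P, hP⟩ := hRp.exists_le_sylow
  obtain ⟨M, hMX, hModd, hDM, hCM, hMC, hN, -, hk, hkk, hcard⟩ := S.cent_structure hRO hR1
  have hPR : (P : Subgroup G) = R := by
    by_contra hne
    haveI : Group.IsNilpotent (P : Subgroup G) := P.isPGroup'.isNilpotent
    have hlt : R.subgroupOf (P : Subgroup G) < ⊤ := by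
      rw [lt_top_iff_ne_top, Ne, Subgroup.subgroupOf_eq_top]
      exact fun h => hne (le_antisymm h hP)
    obtain ⟨y, hy, hyR⟩ := SetLike.exists_of_lt
      (Group.normalizerCondition_of_isNilpotent (R.subgroupOf (P : Subgroup G)) hlt)
    set Y : Subgroup G := R ⊔ Subgroup.zpowers (y : G) with hY
    have hYP : Y ≤ (P : Subgroup G) := sup_le hP (Subgroup.zpowers_le.2 y.2)
    have hyN : (y : G) ∈ Subgroup.normalizer (R : Set G) := by
      refine Subgroup.mem_normalizer_iff.2 fun z => ⟨fun hz => ?_, fun hz => ?_⟩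
      · exact Subgroup.mem_subgroupOf.1 ((Subgroup.mem_normalizer_iff.1 hy ⟨z, hP hz⟩).1
          (Subgroup.mem_subgroupOf.2 hz))
      · have hzP : z ∈ (P : Subgroup G) := by
          have := mul_mem (mul_mem (inv_mem y.2) (hP hz)) y.2
          simpa [mul_assoc] using this
        exact Subgroup.mem_subgroupOf.1 ((Subgroup.mem_normalizer_iff.1 hy ⟨z, hzP⟩).2
          (Subgroup.mem_subgroupOf.2 hz))
    have hYN : Y ≤ M ⊔ cen t := sup_le
      (hRO.trans ((Ov_le t).trans le_sup_right)) (Subgroup.zpowers_le.2 (hN _ hyN))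
    obtain ⟨i, hi⟩ := (P.isPGroup'.to_le hYP).exists_card_eq
    have hlt' : Nat.card R < Nat.card Y := by
      by_contra h
      exact hyR (Subgroup.mem_subgroupOf.2 ((Subgroup.eq_of_le_of_card_ge (le_sup_left : R ≤ Y)
        (not_lt.1 h)).symm ▸ Subgroup.mem_sup_right (Subgroup.mem_zpowers _)))
    rw [hRc, hi, Nat.pow_lt_pow_iff_right hr.one_lt] at hlt'
    have hMcard : Nat.card (M ⊔ cen t : Subgroup G) * Nat.card (Ov t) =
        Nat.card M * Nat.card (cen t) := by
      have h1 := Cfsg.Agent.PBasic.card_mul_relIndex (le_sup_left : M ≤ M ⊔ cen t)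
      rw [relIndex_sup_of_norm hCM] at h1
      have h2 : Nat.card (M ⊓ cen t : Subgroup G) * M.relIndex (cen t) = Nat.card (cen t) := by
        rw [← Subgroup.inf_relIndex_right]
        exact Cfsg.Agent.PBasic.card_mul_relIndex inf_le_right
      rw [hMC] at h2
      rw [← h1, ← h2]
      ring
    have hC : Nat.card (cen t) = 48 * Nat.card (Cfsg.oddCore (cen t)) := by
      haveI := core_normal t
      exact card_eq_mul _ S.iso
    have hO : Nat.card (Cfsg.oddCore (cen t)) = Nat.card (Ov t) := by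
      rw [Ov, Subgroup.card_map_of_injective (cen t).subtype_injective]
    rw [hO] at hC
    rw [hcard, hkk, hC] at hMcard
    have hk9 : ∃ q, (q = 48 ∨ q = 432) ∧
        Nat.card (M ⊔ cen t : Subgroup G) = q * Nat.card (Ov t) := by
      have hpos : 0 < Nat.card (Ov t) := Nat.card_pos
      rcases hk with h | h <;> rw [h] at hMcard
      · exact ⟨48, Or.inl rfl, Nat.eq_of_mul_eq_mul_right hpos (by rw [hMcard]; ring)⟩
      · exact ⟨432, Or.inr rfl, Nat.eq_of_mul_eq_mul_right hpos (by rw [hMcard]; ring)⟩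
    obtain ⟨q, hq, hqc⟩ := hk9
    have hdiv : r ^ i ∣ q * Nat.card (Ov t) := hqc ▸ hi ▸ Subgroup.card_dvd_of_le hYN
    have hco : (r ^ i).Coprime q := by
      refine Nat.Coprime.pow_left i ((hr.coprime_iff_not_dvd).2 fun h => ?_)
      have : r ∣ 2 ^ 4 * 3 ^ 3 := h.trans (by rcases hq with rfl | rfl <;> norm_num)
      rcases (Nat.Prime.dvd_mul hr).1 this with h' | h'
      · exact h2 ((Nat.prime_dvd_prime_iff_eq hr Nat.prime_two).1 (hr.dvd_of_dvd_pow h'))
      · exact h3 ((Nat.prime_dvd_prime_iff_eq hr Nat.prime_three).1 (hr.dvd_of_dvd_pow h'))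
    have hle := (hr.pow_dvd_iff_le_factorization Nat.card_pos.ne').1 (hco.dvd_of_dvd_mul_left hdiv)
    omega
  have hPc := P.card_eq_multiplicity
  rw [hPR, hRc] at hPc
  exact (Nat.pow_right_injective hr.two_le hPc).ge

end Full

end Cfsg.Agent.SubThree
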