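import Cfsg.Agent.Lib.GLTwoThree.Local
import Mathlib.GroupTheory.QuotientGroup.Basic
import Mathlib.GroupTheory.OrderOfElement

/-!
Checks on the model of `GL(2,3)` and sums over a group with a quotient isomorphic to it.
-/

set_option autoImplicit false
set_option linter.style.haveILetI false
set_option maxRecDepth 100000
set_option linter.unusedSectionVars false
set_option synthInstance.maxSize 4000
set_option synthInstance.maxHeartbeats 400000

namespace Cfsg.Agent.SubThree

open Cfsg.Agent.GLTwoThree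

/-- The conditions counted by `nloc`. -/
def LocCond (v x : V) : Prop :=
  x ≠ one ∧ mul x x = one ∧ mul x v ≠ one ∧ mul (mul x v) (mul x v) = one

instance (v x : V) : Decidable (LocCond v x) := inferInstanceAs (Decidable (_ ∧ _))

theorem loc_check : ∀ v ∈ U, inD v → ∀ x ∈ U, LocCond v x → x ≠ negOne ∧ mul x v ≠ negOne := by
  decide +kernel

theorem pw_mod_check : ∀ v ∈ U, pw v 24 = one := by decide +kernel

theorem inD_pw_check : ∀ v ∈ U, inD v → ∀ j ∈ List.range 24,
    mul (pw v j) (pw v j) = one → pw v j ≠ one → pw v j = negOne := by decide +kernel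

theorem section_check : ∀ v ∈ U, ∀ s ∈ U, mul v s = mul s v → pw v 16 = one → pw s 3 = one →
    v = negOne ∨ (¬ inD v ∧ ¬ inD (mul v s)) ∨ s = one := by decide +kernel

theorem odd_pw_check : ∀ s ∈ U, pw s 24 = one ∧ (pw s 8 = one → pw s 3 = one → s = one) := by
  decide +kernel

theorem negOne_check : negOne ∈ U ∧ mul negOne negOne = one ∧ negOne ≠ one ∧
    ¬ inD one ∧ ∀ v ∈ U, mul negOne v = mul v negOne := by decide +kernel

/-- The quaternion subgroup. -/
def InQ (v : V) : Prop := det v = 1 ∧ pw v 4 = one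

instance (v : V) : Decidable (InQ v) := inferInstanceAs (Decidable (_ ∧ _))

theorem InQ_check : InQ one ∧ (∀ x ∈ U, ∀ y ∈ U, InQ x → InQ y → InQ (mul x y)) ∧
    (∀ x ∈ U, InQ x → InQ (inv x)) ∧ (∀ x ∈ U, ∀ v ∈ U, InQ v → InQ (cj x v)) ∧
    (∀ x ∈ U, (∀ v ∈ U, InQ v → mul x v = mul v x) → InQ x) := by decide +kernel

universe u

variable {C : Type u} [Group C] [Finite C] (O : Subgroup C) [O.Normal]
  (e : C ⧸ O ≃* Matrix.GeneralLinearGroup (Fin 2) (ZMod 3))

/-- The image of an element in the model. -/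
def im (c : C) : V := co' e (QuotientGroup.mk' O c)

theorem im_mul (a b : C) : im O e (a * b) = mul (im O e a) (im O e b) := by
  rw [im, map_mul, co'_mul]; rfl

theorem im_mem (a : C) : im O e a ∈ U := co'_mem e _

theorem im_pow (a : C) (k : ℕ) : im O e (a ^ k) = pw (im O e a) k := by
  rw [im, map_pow, co'_pow]; rfl

theorem im_one : im O e 1 = one := by rw [im, map_one, co'_one]

theorem im_surj {v : V} (hv : v ∈ U) : ∃ c : C, im O e c = v := by
  obtain ⟨x, hx⟩ := co'_surj e hv
  obtain ⟨c, rfl⟩ := QuotientGroup.mk'_surjective O x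
  exact ⟨c, hx⟩

theorem im_eq_one {c : C} : im O e c = one ↔ c ∈ O := by
  rw [im, co'_eq_one]; exact QuotientGroup.eq_one_iff c

theorem im_eq_iff {a b : C} : im O e a = im O e b ↔ a⁻¹ * b ∈ O := by
  refine ⟨fun h => QuotientGroup.eq.1 (co'_injective e h), fun h => congrArg (co' e) ?_⟩
  exact QuotientGroup.eq.2 h

/-- A sum over the group of a function of the image. -/
theorem sum_im [Fintype C] {A : Type*} [AddCommMonoid A] (F : C ⧸ O → A) [Fintype (C ⧸ O)] :
    ∑ c : C, F (QuotientGroup.mk' O c) = Nat.card O • ∑ a : C ⧸ O, F a := by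
  classical
  haveI : Fintype O := Fintype.ofFinite O
  rw [Finset.smul_sum, ← Finset.sum_fiberwise_of_maps_to (s := Finset.univ) (t := Finset.univ)
    (g := QuotientGroup.mk' O) (fun _ _ => Finset.mem_univ _)]
  refine Finset.sum_congr rfl fun a _ => ?_
  rw [Finset.sum_congr rfl (fun c hc => congrArg F (Finset.mem_filter.1 hc).2), Finset.sum_const]
  congr 1
  obtain ⟨c₀, rfl⟩ := QuotientGroup.mk'_surjective O a
  rw [Nat.card_eq_fintype_card, ← Finset.card_univ]
  symm
  refine Finset.card_bij (fun o _ => c₀ * (o : C)) (fun o _ => ?_)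
    (fun o _ o' _ h => Subtype.ext (mul_left_cancel h)) (fun c hc => ?_)
  · exact Finset.mem_filter.2 ⟨Finset.mem_univ _, (QuotientGroup.eq.2 (by simp)).symm⟩
  · exact ⟨⟨c₀⁻¹ * c, QuotientGroup.eq.1 (Finset.mem_filter.1 hc).2.symm⟩, Finset.mem_univ _,
      mul_inv_cancel_left c₀ c⟩

include e in
theorem card_eq_mul : Nat.card C = 48 * Nat.card O := by
  rw [← O.index_mul_card, Subgroup.index, card_X e]

include e in
/-- The number of elements with image in a given set. -/
theorem card_im (p : V → Prop) [DecidablePred p] :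
    Nat.card {c : C // p (im O e c)} = Nat.card O * (U.filter p).card := by
  classical
  haveI : Fintype C := Fintype.ofFinite C
  haveI : Fintype (C ⧸ O) := Fintype.ofFinite _
  rw [Nat.card_eq_fintype_card, Fintype.card_subtype, Finset.card_filter, ← card_filter_co' e p,
    Finset.card_filter, ← smul_eq_mul, ← sum_im O]
  rfl

theorem pow_eight_of_odd {c : C} (hO : Odd (Nat.card O)) (h3 : pw (im O e c) 3 = one) :
    ¬ 2 ∣ orderOf c := by
  rw [← im_pow, im_eq_one] at h3
  have h : c ^ (3 * Nat.card O) = 1 := by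
    rw [pow_mul]; exact orderOf_dvd_iff_pow_eq_one.1 (O.orderOf_dvd_natCard h3)
  intro h2
  have h4 : Odd (3 * Nat.card O) := Nat.odd_mul.2 ⟨by decide, hO⟩
  exact (Nat.not_even_iff_odd.2 h4) (even_iff_two_dvd.2 (h2.trans (orderOf_dvd_of_pow_eq_one h)))

theorem cube_of_odd {c : C} (hc : ¬ 2 ∣ orderOf c) : pw (im O e c) 3 = one := by
  have key : ∀ n, n < 24 → (n ∣ 24) → ¬ 2 ∣ n → n ∣ 3 := by decide
  rw [← im_pow, im_eq_one, ← QuotientGroup.eq_one_iff]
  show ((c : C ⧸ O)) ^ 3 = 1
  refine orderOf_dvd_iff_pow_eq_one.1 ?_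
  have h24 : orderOf (c : C ⧸ O) ∣ 24 := orderOf_dvd_of_pow_eq_one (co'_injective e (by
    rw [co'_pow, co'_one]
    exact pw_mod_check _ (co'_mem e _)))
  have hdvd : orderOf (c : C ⧸ O) ∣ orderOf c := orderOf_map_dvd (QuotientGroup.mk' O) c
  have hodd : ¬ 2 ∣ orderOf (c : C ⧸ O) := fun h => hc (h.trans hdvd)
  rcases Nat.lt_or_ge (orderOf (c : C ⧸ O)) 24 with h | h
  · exact key _ h h24 hodd
  · have := Nat.le_of_dvd (by norm_num) h24
    exact absurd (show 2 ∣ orderOf (c : C ⧸ O) by rw [show orderOf (c : C ⧸ O) = 24 by omega]; decide) hodd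

theorem im_two_elt {c : C} (hc : ∃ k, orderOf c = 2 ^ k) : pw (im O e c) 16 = one := by
  obtain ⟨k, hk⟩ := hc
  have h24 : orderOf (c : C ⧸ O) ∣ 24 := orderOf_dvd_of_pow_eq_one (co'_injective e (by
    rw [co'_pow, co'_one]
    exact pw_mod_check _ (co'_mem e _)))
  obtain ⟨j, -, hj⟩ := (Nat.dvd_prime_pow Nat.prime_two).1 (hk ▸ orderOf_map_dvd (QuotientGroup.mk' O) c :
    orderOf (c : C ⧸ O) ∣ 2 ^ k)
  rw [hj] at h24
  have hj4 : j ≤ 4 := by
    by_contra hlt
    have := (pow_dvd_pow 2 (by omega : 5 ≤ j)).trans h24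
    norm_num at this
  rw [← im_pow, im_eq_one, ← QuotientGroup.eq_one_iff]
  exact orderOf_dvd_iff_pow_eq_one.1 (hj ▸ (pow_dvd_pow 2 hj4 : 2 ^ j ∣ 16))

end Cfsg.Agent.SubThree
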