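import Cfsg.Agent.Lib.SubThree.SDThree
import Cfsg.Agent.Lib.SubThree.PSLFixed
import Cfsg.Agent.Lib.GW.InvolAction
import Cfsg.Agent.Lib.TwoGroups.QDFusion
import Cfsg.Agent.Lib.Char.Burnside
import Cfsg.Agent.Lib.OddChar.OddTheorem
import Cfsg.Agent.S1213
import Cfsg.Agent.S1240
import Cfsg.Agent.S3304

/-!
In a simple group with quasi-dihedral Sylow subgroups and a self-centralising four-group with a
rotation the involution centralisers are extensions of a core by `GL(2,3)`.
-/

set_option autoImplicit false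
set_option linter.style.haveILetI false
set_option linter.unusedSectionVars false
set_option synthInstance.maxSize 4000
set_option maxRecDepth 100000

namespace Cfsg.Agent.SubThree

open Cfsg Cfsg.Agent.GLTwoThree Cfsg.Agent.DGroup

universe u

theorem q16_check : ∀ a b : QuaternionGroup 4, a * a = 1 → b * b = 1 → a ≠ 1 → b ≠ 1 → a = b := by
  decide +kernel

/-- The normaliser of a two-group with a large cyclic part is small. -/
theorem card_le_of_invol {X : Type*} [Group X] [Finite X] {t : X} {N D K : Subgroup X}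
    (hN : N ≤ Subgroup.normalizer (D : Set X)) (htN : ∀ g ∈ N, g * t = t * g) (hKD : K ≤ D)
    (hK : 2 * Nat.card K = Nat.card D) (hKt : ∀ k ∈ K, k * k = 1 → k = 1 ∨ k = t) {x : X}
    (hxD : x ∈ D) (hxx : x * x = 1) (hx1 : x ≠ 1) (hxt : x ≠ t)
    (hcent : Nat.card (Subgroup.centralizer ({x} : Set X)) ≤ 4) :
    Nat.card N ≤ 2 * Nat.card D := by
  classical
  have hnot : ∀ g ∈ N, g * x * g⁻¹ ∉ K := by
    intro g hg hk
    rcases hKt _ hk (by rw [show g * x * g⁻¹ * (g * x * g⁻¹) = g * (x * x) * g⁻¹ by group, hxx,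
      mul_one, mul_inv_cancel]) with e | e
    · exact hx1 (conj_eq_one_iff.1 e)
    · refine hxt (mul_left_cancel (mul_right_cancel (e.trans ?_) : g * x = g * t))
      rw [htN g hg, mul_inv_cancel_right]
  have hidx : (K.subgroupOf D).index = 2 := by
    have h := (K.subgroupOf D).card_mul_index
    rw [Nat.card_congr (Subgroup.subgroupOfEquivOfLe hKD).toEquiv, ← hK, mul_comm 2] at h
    exact Nat.eq_of_mul_eq_mul_left Nat.card_pos h
  have hxK : x ∉ K := fun h => by simpa using hnot 1 (one_mem N) (by simpa using h)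
  have hmul : ∀ g : N, (g : X) * x * (g : X)⁻¹ * x ∈ K := by
    intro g
    have hgD : (g : X) * x * (g : X)⁻¹ ∈ D := (Subgroup.mem_normalizer_iff.1 (hN g.2) x).1 hxD
    exact Subgroup.mem_subgroupOf.1 ((Subgroup.mul_mem_iff_of_index_two hidx
      (a := (⟨_, hgD⟩ : D)) (b := ⟨x, hxD⟩)).2 (iff_of_false (hnot g g.2) hxK))
  let f : N → K := fun g => ⟨(g : X) * x * (g : X)⁻¹ * x, hmul g⟩
  let r : K → N := fun k => if h : ∃ g, f g = k then h.choose else 1
  have hr : ∀ g, f (r (f g)) = f g := fun g => by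
    have h : ∃ g', f g' = f g := ⟨g, rfl⟩
    simp only [r, dif_pos h]
    exact h.choose_spec
  have hfib : ∀ g, ((r (f g) : X))⁻¹ * g ∈ Subgroup.centralizer ({x} : Set X) := by
    intro g
    have h := mul_right_cancel (congrArg Subtype.val (hr g) :
      (r (f g) : X) * x * (r (f g) : X)⁻¹ * x = (g : X) * x * (g : X)⁻¹ * x)
    refine Subgroup.mem_centralizer_singleton_iff.2 ?_
    calc ((r (f g) : X))⁻¹ * g * x = ((r (f g) : X))⁻¹ * ((g : X) * x * (g : X)⁻¹) * g := by group
      _ = x * (((r (f g) : X))⁻¹ * g) := by rw [← h]; group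
  have hle := Nat.card_le_card_of_injective
    (fun g : N => ((f g, ⟨_, hfib g⟩) : K × Subgroup.centralizer ({x} : Set X))) fun a b e => by
      have e1 : f a = f b := congrArg Prod.fst e
      have e2 : ((r (f a) : X))⁻¹ * a = ((r (f b) : X))⁻¹ * b :=
        congrArg Subtype.val (congrArg Prod.snd e)
      rw [e1] at e2
      exact Subtype.ext (mul_left_cancel e2)
  rw [Nat.card_prod] at hle
  calc Nat.card N ≤ Nat.card K * 4 := hle.trans (Nat.mul_le_mul_left _ hcent)
    _ = 2 * Nat.card D := by rw [← hK]; ring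

variable {G : Type u} [Group G] [Finite G]

attribute [local instance] core_normal

/-- A Sylow subgroup of the centraliser is quasi-dihedral with centre generated by the involution. -/
theorem exists_pres_cen [IsSimpleGroup G] (S : Sylow 2 G)
    (hS : Cfsg.IsQuasiDihedral (S : Subgroup G)) (hG : ∀ H : Subgroup G, H.index ≠ 2) {t : G}
    (ht : orderOf t = 2) (R : Sylow 2 (cen t)) :
    Nat.card (R : Subgroup (cen t)) = Nat.card (S : Subgroup G) ∧
      ∃ d : QD.Pres (R : Subgroup (cen t)), ((d.z : (R : Subgroup (cen t))) : cen t) = tc := by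
  haveI : Fact (Nat.Prime 2) := ⟨Nat.prime_two⟩
  obtain ⟨R₀, hR₀, -⟩ := S1213.result S (Or.inl hS) hG t ht
  have hRR : Nat.card (R : Subgroup (cen t)) = Nat.card (R₀ : Subgroup (cen t)) := by
    rw [R.card_eq_multiplicity, R₀.card_eq_multiplicity]
  have hcard : Nat.card (R : Subgroup (cen t)) = Nat.card (S : Subgroup G) := hRR.trans hR₀
  refine ⟨hcard, ?_⟩
  let R' : Subgroup G := (R : Subgroup (cen t)).map (cen t).subtype
  have hR'c : Nat.card R' = 2 ^ (Nat.card G).factorization 2 := by
    rw [Subgroup.card_map_of_injective (cen t).subtype_injective]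
    exact hcard.trans S.card_eq_multiplicity
  let eR : (R : Subgroup (cen t)) ≃* (S : Subgroup G) :=
    ((R : Subgroup (cen t)).equivMapOfInjective (cen t).subtype (cen t).subtype_injective).trans
      ((Sylow.ofCard R' hR'c).equiv S)
  obtain ⟨d, -⟩ := QD.exists_pres (S1213.qd_transport eR.symm hS)
  refine ⟨d, ?_⟩
  have hto : orderOf (tc : cen t) = 2 := by rw [← Subgroup.orderOf_coe]; exact ht
  have htR : (tc : cen t) ∈ (R : Subgroup (cen t)) := by
    haveI : (Subgroup.zpowers (tc : cen t)).Normal := ⟨fun n hn g => by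
      obtain ⟨k, rfl⟩ := Subgroup.mem_zpowers_iff.1 hn
      have h : Commute g tc := Subtype.ext (Subgroup.mem_centralizer_singleton_iff.1 g.2)
      rw [(h.zpow_right k).eq, mul_inv_cancel_right]
      exact zpow_mem (Subgroup.mem_zpowers _) k⟩
    have hp : IsPGroup 2 (Subgroup.zpowers (tc : cen t)) :=
      IsPGroup.of_card (n := 1) (by rw [Nat.card_zpowers, hto, pow_one])
    exact hp.le_sylow_of_normal R (Subgroup.mem_zpowers _)
  set tR : (R : Subgroup (cen t)) := ⟨tc, htR⟩ with htRdef
  have h2 : tR * tR = 1 := Subtype.ext (by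
    show (tc : cen t) * tc = 1
    rw [← pow_two, ← hto, pow_orderOf_eq_one])
  rcases d.sq_eq_one_cases h2 with h | h | ⟨i, -, h⟩
  · have h' : (tc : cen t) = 1 := congrArg Subtype.val h
    rw [h', orderOf_one] at hto
    omega
  · exact (congrArg Subtype.val h).symm
  · exfalso
    have hc : tR * d.x ^ (1 : ℤ) = d.x ^ (1 : ℤ) * tR := Subtype.ext (Subtype.ext
      (Subgroup.mem_centralizer_singleton_iff.1 ((d.x ^ (1 : ℤ) : (R : Subgroup (cen t))) : cen t).2).symm)
    rw [h] at hc
    have h4 := Int.le_of_dvd one_pos ((d.commute_form_pow i 1).1 hc)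
    linarith [d.r_pos]

/-- The setting from a quasi-dihedral Sylow subgroup in a simple group. -/
theorem setup_of_simple [IsSimpleGroup G] (S : Sylow 2 G)
    (hS : Cfsg.IsQuasiDihedral (S : Subgroup G)) {t u ρ : G} (F : Frame t u ρ) : Setup t u ρ := by
  classical
  haveI : Fact (Nat.Prime 2) := ⟨Nat.prime_two⟩
  have hG : ∀ H : Subgroup G, H.index ≠ 2 := by
    intro H hH
    haveI := Subgroup.normal_of_index_eq_two hH
    rcases IsSimpleGroup.eq_bot_or_eq_top_of_normal H inferInstance with e | e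
    · rw [e, Subgroup.index_bot] at hH
      have hd : Nat.card ({1, t, u} : Finset G) ≤ 2 := hH ▸ Nat.card_le_card_of_injective _ Subtype.val_injective
      rw [Nat.card_eq_finsetCard, Finset.card_eq_three.2 ⟨1, t, u, F.t_ne_one.symm, fun h => by
        have := F.hu
        rw [← h, orderOf_one] at this
        omega, F.ne, rfl⟩] at hd
      omega
    · rw [e, Subgroup.index_top] at hH; omega
  have hpres := fun R => exists_pres_cen S hS hG F.ht R
  set uc : cen t := ⟨u, F.mem_u⟩ with hucdef
  have huc2 : orderOf uc = 2 := by rw [← Subgroup.orderOf_coe]; exact F.hu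
  have htc2 : (tc : cen t) * tc = 1 := Subtype.ext F.tt
  have htcc : ∀ g : cen t, g * tc = tc * g := fun g =>
    Subtype.ext (Subgroup.mem_centralizer_singleton_iff.1 g.2)
  have huct : uc ≠ tc := fun h => F.ne (congrArg Subtype.val h).symm
  obtain ⟨R, hR⟩ := (IsPGroup.of_card (p := 2) (n := 1) (G := Subgroup.zpowers uc)
    (by rw [Nat.card_zpowers, huc2, pow_one])).exists_le_sylow
  have huR : uc ∈ (R : Subgroup (cen t)) := hR (Subgroup.mem_zpowers _)
  obtain ⟨hRcard, d, hdz⟩ := hpres R
  -- the involutions of the centraliser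
  have hinvC : ∀ x : cen t, x * x = 1 → x ≠ 1 → x ≠ tc → ∃ h : cen t, h * uc * h⁻¹ = x := by
    intro x hx hx1 hxt
    obtain ⟨g, hg⟩ := TwoFus.exists_conj_mem R (k := 1) (a := x)
      (by rw [pow_one]; exact orderOf_eq_prime (by rw [pow_two, hx]) hx1)
    have hform : ∀ y : (R : Subgroup (cen t)), (y : cen t) * y = 1 → (y : cen t) ≠ 1 →
        (y : cen t) ≠ tc → ∃ i : ℤ, 2 ∣ i ∧ y = d.x ^ i * d.y := by
      intro y hy hy1 hyt
      rcases d.sq_eq_one_cases (Subtype.ext hy : y * y = 1) with e | e | e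
      · exact absurd (congrArg Subtype.val e) hy1
      · exact absurd ((congrArg Subtype.val e).trans hdz) hyt
      · exact e
    obtain ⟨i, hi, hie⟩ := hform ⟨g * x * g⁻¹, hg⟩
      (by show g * x * g⁻¹ * (g * x * g⁻¹) = 1
          rw [show g * x * g⁻¹ * (g * x * g⁻¹) = g * (x * x) * g⁻¹ by group, hx, mul_one, mul_inv_cancel])
      (fun e => hx1 (conj_eq_one_iff.1 e))
      (fun e => hxt (mul_left_cancel (mul_right_cancel
        ((e : g * x * g⁻¹ = tc).trans (by rw [htcc, mul_inv_cancel_right])) : g * x = g * tc)))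
    obtain ⟨j, hj, hje⟩ := hform ⟨uc, huR⟩
      (by show uc * uc = 1; rw [← pow_two, ← huc2, pow_orderOf_eq_one])
      (fun e => by
        have e' : uc = 1 := e
        rw [e', orderOf_one] at huc2
        omega)
      huct
    obtain ⟨k, hk⟩ := d.conj_form j i (dvd_sub hi hj)
    rw [← hje, ← hie] at hk
    refine ⟨g⁻¹ * ((d.x ^ k : (R : Subgroup (cen t))) : cen t), ?_⟩
    have hk' := congrArg Subtype.val hk
    simp only [Subgroup.coe_mul, Subgroup.coe_inv] at hk'
    calc _ = g⁻¹ * (((d.x ^ k : (R : Subgroup (cen t))) : cen t) * uc *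
          (((d.x ^ k : (R : Subgroup (cen t))) : cen t))⁻¹) * g := by group
      _ = g⁻¹ * (g * x * g⁻¹) * g := by rw [hk']
      _ = x := by group
  have hC4 : ∀ x : cen t, x * x = 1 → x ≠ 1 → x ≠ tc →
      Nat.card (Subgroup.centralizer ({x} : Set (cen t))) ≤ 4 := by
    intro x hx hx1 hxt
    obtain ⟨h, hh⟩ := hinvC x hx hx1 hxt
    have hmem : ∀ c : Subgroup.centralizer ({x} : Set (cen t)),
        ((h⁻¹ * c * h : cen t) : G) ∈ ({1, t, u, t * u} : Finset G) := by
      intro c
      have hc : (h⁻¹ * (c : cen t) * h) * uc = uc * (h⁻¹ * (c : cen t) * h) := by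
        have e : (c : cen t) * (h * uc * h⁻¹) = (h * uc * h⁻¹) * (c : cen t) := by
          rw [hh]; exact Subgroup.mem_centralizer_singleton_iff.1 c.2
        calc (h⁻¹ * (c : cen t) * h) * uc = h⁻¹ * ((c : cen t) * (h * uc * h⁻¹)) * h := by group
          _ = h⁻¹ * ((h * uc * h⁻¹) * (c : cen t)) * h := by rw [e]
          _ = uc * (h⁻¹ * (c : cen t) * h) := by group
      rcases F.selfCent _ (Subgroup.mem_centralizer_singleton_iff.1 (h⁻¹ * (c : cen t) * h).2)
        (congrArg Subtype.val hc) with e | e | e | e <;> simp [e]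
    refine (Nat.card_le_card_of_injective (fun c => (⟨_, hmem c⟩ : ({1, t, u, t * u} : Finset G)))
      fun a b e => Subtype.ext (mul_left_cancel (mul_right_cancel
        (Subtype.ext (congrArg (fun z : ({1, t, u, t * u} : Finset G) => (z : G)) e) : h⁻¹ * (a : cen t) * h = h⁻¹ * (b : cen t) * h)))).trans ?_
    rw [Nat.card_eq_finsetCard]
    exact Finset.card_le_four
  -- one class of involutions
  have hone : ∀ x, orderOf x = 2 → IsConj t x := by
    intro x hx
    let R' : Subgroup G := (R : Subgroup (cen t)).map (cen t).subtype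
    have hR'c : Nat.card R' = 2 ^ (Nat.card G).factorization 2 := by
      rw [Subgroup.card_map_of_injective (cen t).subtype_injective]
      exact hRcard.trans S.card_eq_multiplicity
    obtain ⟨g, hg⟩ := TwoFus.exists_conj_mem (Sylow.ofCard R' hR'c) (k := 1) (a := x)
      (by rw [hx, pow_one])
    obtain ⟨y, -, hy⟩ := (hg : g * x * g⁻¹ ∈ R')
    refine IsConj.trans ?_ ((isConj_iff.2 ⟨g, rfl⟩ : IsConj x (g * x * g⁻¹)).symm)
    have hy' : (y : G) = g * x * g⁻¹ := hy
    rw [← hy']
    by_cases hyt : y = tc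
    · subst hyt
      exact IsConj.refl _
    · have hyo : orderOf y = 2 := by
        rw [← Subgroup.orderOf_coe, hy', show g * x * g⁻¹ = MulAut.conj g x from rfl,
          MulEquiv.orderOf_eq, hx]
      obtain ⟨h, hh⟩ := hinvC y (by rw [← pow_two, ← hyo, pow_orderOf_eq_one])
        (fun e => by rw [e, orderOf_one] at hyo; omega) hyt
      exact (isConj_iff.2 ⟨ρ, F.rot_t⟩ : IsConj t u).trans
        (isConj_iff.2 ⟨(h : G), congrArg Subtype.val hh⟩)
  -- the quotient by the core
  set O := Cfsg.oddCore (cen t) with hOdef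
  have hOodd : Odd (Nat.card O) := core_odd t
  set π := QuotientGroup.mk' O with hπ
  have hsurj : Function.Surjective π := QuotientGroup.mk'_surjective _
  let j : (R : Subgroup (cen t)) →* cen t ⧸ O := π.comp (R : Subgroup (cen t)).subtype
  have hjinj : Function.Injective j := by
    rw [injective_iff_map_eq_one]
    intro r hr
    have h1 : (r : cen t) ∈ O := (QuotientGroup.eq_one_iff (r : cen t)).1 hr
    obtain ⟨k, hk⟩ := IsPGroup.iff_orderOf.1 R.2 r
    have h2 : orderOf (r : cen t) ∣ Nat.card O := Subgroup.orderOf_dvd_natCard _ h1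
    rw [Subgroup.orderOf_coe, hk] at h2
    refine orderOf_eq_one_iff.1 ?_
    rw [hk]
    exact Nat.eq_one_of_dvd_coprimes ((Nat.coprime_two_left.2 hOodd).pow_left k) dvd_rfl h2
  have htR : (tc : cen t) ∈ (R : Subgroup (cen t)) := hdz ▸ (d.z).2
  have huc1 : uc ≠ 1 := fun e => by rw [e, orderOf_one] at huc2; omega
  have hucc : uc * uc = 1 := by rw [← pow_two, ← huc2, pow_orderOf_eq_one]
  have hu1 : π uc ≠ 1 := fun e =>
    huc1 (congrArg Subtype.val (hjinj (show j ⟨uc, huR⟩ = j 1 by rw [map_one]; exact e)))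
  have hut : π uc ≠ π tc := fun e =>
    huct (congrArg Subtype.val (hjinj (show j ⟨uc, huR⟩ = j ⟨tc, htR⟩ from e)))
  have hlift : ∀ x : cen t, x * x = 1 → ∀ q, q * π x = π x * q →
      ∃ c, c * x = x * c ∧ π c = q := by
    intro x hx q hq
    obtain ⟨c, rfl⟩ := hsurj q
    have h0 : c⁻¹ * (x * c * x) ∈ O := by
      refine (QuotientGroup.eq_one_iff _).1 ?_
      show π _ = 1
      rw [map_mul, map_mul, map_mul, map_inv, ← hq, mul_assoc (π c), ← map_mul π x x, hx, map_one,
        mul_one, inv_mul_cancel]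
    obtain ⟨k, hk, hkc⟩ := Cfsg.Agent.GW.exists_cent_mul hOodd hx h0
    refine ⟨c * k, hkc.symm, ?_⟩
    rw [map_mul, show π k = 1 from (QuotientGroup.eq_one_iff k).2 hk, mul_one]
  have hQ4 : ∀ x : cen t, x * x = 1 → x ≠ 1 → x ≠ tc →
      Nat.card (Subgroup.centralizer ({π x} : Set (cen t ⧸ O))) ≤ 4 := by
    intro x hx hx1 hxt
    refine le_trans ?_ (hC4 x hx hx1 hxt)
    refine Nat.card_le_card_of_surjective
      (fun c : Subgroup.centralizer ({x} : Set (cen t)) => (⟨π c, Subgroup.mem_centralizer_singleton_iff.2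
        (by rw [← map_mul, ← map_mul, Subgroup.mem_centralizer_singleton_iff.1 c.2])⟩ :
          Subgroup.centralizer ({π x} : Set (cen t ⧸ O)))) ?_
    rintro ⟨q, hq⟩
    obtain ⟨c, hc, rfl⟩ := hlift x hx q (Subgroup.mem_centralizer_singleton_iff.1 hq)
    exact ⟨⟨c, Subgroup.mem_centralizer_singleton_iff.2 hc⟩, rfl⟩
  -- the derived group of the quotient
  obtain ⟨K₀, instK, instFK, hodd, ⟨e⟩⟩ := S1240.result S (Or.inl hS) hG
    (fun a b ha hb => (hone a ha).symm.trans (hone b hb)) t F.ht
  set Q' := commutator (cen t ⧸ O) with hQ'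
  have h2K := Cfsg.Agent.GW.two_ne_zero_of_odd hodd
  have hq3 : 3 ≤ Fintype.card K₀ := by
    have := Fintype.one_lt_card (α := K₀)
    obtain ⟨r, hr⟩ := hodd
    omega
  have hSLcard : 24 ≤ Nat.card (Matrix.SpecialLinearGroup (Fin 2) K₀) := by
    rw [SL2Inv.card_sl2, Nat.card_eq_fintype_card (α := K₀)]
    calc 24 = 3 * 2 * 4 := by norm_num
      _ ≤ _ := Nat.mul_le_mul (Nat.mul_le_mul hq3 (by omega)) (by omega)
  have hnotQ' : ∀ w : cen t, w * w = 1 → w ≠ 1 → w ≠ tc → π w ∉ Q' := by
    intro w hw hw1 hwt hmem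
    have hwq : π w ≠ 1 := by
      intro h
      have h1 : w ∈ O := (QuotientGroup.eq_one_iff w).1 h
      exact hw1 (eq_one_of_sq hOodd h1 hw)
    rcases SL2Inv.eq_or_eq_negOne_of_mul_self h2K (g := e ⟨π w, hmem⟩)
      (by rw [← map_mul, show (⟨π w, hmem⟩ : Q') * ⟨π w, hmem⟩ = 1 from Subtype.ext (by
        show π w * π w = 1
        rw [← map_mul, hw, map_one]), map_one]) with h | h
    · exact hwq (congrArg Subtype.val (e.injective (h.trans (map_one e).symm)))
    · have hle : Q' ≤ Subgroup.centralizer ({π w} : Set (cen t ⧸ O)) := by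
        intro q hq
        refine Subgroup.mem_centralizer_singleton_iff.2 (congrArg Subtype.val (e.injective (?_ :
          e (⟨q, hq⟩ * ⟨π w, hmem⟩) = e (⟨π w, hmem⟩ * ⟨q, hq⟩))))
        rw [map_mul, map_mul, h, SL2Inv.negOne_comm]
      have := (Subgroup.card_le_of_le hle).trans (hQ4 w hw hw1 hwt)
      rw [Nat.card_congr e.toEquiv] at this
      omega
  have htu1 : tc * uc ≠ 1 := fun h => F.w_ne_one (congrArg Subtype.val h)
  have htut : tc * uc ≠ tc := fun h => huc1 (mul_eq_left.1 h)
  have htuu : tc * uc * (tc * uc) = 1 := Subtype.ext F.four.ww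
  have hcardK : Fintype.card K₀ = 3 := by
    by_contra hne
    have h5 : 5 ≤ Fintype.card K₀ := by
      obtain ⟨r, hr⟩ := hodd
      omega
    haveI : Q'.Normal := inferInstance
    let ψ : Q' ≃* Q' := MulAut.conjNormal (π uc)
    let f : Matrix.SpecialLinearGroup (Fin 2) K₀ ≃* Matrix.SpecialLinearGroup (Fin 2) K₀ :=
      e.symm.trans (ψ.trans e)
    have hψ : ∀ q : Q', ((ψ q : Q') : cen t ⧸ O) = π uc * q * (π uc)⁻¹ := fun q => rfl
    refine few_fixed hodd h5 f (fun s => ?_) ?_
    · show e (ψ (e.symm (e (ψ (e.symm s))))) = s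
      rw [e.symm_apply_apply, show ψ (ψ (e.symm s)) = e.symm s from Subtype.ext (by
        rw [hψ, hψ, show π uc * (π uc * ((e.symm s : Q') : cen t ⧸ O) * (π uc)⁻¹) * (π uc)⁻¹ =
          (π uc * π uc) * ((e.symm s : Q') : cen t ⧸ O) * (π uc * π uc)⁻¹ by group, ← map_mul, hucc,
          map_one, one_mul, inv_one, mul_one]), e.apply_symm_apply]
    · have hm : ∀ s : {s // f s = s},
          ((e.symm s.1 : Q') : cen t ⧸ O) ∈ ({1, π tc} : Finset (cen t ⧸ O)) := by
        rintro ⟨s, hs⟩
        have h1 : ψ (e.symm s) = e.symm s := by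
          refine e.injective ?_
          rw [e.apply_symm_apply]
          exact hs
        have h2 := congrArg Subtype.val h1
        rw [hψ, mul_inv_eq_iff_eq_mul] at h2
        obtain ⟨c, hc, hcq⟩ := hlift uc hucc _ h2.symm
        have hmem' : π c ∈ Q' := hcq ▸ (e.symm s).2
        rcases F.selfCent (c : G) (Subgroup.mem_centralizer_singleton_iff.1 c.2)
          (congrArg Subtype.val hc) with h | h | h | h
        · rw [show c = 1 from Subtype.ext h, map_one] at hcq
          simp [← hcq]
        · rw [show c = tc from Subtype.ext h] at hcq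
          simp [← hcq]
        · exact absurd (show π uc ∈ Q' from (show c = uc from Subtype.ext h) ▸ hmem')
            (hnotQ' uc hucc huc1 huct)
        · exact absurd (show π (tc * uc) ∈ Q' from (show c = tc * uc from Subtype.ext h) ▸ hmem')
            (hnotQ' _ htuu htu1 htut)
      refine (Nat.card_le_card_of_injective (fun s => (⟨_, hm s⟩ : ({1, π tc} : Finset (cen t ⧸ O))))
        fun a b h => Subtype.ext (e.symm.injective (Subtype.ext (congrArg Subtype.val h :)))).trans ?_
      rw [Nat.card_eq_finsetCard]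
      exact Finset.card_le_two
  have hSL24 : Nat.card (Matrix.SpecialLinearGroup (Fin 2) K₀) = 24 := by
    rw [SL2Inv.card_sl2, Nat.card_eq_fintype_card (α := K₀), hcardK]
  have hsolv : Group.IsSolvable (cen t) := by
    have h1 : Group.IsSolvable Q' :=
      Cfsg.Agent.Char.isSolvable_of_card_pq 2 3 Nat.prime_two Nat.prime_three _ Q' rfl
        ⟨3, 1, by rw [Nat.card_congr e.toEquiv, hSL24]; norm_num⟩
    have h2 : Group.IsSolvable (cen t ⧸ O) := by
      haveI := h1
      exact Group.isSolvable_of_ker_le_range Q'.subtype (Abelianization.of (G := cen t ⧸ O)) (by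
        rw [Abelianization.ker_of, Subgroup.range_subtype])
    haveI := h2
    haveI : Group.IsSolvable O := OddChar.oddSolvable O hOodd
    exact Group.isSolvable_of_ker_le_range O.subtype π (by
      rw [hπ, QuotientGroup.ker_mk', Subgroup.range_subtype])
  -- intersections of Sylow subgroups
  have hI : ∀ S₁ T₁ : Sylow 2 (cen t), S₁ ≠ T₁ →
      Cfsg.PRankLE 2 1 ↥((S₁ : Subgroup (cen t)) ⊓ (T₁ : Subgroup (cen t))) := by
    intro S₁ T₁ hne
    set D := (S₁ : Subgroup (cen t)) ⊓ (T₁ : Subgroup (cen t)) with hD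
    intro E _ hE2
    by_contra hcon
    push Not at hcon
    obtain ⟨x, hxE, hx1, hxt⟩ : ∃ x : D, x ∈ E ∧ (x : cen t) ≠ 1 ∧ (x : cen t) ≠ tc := by
      by_contra hno
      push Not at hno
      have hle : Nat.card E ≤ Nat.card ({1, tc} : Finset (cen t)) := by
        refine Nat.card_le_card_of_injective (fun x : E => (⟨((x : D) : cen t), ?_⟩ :
          ({1, tc} : Finset (cen t)))) fun a b h => Subtype.ext (Subtype.ext (congrArg Subtype.val h :))
        by_cases h : ((x : D) : cen t) = 1
        · simp [h]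
        · simp [hno _ x.2 h]
      rw [Nat.card_eq_finsetCard] at hle
      have := hle.trans Finset.card_le_two
      omega
    have hxx : (x : cen t) * x = 1 := by
      have := congrArg Subtype.val (hE2 x hxE)
      simpa [pow_two] using this
    obtain ⟨-, d₁, hd₁⟩ := hpres S₁
    have htD : (tc : cen t) ∈ D := ⟨by rw [← hd₁]; exact (d₁.z).2, by
      obtain ⟨-, d₂, hd₂⟩ := hpres T₁
      rw [← hd₂]
      exact (d₂.z).2⟩
    set K : Subgroup (cen t) := D ⊓ (Subgroup.zpowers d₁.x).map (S₁ : Subgroup (cen t)).subtype with hK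
    have hKt : ∀ k ∈ K, k * k = 1 → k = 1 ∨ k = tc := by
      rintro k ⟨-, a, ha, rfl⟩ hk
      rcases d₁.sq_eq_one_cases (Subtype.ext hk : a * a = 1) with h | h | ⟨i, -, h⟩
      · left; rw [h]; rfl
      · right; rw [h]; exact hd₁
      · obtain ⟨k', hk'⟩ := Subgroup.mem_zpowers_iff.1 ha
        exact absurd (hk'.trans h) (d₁.ne_form _ _)
    have hxK : (x : cen t) ∉ K := fun h => (hKt _ h hxx).elim hx1 hxt
    have hKcard : 2 * Nat.card K = Nat.card D := by
      let M := ((Subgroup.zpowers d₁.x).map (S₁ : Subgroup (cen t)).subtype)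
      have h1 : M.relIndex (S₁ : Subgroup (cen t)) = 2 := by
        rw [Subgroup.relIndex, show M.subgroupOf (S₁ : Subgroup (cen t)) = Subgroup.zpowers d₁.x from
          Subgroup.comap_map_eq_self_of_injective (S₁ : Subgroup (cen t)).subtype_injective _]
        exact d₁.index_zpowers
      have h2 : M.relIndex D ∣ 2 := by
        haveI : (M.subgroupOf (S₁ : Subgroup (cen t))).Normal :=
          Subgroup.normal_of_index_eq_two h1
        rw [← Subgroup.relIndex_subgroupOf (H := M) (inf_le_left : D ≤ (S₁ : Subgroup (cen t)))]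
        refine Dvd.dvd.trans ?_ h1.dvd
        exact Subgroup.relIndex_dvd_index_of_normal _ _
      have h3 : M.relIndex D ≠ 1 := fun h => hxK ⟨x.2, Subgroup.relIndex_eq_one.1 h x.2⟩
      have h4 : Nat.card (K : Subgroup (cen t)) * M.relIndex D = Nat.card D := by
        rw [hK, inf_comm, ← Subgroup.inf_relIndex_right M D]
        exact Cfsg.Agent.PBasic.card_mul_relIndex inf_le_right
      rcases (Nat.dvd_prime Nat.prime_two).1 h2 with h | h
      · exact absurd h h3
      · rw [← h4, h, mul_comm]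
    have hN : Nat.card (Subgroup.normalizer (D : Set (cen t))) ≤ 2 * Nat.card D :=
      card_le_of_invol le_rfl (fun g _ => htcc g) inf_le_left hKcard hKt x.2 hxx hx1 hxt
        (hC4 _ hxx hx1 hxt)
    have hgrow : ∀ P : Sylow 2 (cen t), D ≤ (P : Subgroup (cen t)) → D ≠ (P : Subgroup (cen t)) →
        Subgroup.normalizer (D : Set (cen t)) ≤ (P : Subgroup (cen t)) := by
      intro P hDP hne'
      obtain ⟨g, hgP, hgD, hgN⟩ := exists_norm_not_mem P.isPGroup' hDP hne'
      have hle : D ⊔ Subgroup.zpowers g ≤ (P : Subgroup (cen t)) :=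
        sup_le hDP (Subgroup.zpowers_le.2 hgP)
      have hle' : D ⊔ Subgroup.zpowers g ≤ Subgroup.normalizer (D : Set (cen t)) :=
        sup_le Subgroup.le_normalizer (Subgroup.zpowers_le.2 hgN)
      obtain ⟨i, hi⟩ := (P.isPGroup'.to_le hle).exists_card_eq
      obtain ⟨k, hk⟩ := (P.isPGroup'.to_le hDP).exists_card_eq
      have hlt : Nat.card D < Nat.card (D ⊔ Subgroup.zpowers g : Subgroup (cen t)) := by
        by_contra hcon'
        exact hgD ((Subgroup.eq_of_le_of_card_ge (le_sup_left : D ≤ D ⊔ Subgroup.zpowers g)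
          (not_lt.1 hcon')).symm ▸ Subgroup.mem_sup_right (Subgroup.mem_zpowers g))
      rw [← Subgroup.eq_of_le_of_card_ge hle' ?_]
      · exact hle
      · rw [hi] at hlt ⊢
        rw [hk] at hlt hN
        rw [Nat.pow_lt_pow_iff_right (by norm_num)] at hlt
        refine hN.trans ?_
        rw [← pow_succ']
        exact Nat.pow_le_pow_right (by norm_num) hlt
    have hDS : D ≠ (S₁ : Subgroup (cen t)) := fun h => hne (Sylow.ext
      (le_antisymm (h ▸ inf_le_right) (le_of_eq (S₁.is_maximal' T₁.isPGroup' (h ▸ inf_le_right)))))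
    have hDT : D ≠ (T₁ : Subgroup (cen t)) := fun h => hne (Sylow.ext
      (le_antisymm (le_of_eq (T₁.is_maximal' S₁.isPGroup' (h ▸ inf_le_left))) (h ▸ inf_le_left)))
    obtain ⟨g, -, hgD, hgN⟩ := exists_norm_not_mem S₁.isPGroup' inf_le_left hDS
    exact hgD ⟨hgrow S₁ inf_le_left hDS hgN, hgrow T₁ inf_le_right hDT hgN⟩
  refine { toFrame := F, oneClass := hone, quot := fun {inst} => ?_ }
  rcases S3304.result hsolv hI with ⟨P₀, hP₀⟩ | hGL | ⟨-, -, -, hQ16⟩
  · exfalso
    let P : Sylow 2 (cen t ⧸ O) := R.mapSurjective hsurj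
    haveI : Subsingleton (Sylow 2 (cen t ⧸ O)) := by
      haveI := Sylow.unique_of_normal P₀ hP₀
      infer_instance
    haveI hPn : (P : Subgroup (cen t ⧸ O)).Normal := Subsingleton.elim P₀ P ▸ hP₀
    have hPj : (P : Subgroup (cen t ⧸ O)) = j.range := by
      rw [MonoidHom.range_comp, Subgroup.range_subtype]
      rfl
    have hmemP : ∀ r, j r ∈ (P : Subgroup (cen t ⧸ O)) := fun r => hPj ▸ ⟨r, rfl⟩
    have hPc : Nat.card (P : Subgroup (cen t ⧸ O)) = Nat.card (R : Subgroup (cen t)) := by
      rw [hPj]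
      exact (Nat.card_congr (MonoidHom.ofInjective hjinj).toEquiv).symm
    have hKc : 2 * Nat.card ((Subgroup.zpowers d.x).map j) = Nat.card (P : Subgroup (cen t ⧸ O)) := by
      rw [hPc, Subgroup.card_map_of_injective hjinj, ← (Subgroup.zpowers d.x).card_mul_index,
        d.index_zpowers, mul_comm]
    have hN := card_le_of_invol (N := ⊤) (D := (P : Subgroup (cen t ⧸ O)))
      (K := (Subgroup.zpowers d.x).map j) (t := π tc) (x := π uc)
      (by rw [Subgroup.normalizer_eq_top])
      (fun g _ => by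
        obtain ⟨c, rfl⟩ := hsurj g
        rw [← map_mul, ← map_mul, htcc])
      (fun k ⟨a, _, ha⟩ => ha ▸ hmemP a) hKc ?_ (hmemP ⟨uc, huR⟩)
      (by rw [← map_mul, hucc, map_one]) hu1 hut (hQ4 uc hucc huc1 huct)
    · rw [Subgroup.card_top] at hN
      -- the quotient is a two-group
      obtain ⟨i, hi⟩ := P.isPGroup'.exists_card_eq
      have hmul := (P : Subgroup (cen t ⧸ O)).card_mul_index
      have hidx : (P : Subgroup (cen t ⧸ O)).index ≤ 2 := by
        rw [← hmul, mul_comm 2] at hN
        exact Nat.le_of_mul_le_mul_left hN Nat.card_pos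
      have hodd' : ¬ 2 ∣ (P : Subgroup (cen t ⧸ O)).index := P.not_dvd_index
      have hne0 : (P : Subgroup (cen t ⧸ O)).index ≠ 0 := Subgroup.index_ne_zero_of_finite
      have hidx1 : (P : Subgroup (cen t ⧸ O)).index = 1 := by omega
      rw [hidx1, mul_one] at hmul
      have h3 : 3 ∣ Nat.card (cen t ⧸ O) :=
        Dvd.dvd.trans (by rw [Nat.card_congr e.toEquiv, hSL24]; norm_num)
          (Subgroup.card_subgroup_dvd_card Q')
      rw [← hmul, hi] at h3
      exact absurd (Nat.prime_three.dvd_of_dvd_pow h3) (by norm_num)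
    · rintro k ⟨a, ha, rfl⟩ hk
      rcases d.sq_eq_one_cases (hjinj (by rw [map_mul, map_one]; exact hk) : a * a = 1) with
        h | h | ⟨i, -, h⟩
      · left; rw [h, map_one]
      · right; rw [h]; exact congrArg π hdz
      · obtain ⟨k', hk'⟩ := Subgroup.mem_zpowers_iff.1 ha
        exact absurd (hk'.trans h) (d.ne_form _ _)
  · exact hGL
  · exfalso
    let P : Sylow 2 (cen t ⧸ O) := R.mapSurjective hsurj
    obtain ⟨ε⟩ := hQ16 P
    have hmem : ∀ r : (R : Subgroup (cen t)), j r ∈ (P : Subgroup (cen t ⧸ O)) := fun r =>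
      ⟨r, r.2, rfl⟩
    set a : (P : Subgroup (cen t ⧸ O)) := ⟨π uc, hmem ⟨uc, huR⟩⟩ with ha
    set b : (P : Subgroup (cen t ⧸ O)) := ⟨π tc, hmem ⟨tc, htR⟩⟩ with hb
    have hb1 : π tc ≠ 1 := fun h => by
      have h' : (tc : cen t) = 1 :=
        congrArg Subtype.val (hjinj (show j ⟨tc, htR⟩ = j 1 by rw [map_one]; exact h))
      exact F.t_ne_one (congrArg Subtype.val h')
    refine hut (congrArg Subtype.val (ε.injective (q16_check (ε a) (ε b) ?_ ?_ ?_ ?_)) :)
    · rw [← map_mul, ← map_one ε]
      exact congrArg ε (Subtype.ext (by show π uc * π uc = 1; rw [← map_mul, hucc, map_one]))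
    · rw [← map_mul, ← map_one ε]
      exact congrArg ε (Subtype.ext (by show π tc * π tc = 1; rw [← map_mul, htc2, map_one]))
    · exact fun h => hu1 (congrArg Subtype.val (ε.injective (h.trans (map_one ε).symm)))
    · exact fun h => hb1 (congrArg Subtype.val (ε.injective (h.trans (map_one ε).symm)))

end Cfsg.Agent.SubThree
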